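import Cfsg.Agent.Schur.CoverKernel

/-!
A perfect stem extension without stem extensions of its own maps onto every other one.
-/

set_option autoImplicit false
set_option linter.style.haveILetI false

namespace Cfsg.Lib.OEightStd

open scoped commutatorElement

universe u

variable {Γ₀ Q : Type} [Group Γ₀] [Group Q] [Finite Γ₀] [Finite Q]

omit [Finite Q] in
/-- The cover maps onto every perfect stem extension. -/
theorem lift_surjective (π : Γ₀ →* Q) (hπ : Cfsg.IsStemExtension π) (hperf : commutator Γ₀ = ⊤)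
    (htriv : ∀ (Δ : Type) [Group Δ] [Finite Δ] (τ : Δ →* Γ₀), Cfsg.IsStemExtension τ → τ.ker = ⊥)
    {Γ : Type} [Group Γ] [Finite Γ] (σ : Γ →* Q) (hσ : Cfsg.IsStemExtension σ) :
    ∃ f : Γ₀ →* Γ, Function.Surjective f ∧ σ.comp f = π := by
  have hperfQ : commutator Q = ⊤ := by
    rw [commutator_def, ← Subgroup.map_top_of_surjective π hπ.1, ← Subgroup.map_commutator, ← commutator_def,
      hperf]
  have hperfΓ : commutator Γ = ⊤ := by
    refine eq_top_iff.mpr fun g _ => ?_
    obtain ⟨d, hd, hdg⟩ : σ g ∈ (commutator Γ).map σ := by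
      rw [commutator_def, Subgroup.map_commutator, Subgroup.map_top_of_surjective σ hσ.1, ← commutator_def,
        hperfQ]
      exact Subgroup.mem_top _
    have : d⁻¹ * g ∈ σ.ker := by rw [MonoidHom.mem_ker, map_mul, map_inv, hdg, inv_mul_cancel]
    simpa using (commutator Γ).mul_mem hd (hσ.2.2 this)
  obtain ⟨D, hD⟩ : ∃ D : Subgroup (Γ₀ × Γ),
      D = (π.comp (MonoidHom.fst Γ₀ Γ)).eqLocus (σ.comp (MonoidHom.snd Γ₀ Γ)) := ⟨_, rfl⟩
  have mem : ∀ p, p ∈ D ↔ π p.1 = σ p.2 := fun p => by subst hD; exact Iff.rfl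
  let p₁ : D →* Γ₀ := (MonoidHom.fst Γ₀ Γ).comp D.subtype
  let p₂ : D →* Γ := (MonoidHom.snd Γ₀ Γ).comp D.subtype
  have hs₁ : Function.Surjective p₁ := fun a => by
    obtain ⟨b, hb⟩ := hσ.1 (π a)
    exact ⟨⟨(a, b), (mem _).mpr hb.symm⟩, rfl⟩
  have hs₂ : Function.Surjective p₂ := fun b => by
    obtain ⟨a, ha⟩ := hπ.1 (σ b)
    exact ⟨⟨(a, b), (mem _).mpr ha⟩, rfl⟩
  have hcen : p₁.ker ≤ Subgroup.center D := fun x hx => by
    have hx' : (x : Γ₀ × Γ).1 = 1 := hx
    have hk : σ (x : Γ₀ × Γ).2 = 1 := by rw [← (mem _).mp x.2, hx', map_one]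
    refine Subgroup.mem_center_iff.mpr fun y => Subtype.ext (Prod.ext ?_ ?_)
    · show (y : Γ₀ × Γ).1 * (x : Γ₀ × Γ).1 = (x : Γ₀ × Γ).1 * (y : Γ₀ × Γ).1
      rw [hx', mul_one, one_mul]
    · exact Subgroup.mem_center_iff.mp (hσ.2.1 hk) _
  have him₁ : (commutator D).map p₁ = ⊤ := by
    rw [commutator_def, Subgroup.map_commutator, Subgroup.map_top_of_surjective p₁ hs₁, ← commutator_def, hperf]
  have him₂ : (commutator D).map p₂ = ⊤ := by
    rw [commutator_def, Subgroup.map_commutator, Subgroup.map_top_of_surjective p₂ hs₂, ← commutator_def, hperfΓ]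
  have hperfD : commutator (commutator D) = ⊤ := by
    have h1 : commutator D ≤ ⁅commutator D, commutator D⁆ := by
      refine Cfsg.Lib.Schur.commutator_eq_of_central hcen fun d => ?_
      obtain ⟨e, he, hed⟩ := (him₁ ▸ Subgroup.mem_top (p₁ d) : p₁ d ∈ (commutator D).map p₁)
      exact ⟨e, he, e⁻¹ * d, by rw [MonoidHom.mem_ker, map_mul, map_inv, hed, inv_mul_cancel],
        (mul_inv_cancel_left e d).symm⟩
    apply Subgroup.map_injective (commutator D).subtype_injective
    rw [Subgroup.map_subtype_commutator, ← MonoidHom.range_eq_map, Subgroup.range_subtype]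
    exact le_antisymm (Subgroup.commutator_le_self _) h1
  let τ : commutator D →* Γ₀ := p₁.comp (commutator D).subtype
  have hτs : Function.Surjective τ := fun a => by
    obtain ⟨e, he, hea⟩ := (him₁ ▸ Subgroup.mem_top a : a ∈ (commutator D).map p₁)
    exact ⟨⟨e, he⟩, hea⟩
  have hτ : Cfsg.IsStemExtension τ := ⟨hτs, fun x hx => Subgroup.mem_center_iff.mpr fun y =>
    Subtype.ext (Subgroup.mem_center_iff.mp (hcen (show (x : D) ∈ p₁.ker from hx)) y), by
      rw [hperfD]; exact le_top⟩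
  have hinj : Function.Injective τ := (MonoidHom.ker_eq_bot_iff τ).mp (htriv _ τ hτ)
  let eτ := MulEquiv.ofBijective τ ⟨hinj, hτs⟩
  let f : Γ₀ →* Γ := (p₂.comp (commutator D).subtype).comp eτ.symm.toMonoidHom
  refine ⟨f, fun b => ?_, MonoidHom.ext fun a => ?_⟩
  · obtain ⟨e, he, heb⟩ := (him₂ ▸ Subgroup.mem_top b : b ∈ (commutator D).map p₂)
    refine ⟨eτ ⟨e, he⟩, ?_⟩
    show p₂ ((eτ.symm (eτ ⟨e, he⟩) : commutator D) : D) = b
    rw [eτ.symm_apply_apply]
    exact heb
  · show σ ((((eτ.symm a : commutator D) : D) : Γ₀ × Γ).2) = π a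
    rw [← (mem _).mp ((eτ.symm a : commutator D) : D).2]
    exact congrArg π (eτ.apply_symm_apply a)

/-- Two homomorphisms from a perfect group agreeing modulo a central subgroup are equal. -/
theorem hom_eq_of_perfect {A : Type*} {B : Type u} [Group A] [Group B] (hA : commutator A = ⊤) {f g : A →* B}
    (h : ∀ a, (g a)⁻¹ * f a ∈ Subgroup.center B) : f = g := by
  have hm : ∀ a, ∀ y, y * ((g a)⁻¹ * f a) = (g a)⁻¹ * f a * y := fun a y => Subgroup.mem_center_iff.1 (h a) y
  let c : A →* Subgroup.center B := MonoidHom.mk' (fun a => ⟨(g a)⁻¹ * f a, h a⟩) fun a b => Subtype.ext (by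
    show (g (a * b))⁻¹ * f (a * b) = ((g a)⁻¹ * f a) * ((g b)⁻¹ * f b)
    rw [← mul_assoc ((g a)⁻¹ * f a), ← hm a (g b)⁻¹, map_mul, map_mul, mul_inv_rev]
    group)
  have hc : commutator A ≤ c.ker := by
    rw [commutator_def, Subgroup.commutator_le]
    intro a _ b _
    have hab : c a * c b = c b * c a := Subtype.ext ((Subgroup.mem_center_iff.1 (c a).2 (c b)).symm)
    rw [MonoidHom.mem_ker, commutatorElement_def, map_mul, map_mul, map_mul, map_inv, map_inv, hab,
      mul_inv_cancel_right, mul_inv_cancel]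
  refine MonoidHom.ext fun a => ?_
  have := congrArg Subtype.val (MonoidHom.mem_ker.1 (hc (hA ▸ Subgroup.mem_top a)) : c a = 1)
  exact (inv_mul_eq_one.1 this).symm

end Cfsg.Lib.OEightStd
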