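import Cfsg.Agent.OEightStd.Third
import Cfsg.Agent.OEightStd.Lift
import Cfsg.Agent.S0817

/-!
Every automorphism of the index-two subgroup is induced by the group of the root system, and a double cover of the
orthogonal group of plus type in dimension eight over two elements is that subgroup.
-/

set_option autoImplicit false
set_option maxRecDepth 100000
set_option linter.style.haveILetI false

namespace Cfsg.Lib.OEightStd

open Cfsg.Lib.PermCert Cfsg.Lib.CosetCert
open Cfsg.Lib.OEightCover (Cover imD toP)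

theorem card_aut_le : Nat.card (MulAut Pr) ≤ 348364800 := by
  classical
  let Sur : Type := {f : Cover →* Pr // Function.Surjective f}
  let q : Sur → (Cover →* Pr ⧸ Subgroup.center Pr) := fun f => (QuotientGroup.mk' _).comp f.1
  have hq : ∀ f, (q f).ker = toP.ker := fun f => by
    rw [← comap_center f.2, ← MonoidHom.comap_ker, QuotientGroup.ker_mk']
  have hqs : ∀ f, Function.Surjective (q f) := fun f => (QuotientGroup.mk'_surjective _).comp f.2
  let e : Sur → ((Cover ⧸ toP.ker) ≃* Pr ⧸ Subgroup.center Pr) := fun f =>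
    (QuotientGroup.quotientMulEquivOfEq (hq f).symm).trans (QuotientGroup.quotientKerEquivOfSurjective _ (hqs f))
  let f₀ : Sur := ⟨betaP 0, betaP_surjective 0⟩
  let Φ : Sur → MulAut (Cover ⧸ toP.ker) := fun f => (e f).trans (e f₀).symm
  have hΦ : Function.Injective Φ := fun f g h => by
    refine Subtype.ext (hom_eq_of_perfect OEightCover.cover_perfect fun a => ?_)
    have h1 : e f = e g := MulEquiv.ext fun x => (e f₀).symm.injective (DFunLike.congr_fun h x)
    have h2 : q f a = q g a := DFunLike.congr_fun h1 (QuotientGroup.mk a)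
    exact QuotientGroup.eq.1 h2.symm
  let ψ : Fin 3 × MulAut Pr → Sur := fun x =>
    ⟨x.2.toMonoidHom.comp (betaP x.1), x.2.surjective.comp (betaP_surjective x.1)⟩
  have hψ : Function.Injective ψ := by
    rintro ⟨j, α⟩ ⟨k, γ⟩ h
    have h' : ∀ g, α (betaP j g) = γ (betaP k g) := DFunLike.congr_fun (congrArg Subtype.val h)
    obtain rfl : j = k := by
      have h1 : zk j ∈ (betaP j).ker := by rw [ker_betaP, MonoidHom.mem_ker]; exact (beta_zk j j).2 rfl
      have h2 : betaP k (zk j) = 1 := γ.injective (by rw [← h', MonoidHom.mem_ker.1 h1, map_one, map_one])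
      exact ((beta_zk k j).1 (congrArg Subtype.val h2)).symm
    refine Prod.ext rfl (MulEquiv.ext fun x => ?_)
    obtain ⟨g, rfl⟩ := betaP_surjective j x
    exact h' g
  haveI : Finite (Cover ⧸ toP.ker) := inferInstance
  haveI : Finite (MulAut (Cover ⧸ toP.ker)) := Finite.of_injective (fun a => (a : Cover ⧸ toP.ker → Cover ⧸ toP.ker))
    fun a b h => MulEquiv.ext (congrFun h)
  have h := Nat.card_le_card_of_injective _ (hΦ.comp hψ)
  rw [Nat.card_prod, Nat.card_fin,
    Nat.card_congr (MulAut.congr (QuotientGroup.quotientKerEquivOfSurjective toP OEightCover.card_facts.2.2)).toEquiv,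
    Cfsg.Agent.S0817.result (F := ZMod 2) 2 1 le_rfl (by simp) 4 le_rfl, OEightCover.card_pomega] at h
  simp only [↓reduceIte] at h
  omega

theorem stab_root {w : P240} (hw : w ∈ W) (hc : ∀ p ∈ Pr, w * p = p * w) : w = 1 ∨ w = mneg := by
  obtain ⟨hreach, hstab, hfix⟩ := root_ok
  suffices key : ∀ v ∈ W, (∀ p ∈ Pr, v * p = p * v) → v 0 = 0 → v = 1 by
    have h0 : w 0 = 0 ∨ w 0 = mneg 0 := by
      have h := List.all_eq_true.1 hfix (w 0).val (List.mem_range.2 (w 0).isLt)
      simp only [Bool.or_eq_true, beq_iff_eq, List.any_eq_true, bne_iff_ne] at h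
      rcases h with (h | h) | ⟨u, hu, hne⟩
      · exact Or.inl (Fin.ext h)
      · exact Or.inr (Fin.ext (by rw [h, mneg_apply]; rfl))
      · refine absurd ?_ hne
        have h' := List.all_eq_true.1 hstab u hu
        simp only [Bool.and_eq_true, List.all_eq_true, decide_eq_true_eq, beq_iff_eq] at h'
        have hu3 : ∀ l ∈ u, l < 4 := fun l hl => Nat.lt_succ_of_lt (h'.1 l hl)
        have hm : wv u ∈ Pr := by
          rw [Pr_eq]
          exact lgp_wval let' (by simpa [inLetters] using h'.1)
        have hu0 : wv u 0 = 0 := Fin.ext ((wv_apply hu3 0).trans h'.2)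
        have e : wv u (w 0) = w 0 := by
          rw [← Equiv.Perm.mul_apply, ← hc _ hm, Equiv.Perm.mul_apply, hu0]
        rw [← wv_apply hu3, e]
    rcases h0 with h0 | h0
    · exact Or.inl (key w hw hc h0)
    · refine Or.inr ?_
      have h1 := key (mneg * w) (mul_mem mneg_mem hw)
        (fun p hp => by rw [mul_assoc, hc p hp, ← mul_assoc, ← comm_mneg (Pr_le hp), mul_assoc])
        (by rw [Equiv.Perm.mul_apply, h0, ← Equiv.Perm.mul_apply, mneg_sq, Equiv.Perm.one_apply])
      calc w = mneg * (mneg * w) := by rw [← mul_assoc, mneg_sq, one_mul]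
        _ = _ := by rw [h1, mul_one]
  intro v _ hv h0
  have hgrow : ∀ (L : List (ℕ × ℕ × ℕ)) (S : List ℕ), (∀ r ∈ S, ∃ x : Fin 240, x.val = r ∧ v x = x) →
      ∀ r ∈ spread L S, ∃ x : Fin 240, x.val = r ∧ v x = x := by
    intro L
    induction L with
    | nil => exact fun S hS => hS
    | cons e L ih =>
      intro S hS
      rw [spread]
      refine ih _ fun r hr => ?_
      cases hb : S.contains e.2.1 && decide (e.2.2 < 3) && (ap (lt4 e.2.2).1 e.2.1 == e.1)
      · rw [hb, cond_false] at hr
        exact hS r hr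
      · rw [hb, cond_true, List.mem_cons] at hr
        rcases hr with rfl | hr
        · simp only [Bool.and_eq_true, decide_eq_true_eq, beq_iff_eq, List.contains_iff_mem] at hb
          obtain ⟨⟨h1, h2⟩, h3⟩ := hb
          obtain ⟨y, hy, hfix⟩ := hS _ h1
          refine ⟨let' e.2.2 y, ?_, ?_⟩
          · rw [let', perm_apply (let_valid (Nat.lt_succ_of_lt h2)), hy]
            exact h3
          · rw [← Equiv.Perm.mul_apply, hv _ (let_mem_Pr h2), Equiv.Perm.mul_apply, hfix]
        · exact hS r hr
  refine Equiv.ext fun x => ?_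
  rw [Equiv.Perm.one_apply]
  obtain ⟨y, hy, hfix⟩ := hgrow orbRoot [0] (fun r hr => ⟨0, (List.mem_singleton.1 hr).symm, h0⟩) x.val
    (List.contains_iff_mem.1 (List.all_eq_true.1 hreach x.val (List.mem_range.2 x.isLt)))
  rwa [Fin.ext hy] at hfix

/-- Every automorphism of the index-two subgroup is a conjugation by the group of the root system. -/
theorem aut_inner (α : MulAut Pr) : ∃ w ∈ W, ∀ x : Pr, ((α x : Pr) : P240) = w * x * w⁻¹ := by
  let c : W →* MulAut Pr := MonoidHom.mk'
    (fun w =>
      { toFun := fun x => ⟨w * x * (w : P240)⁻¹, W_normal_Pr w.2 x.2⟩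
        invFun := fun x => ⟨(w : P240)⁻¹ * x * w, by
          have := W_normal_Pr (inv_mem w.2) x.2
          rwa [inv_inv] at this⟩
        left_inv := fun x => Subtype.ext (by simp [mul_assoc])
        right_inv := fun x => Subtype.ext (by simp [mul_assoc])
        map_mul' := fun x y => Subtype.ext (by simp [mul_assoc]) })
    fun a b => MulEquiv.ext fun x => Subtype.ext (by simp [mul_assoc])
  haveI : Finite (MulAut Pr) := Finite.of_injective (fun a => (a : Pr → Pr)) fun a b h => MulEquiv.ext (congrFun h)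
  have hk : Nat.card c.ker ≤ 2 := by
    have hle : c.ker ≤ (Subgroup.zpowers mneg).subgroupOf W := fun w hw => by
      refine Subgroup.mem_subgroupOf.2 ?_
      have hcomm : ∀ p ∈ Pr, (w : P240) * p = p * w := fun p hp => by
        have e' : ((c w ⟨p, hp⟩ : Pr) : P240) = p := by rw [MonoidHom.mem_ker.1 hw]; rfl
        exact mul_inv_eq_iff_eq_mul.1 e'
      rcases stab_root w.2 hcomm with e | e
      · rw [e]; exact one_mem _
      · rw [e]; exact Subgroup.mem_zpowers _
    refine (Subgroup.card_le_of_le hle).trans (le_of_eq ?_)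
    rw [Nat.card_congr (Subgroup.subgroupOfEquivOfLe (Subgroup.zpowers_le.2 mneg_mem)).toEquiv, Nat.card_zpowers]
    exact orderOf_eq_prime (by rw [pow_two, mneg_sq]) mneg_ne_one
  have h := Subgroup.card_mul_index c.ker
  rw [Subgroup.index_ker, card_W] at h
  have htop : c.range = ⊤ := by
    refine Subgroup.eq_top_of_card_eq _ (le_antisymm (Subgroup.card_le_card_group _) ?_)
    refine card_aut_le.trans ?_
    have := Nat.mul_le_mul_right (Nat.card c.range) hk
    omega
  obtain ⟨w, rfl⟩ := MonoidHom.range_eq_top.1 htop α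
  exact ⟨w, w.2, fun x => rfl⟩

/-- A double cover of the orthogonal group is the index-two subgroup. -/
theorem iso_Pr {Γ : Type*} [Group Γ] [Finite Γ] {F : Type*} [Field F] [Fintype F] (hF : Fintype.card F = 2)
    (hperf : commutator Γ = ⊤) (hZ : Nat.card (Subgroup.center Γ) = 2)
    (hX : Nonempty ((Γ ⧸ Subgroup.center Γ) ≃* Cfsg.POmega F (Cfsg.quadFormPlus 4 F))) : Nonempty (Γ ≃* Pr) := by
  haveI : Small.{0} Γ := Countable.toSmall Γ
  haveI : Finite (Shrink.{0} Γ) := Finite.of_equiv Γ (equivShrink Γ)
  let j : Shrink.{0} Γ ≃* Γ := Shrink.mulEquiv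
  obtain ⟨i⟩ := OEightCover.pomega_congr (ZMod.ringEquivOfPrime F Nat.prime_two hF) 4
  obtain ⟨eX⟩ := hX
  haveI : Finite (Cfsg.POmega (ZMod 2) OEightCover.qf) :=
    Nat.finite_of_card_ne_zero (by rw [OEightCover.card_pomega]; norm_num)
  let σ : Shrink.{0} Γ →* Cfsg.POmega (ZMod 2) OEightCover.qf :=
    ((i.symm.toMonoidHom.comp eX.toMonoidHom).comp (QuotientGroup.mk' _)).comp j.toMonoidHom
  have hs : Function.Surjective σ :=
    ((i.symm.surjective.comp eX.surjective).comp (QuotientGroup.mk'_surjective _)).comp j.surjective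
  have hker : ∀ x, x ∈ σ.ker ↔ j x ∈ Subgroup.center Γ := fun x => by
    simp only [σ, MonoidHom.mem_ker, MonoidHom.comp_apply, MulEquiv.coe_toMonoidHom,
      map_eq_one_iff i.symm i.symm.injective, map_eq_one_iff eX eX.injective]
    exact QuotientGroup.eq_one_iff _
  have hperf' : commutator (Shrink.{0} Γ) = ⊤ := by
    refine Subgroup.map_injective (f := j.toMonoidHom) j.injective ?_
    rw [commutator_def, Subgroup.map_commutator, Subgroup.map_top_of_surjective j.toMonoidHom j.surjective,
      ← commutator_def, hperf]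
  have hσ : Cfsg.IsStemExtension σ := ⟨hs, fun x hx => Subgroup.mem_center_iff.2 fun y => j.injective (by
    rw [map_mul, map_mul]; exact Subgroup.mem_center_iff.1 ((hker x).1 hx) (j y)), hperf' ▸ le_top⟩
  obtain ⟨f, hf, hcomp⟩ := lift_surjective toP
    ⟨OEightCover.card_facts.2.2, OEightCover.ker_le fun k hk => (OEightCover.zD_facts hk).2.1,
      by rw [OEightCover.cover_perfect]; exact le_top⟩
    OEightCover.cover_perfect (fun _ _ _ _ hτ => OEightCover.cover_ker_eq_bot hτ) σ hσ
  have hle : f.ker ≤ toP.ker := fun g hg => by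
    rw [MonoidHom.mem_ker, ← hcomp, MonoidHom.comp_apply, MonoidHom.mem_ker.1 hg, map_one]
  have hΓ : Nat.card Γ = 2 * 174182400 := by
    rw [Subgroup.card_eq_card_quotient_mul_card_subgroup (Subgroup.center Γ), hZ,
      Nat.card_congr (eX.trans i.symm).toEquiv, OEightCover.card_pomega]
  have h := Subgroup.card_mul_index f.ker
  rw [Subgroup.index_ker, MonoidHom.range_eq_top.2 hf, Subgroup.card_top, Nat.card_congr j.toEquiv, hΓ,
    OEightCover.card_cover] at h
  have h2 : Nat.card f.ker = 2 := by omega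
  obtain ⟨g, hg, hg1⟩ : ∃ g ∈ f.ker, g ≠ 1 := by
    by_contra hall
    push Not at hall
    rw [show f.ker = ⊥ from (Subgroup.eq_bot_iff_forall _).2 hall, Subgroup.card_bot] at h2
    omega
  obtain ⟨k, rfl⟩ := (ker_cases (hle hg)).resolve_left hg1
  have e : (betaP k).ker = f.ker := by
    rw [ker_betaP, (ker_beta k).1]
    refine Subgroup.eq_of_le_of_card_ge (Subgroup.zpowers_le.2 hg) ?_
    rw [h2, ← (ker_beta k).1, (ker_beta k).2]
  exact ⟨j.symm.trans ((QuotientGroup.quotientKerEquivOfSurjective f hf).symm.trans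
    ((QuotientGroup.quotientMulEquivOfEq e.symm).trans
      (QuotientGroup.quotientKerEquivOfSurjective _ (betaP_surjective k))))⟩

end Cfsg.Lib.OEightStd
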