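import Cfsg.Agent.OEightStd.AutData

/-!
The checks on the third action of the cover, the words of the second and third actions, and the first root.
-/

set_option autoImplicit false
set_option maxRecDepth 100000
set_option Elab.async false

namespace Cfsg.Lib.OEightStd

open Cfsg.Lib.PermCert Cfsg.Lib.CosetCert

/-- A map from the second roots to the first. -/
def psiT (i : ℕ) : ℕ := (psiTabs.getD (i / 24) []).getD (i % 24) 0

/-- A letter carries a map to a map. -/
def psiOK (l : ℕ) : Bool :=
  let p := psiLet.getD l 0
  let C := fun x => ap (OEightCover.tab l) (240 + x) - 240
  let D := fun x => ap (OEightCover.tab l) (480 + x) - 480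
  (List.range 240).all fun i => decide (ap p i < 240) && (ap sigP.1 (ap p i) == evalL (thirdWords.getD l []) (ap sigP.1 i)) &&
    (List.range 240).all fun r => C (ap (psiT i) r) == ap (psiT (ap p i)) (D r)

theorem psi_maps : ((List.range 240).all fun i => (List.range 240).all fun r => decide (ap (psiT i) r < 240)) = true := by
  decide +kernel

theorem psi_inj : ((List.range 240).all fun i => (List.range i).all fun j => ap (psiT i) 0 != ap (psiT j) 0) = true := by
  decide +kernel

theorem psi_0 : psiOK 0 = true := by decide +kernel
theorem psi_1 : psiOK 1 = true := by decide +kernel
theorem psi_2 : psiOK 2 = true := by decide +kernel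

theorem sig_valid : valid 240 sigP = true := by decide +kernel

/-- The words of the letters in one of the three actions. -/
def letWords (k l : ℕ) : List ℕ :=
  bif k == 0 then [l] else bif k == 1 then secondWords.getD l [] else thirdWords.getD l []

theorem letWords_lt : ((List.range 3).all fun k => (List.range 3).all fun l =>
    (letWords k l).all fun a => decide (a < 3)) = true := by decide +kernel

theorem second_ok : ((List.range 3).all fun l => (List.range 240).all fun r =>
    ap (OEightCover.tab l) (480 + r) - 480 == evalL (secondWords.getD l []) r) = true := by decide +kernel

/-- The words of the three central involutions. -/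
def zkWords (k : ℕ) : List ℕ :=
  bif k == 0 then (OEightCover.zWords.getD 1 ([], [], [])).1 else bif k == 1 then (OEightCover.zWords.getD 0 ([], [], [])).1
    else (OEightCover.zWords.getD 0 ([], [], [])).1 ++ (OEightCover.zWords.getD 1 ([], [], [])).1

theorem zk_ok : ((List.range 3).all fun k => ((zkWords k).all fun l => decide (l < 3)) &&
    (List.range 3).all fun j => (List.range 240).all (fun x => evalL ((zkWords k).flatMap (letWords j)) x == x) == (j == k)) = true := by
  decide +kernel

/-- The roots reached along a list of edges by letters. -/
def spread : List (ℕ × ℕ × ℕ) → List ℕ → List ℕ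
  | [], S => S
  | e :: r, S => spread r (bif S.contains e.2.1 && decide (e.2.2 < 3) && (ap (lt4 e.2.2).1 e.2.1 == e.1) then e.1 :: S else S)

theorem root_ok : ((List.range 240).all fun r => (spread orbRoot [0]).contains r) = true ∧
    (stabRoot.all fun w => (w.all fun l => decide (l < 3)) && evalL w 0 == 0) = true ∧
    ((List.range 240).all fun r => (r == 0) || (r == ng 0) || stabRoot.any fun w => evalL w r != r) = true := by
  decide +kernel

end Cfsg.Lib.OEightStd
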