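import Cfsg.Agent.OEightStd.Sylow

/-!
The order of the group of the root system; involutions and square roots of the negation up to conjugation.
-/

set_option autoImplicit false
set_option maxRecDepth 100000
set_option linter.style.haveILetI false

namespace Cfsg.Lib.OEightStd

open Cfsg.Lib.PermCert Cfsg.Lib.CosetCert
open Cfsg.Lib.OEightCover (Cover imD actC actA pairF)

theorem neg_word : ((OEightCover.zWords.getD 0 ([], [], [])).1.all fun l => decide (l < 3)) = true ∧
    ((List.range 240).all fun x => evalL (OEightCover.zWords.getD 0 ([], [], [])).1 x == ng x) = true := by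
  decide +kernel

theorem zD_actC : actC (OEightCover.zD 0) = mneg := by
  obtain ⟨hl, he⟩ := neg_word
  simp only [List.all_eq_true, decide_eq_true_eq, beq_iff_eq, List.mem_range] at hl he
  rw [OEightCover.zD, map_wval]
  refine Eq.trans ?_ (Equiv.ext fun x => Fin.ext ((wv_apply (fun l h => Nat.lt_succ_of_lt (hl l h)) x).trans
    ((he x.val x.isLt).trans (mneg_apply x).symm)))
  rw [wv, wval, wval]
  exact congrArg List.prod (List.map_congr_left fun l h => actC_let (hl l h))

theorem mneg_mem_Pr : mneg ∈ Pr := ⟨_, zD_actC⟩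

theorem mneg_mem : mneg ∈ W := Pr_le mneg_mem_Pr

theorem actA_of_actC {g : Cover} (hg : actC g = 1) : actA g = 1 := Equiv.ext fun p => by
  have hl := beq_iff_eq.1 (List.all_eq_true.1 OEightCover.pairs_two p.val (List.mem_range.2 p.isLt))
  obtain ⟨a, b, e⟩ := List.length_eq_two.1 hl
  have ha : a ∈ (List.range 240).filter fun r => OEightCover.pairOf r == p.val := by rw [e]; exact List.mem_cons_self
  obtain ⟨ha1, ha2⟩ := List.mem_filter.1 ha
  have hp : pairF ⟨a, List.mem_range.1 ha1⟩ = p := Fin.ext (beq_iff_eq.1 ha2)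
  have h := ((OEightCover.half_gen (by norm_num : 240 + 240 ≤ 720) (by norm_num : 0 + 120 ≤ 720) OEightCover.keepsC
    OEightCover.keepsA fun l hl => (OEightCover.half_ok hl).1).1.symm ▸ Subgroup.mem_top g :
      g ∈ OEightCover.equivar actC actA pairF) ⟨a, List.mem_range.1 ha1⟩
  simp only [show OEightCover.res 240 240 _ OEightCover.keepsC g = 1 from hg, Equiv.Perm.one_apply, hp] at h
  rw [Equiv.Perm.one_apply]
  first | exact h.symm | exact h

theorem kerA_actC {g : Cover} (hg : actA g = 1) : actC g = 1 ∨ actC g = mneg := by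
  have key : ∀ k : Cover, actA k = 1 → actC k OEightCover.root0 = OEightCover.root0 → actC k = 1 := fun k hk h0 =>
    OEightCover.half_fixed _ (by norm_num : 0 + 120 ≤ 720) OEightCover.keepsC OEightCover.keepsA
      (fun l hl => (OEightCover.half_ok hl).1) hk h0
  rcases (OEightCover.kerA_flip hg).1 with h | h
  · exact Or.inl (key g hg h)
  · refine Or.inr ?_
    have hz : actA (OEightCover.zD 0) = 1 :=
      MonoidHom.mem_ker.1 (OEightCover.ker_toP ▸ (OEightCover.zD_facts (k := 0) (by norm_num)).1)
    have h1 := key (OEightCover.zD 0 * g) (by rw [map_mul, hz, hg, one_mul]) (by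
      rw [map_mul, Equiv.Perm.mul_apply, h, zD_actC]
      refine Fin.ext ?_
      rw [mneg_apply]
      show ng (OEightCover.negOf OEightCover.root0.val) = OEightCover.root0.val
      have hn := beq_iff_eq.1 (List.all_eq_true.1 neg_ok.2.1 _ (List.mem_range.2 OEightCover.root0.isLt))
      rw [← hn]
      have h2 := List.all_eq_true.1 neg_ok.2.2 _ (List.mem_range.2 OEightCover.root0.isLt)
      simp only [Bool.and_eq_true, beq_iff_eq] at h2
      exact h2.1)
    rw [map_mul, zD_actC] at h1
    rw [← one_mul (actC g), ← mneg_sq, mul_assoc, h1, mul_one]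

theorem card_Pr : Nat.card Pr = 348364800 := by
  have hk : Nat.card actC.ker = 2 := by
    let f : actA.ker →* P240 := actC.comp actA.ker.subtype
    have hf : Nat.card f.range = 2 := by
      have e : f.range = Subgroup.zpowers mneg := by
        refine le_antisymm ?_ (Subgroup.zpowers_le.2
          ⟨⟨_, OEightCover.ker_toP ▸ (OEightCover.zD_facts (k := 0) (by norm_num)).1⟩, zD_actC⟩)
        rintro _ ⟨g, rfl⟩
        rcases kerA_actC g.2 with e | e
        · rw [show f g = 1 from e]; exact one_mem _
        · rw [show f g = mneg from e]; exact Subgroup.mem_zpowers _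
      rw [e, Nat.card_zpowers]
      exact orderOf_eq_prime (by rw [pow_two, mneg_sq]) mneg_ne_one
    have hA : Nat.card actA.ker = 4 := OEightCover.ker_toP ▸ OEightCover.card_facts.2.1
    have h := Subgroup.card_mul_index f.ker
    rw [Subgroup.index_ker, hf, hA] at h
    have e2 : Nat.card f.ker = Nat.card actC.ker := Nat.card_congr
      { toFun := fun x => ⟨x.1.1, x.2⟩
        invFun := fun x => ⟨⟨x.1, actA_of_actC x.2⟩, x.2⟩
        left_inv := fun _ => rfl
        right_inv := fun _ => rfl }
    omega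
  have h := Subgroup.card_mul_index actC.ker
  rw [Subgroup.index_ker, hk, OEightCover.card_cover] at h
  show Nat.card actC.range = _
  omega

theorem card_W : Nat.card W = 696729600 := by
  let f : W →* ℤˣ := (Equiv.Perm.sign : P240 →* ℤˣ).comp W.subtype
  have hk : f.ker = Pr.subgroupOf W := by
    ext x
    rw [MonoidHom.mem_ker, Subgroup.mem_subgroupOf, sign_iff x.2]
    rfl
  have hs : Function.Surjective f := fun u => by
    rcases Int.units_eq_one_or u with rfl | rfl
    · exact ⟨1, map_one f⟩
    · exact ⟨⟨let' 3, let_mem (by norm_num)⟩, sign_let_three⟩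
  have h := Subgroup.card_mul_index f.ker
  rw [Subgroup.index_ker, MonoidHom.range_eq_top.2 hs, Subgroup.card_top, hk,
    Nat.card_congr (Subgroup.subgroupOfEquivOfLe Pr_le).toEquiv, card_Pr,
    Nat.card_eq_fintype_card, Fintype.card_units_int] at h
  omega

/-- A subgroup of two-power order is conjugate into the Sylow subgroup. -/
theorem conj_into_S {T : Subgroup P240} (hT : T ≤ W) (hp : IsPGroup 2 T) :
    ∃ w ∈ W, ∀ x ∈ T, w * x * w⁻¹ ∈ S := by
  have : Fact (Nat.Prime 2) := ⟨Nat.prime_two⟩
  have hv : Nat.card (S.subgroupOf W) = 2 ^ (Nat.card W).factorization 2 := by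
    rw [Nat.card_congr (Subgroup.subgroupOfEquivOfLe S_le).toEquiv, card_S, card_W]
    refine congrArg _ (le_antisymm ?_ ?_)
    · exact (Nat.prime_two.pow_dvd_iff_le_factorization (by norm_num)).1 (by norm_num)
    · by_contra hc
      have := (Nat.prime_two.pow_dvd_iff_le_factorization (by norm_num : (696729600 : ℕ) ≠ 0)).2
        (show 15 ≤ (696729600 : ℕ).factorization 2 by omega)
      norm_num at this
  let P : Sylow 2 W := Sylow.ofCard _ hv
  obtain ⟨Q, hQ⟩ := (hp.of_equiv (Subgroup.subgroupOfEquivOfLe hT).symm).exists_le_sylow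
  obtain ⟨w, hw⟩ := MulAction.exists_smul_eq W Q P
  refine ⟨w, w.2, fun x hx => ?_⟩
  have hm : w * ⟨x, hT hx⟩ * w⁻¹ ∈ ((w • Q : Sylow 2 W) : Subgroup W) := by
    rw [Sylow.coe_subgroup_smul]
    exact ⟨⟨x, hT hx⟩, hQ (Subgroup.mem_subgroupOf.2 hx), rfl⟩
  rw [hw] at hm
  exact Subgroup.mem_subgroupOf.1 hm

/-- A representative. -/
def rp (c : ℕ) : P240 := perm 240 (reps.getD c ([], (0, 0))).2

theorem rp_spec {c : ℕ} (hc : c < 11) : valid 240 (reps.getD c ([], (0, 0))).2 = true ∧ rp c ∈ W := by
  obtain ⟨hlen, hall, -⟩ := moves_ok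
  have h := el_spec (List.all_eq_true.1 hall _ (List.getElem_mem (hlen.symm ▸ hc : c < reps.length)))
  rw [rp, List.getD_eq_getElem _ _ (hlen.symm ▸ hc : c < reps.length)]
  exact ⟨h.1, h.2.2⟩

theorem testBit_maskOf : ∀ (L : List ℕ) (m i : ℕ),
    (L.foldl (fun m i => m ||| 1 <<< i) m).testBit i = true → m.testBit i = true ∨ i ∈ L
  | [], _, _, h => Or.inl h
  | a :: L, m, i, h => by
    rcases testBit_maskOf L _ i h with h | h
    · rw [Nat.testBit_or, Bool.or_eq_true, Nat.one_shiftLeft, Nat.testBit_two_pow, decide_eq_true_eq] at h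
      exact h.imp id fun e => by subst e; exact List.mem_cons_self
    · exact Or.inr (List.mem_cons_of_mem _ h)

/-- The element named by the digits is conjugate to a representative. -/
def Known (e : ℕ) : Prop := ∃ c < 11, ∃ w ∈ W, w * se e * w⁻¹ = rp c

theorem move_known {m : ℕ × ℕ × El} (hm : m ∈ moves) : Known m.1 := by
  have h := List.all_eq_true.1 moves_ok.2.2 m hm
  simp only [Bool.and_eq_true, decide_eq_true_eq] at h
  obtain ⟨⟨⟨-, hc⟩, hel⟩, he⟩ := h
  obtain ⟨hv, -, hw⟩ := el_spec hel
  obtain ⟨hrv, hr⟩ := rp_spec hc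
  refine ⟨_, hc, _, hw, mul_inv_eq_iff_eq_mul.2 (ext8 (mul_mem hw (se_mem _)) (mul_mem hr hw) fun k => Fin.ext ?_)⟩
  simp only [Equiv.Perm.mul_apply, rp, perm_apply hrv, perm_apply hv, se_apply]
  exact onBase_iff.1 he k

theorem step_known {i a k : ℕ} (hk : k < 14)
    (he : onBase (fun p => evS i (ap (pcT k).1 p)) (fun p => ap (pcT k).1 (evS a p)) = true) (ha : Known a) :
    Known i := by
  obtain ⟨c, hc, w, hw, e⟩ := ha
  obtain ⟨-, hg⟩ := pg_spec hk
  have h1 : se i * pg k = pg k * se a := ext8 (mul_mem (se_mem _) hg) (mul_mem hg (se_mem _)) fun j => Fin.ext (by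
    simp only [Equiv.Perm.mul_apply, se_apply, (pg_apply hk _).1]
    exact onBase_iff.1 he j)
  refine ⟨c, hc, w * (pg k)⁻¹, mul_mem hw (inv_mem hg), ?_⟩
  rw [← e, mul_inv_rev, inv_inv]
  calc w * (pg k)⁻¹ * se i * (pg k * w⁻¹) = w * (pg k)⁻¹ * (se i * pg k) * w⁻¹ := by group
    _ = _ := by rw [h1]; group

theorem grow_sound : ∀ (L : List (ℕ × ℕ × ℕ)) (m m' : ℕ), grow m L = some m' →
    (∀ i, m.testBit i = true → Known i) → ∀ i, m'.testBit i = true → Known i
  | [], _, _, h, hm, i, hi => by
    cases Option.some.inj h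
    exact hm i hi
  | (i', a, k) :: r, m, m', h, hm, i, hi => by
    unfold grow at h
    cases hcond : (m.testBit a && decide (k < 14) && decide (i' < 16384) &&
        onBase (fun p => evS i' (ap (pcT k).1 p)) (fun p => ap (pcT k).1 (evS a p)))
    · rw [hcond, cond_false] at h
      exact absurd h (by simp)
    · rw [hcond, cond_true] at h
      simp only [Bool.and_eq_true, decide_eq_true_eq] at hcond
      refine grow_sound r _ _ h (fun j hj => ?_) i hi
      rw [Nat.testBit_or, Bool.or_eq_true, Nat.one_shiftLeft, Nat.testBit_two_pow, decide_eq_true_eq] at hj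
      rcases hj with hj | rfl
      · exact hm j hj
      · exact step_known hcond.1.1.2 hcond.2 (hm a hcond.1.1.1)

theorem listed_known {e : ℕ} (he : e ∈ invList ++ jList) : Known e := by
  have h := grow_ok
  cases hg : grow (maskOf (moves.map Prod.fst)) orbSteps.flatten with
  | none => rw [hg] at h; exact Bool.noConfusion h
  | some m =>
    rw [hg] at h
    refine grow_sound _ _ _ hg (fun i hi => ?_) e (List.all_eq_true.1 h e he)
    rcases testBit_maskOf _ _ _ hi with hi | hi
    · simp at hi
    · obtain ⟨mv, hmv, rfl⟩ := List.mem_map.1 hi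
      exact move_known hmv

/-- An involution, or a square root of the negation, is conjugate to a representative. -/
theorem conj_rep {x : P240} (hx : x ∈ W) (h2 : x * x = 1 ∨ x * x = mneg) : ∃ c < 11, ∃ w ∈ W, w * x * w⁻¹ = rp c := by
  have hp : IsPGroup 2 (Subgroup.zpowers x) := IsPGroup.of_card_dvd_pow (n := 2) (by
    rw [Nat.card_zpowers]
    refine orderOf_dvd_of_pow_eq_one ?_
    rw [show (2 : ℕ) ^ 2 = 2 * 2 from rfl, pow_mul, pow_two x]
    rcases h2 with h | h <;> simp [h, pow_two, mneg_sq])
  obtain ⟨w₀, hw₀, hS⟩ := conj_into_S (Subgroup.zpowers_le.2 hx) hp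
  obtain ⟨e, he, hse⟩ := mem_S (hS x (Subgroup.mem_zpowers x))
  have hsq : se e * se e = w₀ * (x * x) * w₀⁻¹ := by rw [hse]; group
  have hlist : e ∈ invList ++ jList := by
    rw [List.mem_append]
    rcases h2 with h | h
    · refine Or.inl ?_
      rw [← inv_complete, List.mem_filter, List.mem_range, onBase_iff]
      refine ⟨he, fun k => ?_⟩
      have := congrArg (fun q : P240 => (q (sp k)).val) hsq
      simpa [h, se_apply] using this
    · refine Or.inr ?_
      rw [← j_complete, List.mem_filter, List.mem_range, onBase_iff]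
      refine ⟨he, fun k => ?_⟩
      have hc : w₀ * mneg * w₀⁻¹ = mneg := by rw [comm_mneg hw₀, mul_inv_cancel_right]
      rw [h, hc] at hsq
      have := congrArg (fun q : P240 => (q (sp k)).val) hsq
      simpa [se_apply, mneg_apply] using this
  obtain ⟨c, hc, w, hw, e'⟩ := listed_known hlist
  exact ⟨c, hc, w * w₀, mul_mem hw hw₀, by rw [← e', hse, mul_inv_rev]; group⟩

/-- An involution is conjugate to a representative inside the index-two subgroup. -/
theorem conj_rep_even {x : P240} (hx : x ∈ W) (h2 : x * x = 1) : ∃ c < 10, ∃ w ∈ Pr, w * x * w⁻¹ = rp c := by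
  obtain ⟨c, hc, w, hw, e⟩ := conj_rep hx (Or.inl h2)
  have hc' : c < 10 := by
    by_contra hge
    obtain rfl : c = 10 := by omega
    have h : rp 10 * rp 10 = 1 := by
      rw [← e]
      calc w * x * w⁻¹ * (w * x * w⁻¹) = w * (x * x) * w⁻¹ := by group
        _ = 1 := by rw [h2]; group
    have hk : ((List.range 240).any fun p =>
        ap (reps.getD 10 ([], (0, 0))).2.1 (ap (reps.getD 10 ([], (0, 0))).2.1 p) != p) = true := by decide +kernel
    obtain ⟨p, hp, hne⟩ := List.any_eq_true.1 hk
    rw [bne_iff_ne] at hne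
    have := congrArg (fun q : P240 => (q ⟨p, List.mem_range.1 hp⟩).val) h
    simp only [Equiv.Perm.mul_apply, rp, perm_apply (rp_spec (show 10 < 11 by norm_num)).1,
      Equiv.Perm.one_apply] at this
    exact hne this
  by_cases hs : w ∈ Pr
  · exact ⟨c, hc', w, hs, e⟩
  · obtain ⟨hlen, hall⟩ := odc_ok
    have h := List.all_eq_true.1 hall c (List.mem_range.2 hc')
    simp only [Bool.and_eq_true, beq_iff_eq] at h
    obtain ⟨⟨hel, hodd⟩, hcomm⟩ := h
    obtain ⟨hv, he, hd⟩ := el_spec hel
    have hsd : ∀ L : List ℕ, (∀ l ∈ L, l < 4) →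
            Equiv.Perm.sign (wv L) = (-1) ^ (L.filter fun l => l == 3).length := by
      intro L
      induction L with
      | nil => intro _; simp [wv, wval]
      | cons l L ih =>
        intro hL
        have e2 : wv (l :: L) = let' l * wv L := by simp [wv, wval]
        rw [e2, map_mul, ih fun a ha => hL a (List.mem_cons_of_mem _ ha), List.filter_cons]
        by_cases h3 : l = 3
        · subst h3; simp [sign_let_three, pow_succ']
        · have hl := hL l List.mem_cons_self
          simp [h3, sign_Pr (let_mem_Pr (show l < 3 by omega))]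
    have hl4 : ∀ l ∈ (odcs.getD c ([], (0, 0))).1, l < 4 := by
      simp only [elOK, Bool.and_eq_true, List.all_eq_true, decide_eq_true_eq] at hel
      exact hel.1.1
    have hd' : Equiv.Perm.sign (perm 240 (odcs.getD c ([], (0, 0))).2) = -1 := by
      rw [he, hsd _ hl4]
      exact Odd.neg_one_pow (Nat.odd_iff.2 hodd)
    set d := perm 240 (odcs.getD c ([], (0, 0))).2
    have hr := rp_spec (show c < 11 by omega)
    have hdc : d * rp c = rp c * d := ext8 (mul_mem hd hr.2) (mul_mem hr.2 hd) fun k => Fin.ext (by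
      simp only [Equiv.Perm.mul_apply, d, rp, perm_apply hv, perm_apply hr.1]
      exact onBase_iff.1 hcomm k)
    refine ⟨c, hc', d * w, ?_, ?_⟩
    · rw [sign_iff (mul_mem hd hw), map_mul]
      have hw' : Equiv.Perm.sign w = -1 := (Int.units_eq_one_or _).resolve_left fun h1 => hs ((sign_iff hw).2 h1)
      rw [hd', hw']
      exact (by decide : (-1 : ℤˣ) * -1 = 1)
    · calc d * w * x * (d * w)⁻¹ = d * (w * x * w⁻¹) * d⁻¹ := by group
        _ = rp c := by rw [e, hdc, mul_inv_cancel_right]

end Cfsg.Lib.OEightStd
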