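import Cfsg.Agent.OEightStd.Facts

/-!
An element of order three commuting with an involution with eight fixed roots permutes the four lines negated by it.
-/

set_option autoImplicit false
set_option maxRecDepth 100000
set_option linter.style.haveILetI false

namespace Cfsg.Lib.OEightStd

open Cfsg.Lib.PermCert Cfsg.Lib.CosetCert

/-- The four roots. -/
def Q4 : List (Fin 240) := [rA, rB, rC, rD]

theorem Q4_facts : (pm Q4).card = 8 ∧ ∀ r, r ∈ Q4 → r ∈ pm Q4 := by
  refine ⟨by decide +kernel, fun r hr => mem_pm.2 (Or.inl hr)⟩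

theorem mneg_mneg (r : Fin 240) : mneg (mneg r) = r := by
  rw [← Equiv.Perm.mul_apply, mneg_sq, Equiv.Perm.one_apply]

theorem w_mneg {w : P240} (hw : w ∈ W) (r : Fin 240) : w (mneg r) = mneg (w r) := by
  rw [← Equiv.Perm.mul_apply, comm_mneg hw, Equiv.Perm.mul_apply]

theorem fix_of_Q4 {w : P240} (hw : w ∈ W) (h : ∀ r ∈ pm Q4, w r = r) : w ∈ fixS [rD, rC, rB, rA] :=
  ⟨hw, fun r hr => h r (mem_pm.2 (Or.inl (by
    simp only [Q4, List.mem_cons, List.not_mem_nil, or_false] at hr ⊢; tauto)))⟩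

theorem eq_one_three {M : Type*} [Group M] {y : M} (h3 : y * y * y = 1) (h2 : y * y = 1) : y = 1 := by
  rw [h2, one_mul] at h3; exact h3

theorem mem_pm4 {a b c d r : Fin 240} :
    r ∈ pm [a, b, c, d] ↔ (r = a ∨ r = mneg a) ∨ (r = b ∨ r = mneg b) ∨ (r = c ∨ r = mneg c) ∨ (r = d ∨ r = mneg d) := by
  have e : ∀ t, mneg r = t ↔ r = mneg t :=
    fun t => ⟨fun h => by rw [← h, mneg_mneg], fun h => by rw [h, mneg_mneg]⟩
  rw [mem_pm]
  simp only [List.mem_cons, List.not_mem_nil, or_false, e]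
  tauto

/-- The three lines moved and the line fixed. -/
theorem three_lines {y : P240} (hy : y ∈ W) (h3 : y * y * y = 1) (hne : y ≠ 1) (hc : y * rp 9 = rp 9 * y) :
    ∃ r ∈ pm Q4, ∃ a ∈ pm Q4, y r = r ∧ y a ≠ a ∧ (∀ s ∈ pm Q4, y s = s → s = r ∨ s = mneg r) ∧
      pm Q4 ⊆ pm [r, a, y a, y (y a)] := by
  have hQ : ∀ s ∈ pm Q4, y s ∈ pm Q4 := fun s hs => (neg_rp _).2.2.2.1 (keep_neg hy hc ((neg_rp s).2.2.2.2 hs))
  have h3' : ∀ s, y (y (y s)) = s := fun s => by
    rw [← Equiv.Perm.mul_apply, ← Equiv.Perm.mul_apply, h3, Equiv.Perm.one_apply]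
  obtain ⟨a, ha, hya⟩ : ∃ a ∈ pm Q4, y a ≠ a := by
    by_contra h
    push Not at h
    obtain ⟨-, -, -, hsq⟩ := fix_quad (fix_of_Q4 hy h)
    exact hne (eq_one_three h3 hsq)
  have hya2 : y (y a) ≠ a := fun e => hya (by
    have := congrArg y e
    rw [h3'] at this
    exact this.symm)
  have hya3 : y (y a) ≠ y a := fun e => hya (y.injective e)
  have hneg : ∀ b, y b ≠ b → mneg b ≠ y b := fun b hb e => by
    have e2 : y (y b) = b := by rw [← e, w_mneg hy, ← e, mneg_mneg]
    have := congrArg y e2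
    rw [h3'] at this
    exact hb this.symm
  have hneg2 : mneg a ≠ y (y a) := fun e => by
    have e1 : y (mneg a) = a := by rw [e, h3']
    rw [w_mneg hy] at e1
    have e2 := congrArg mneg e1
    rw [mneg_mneg] at e2
    exact hneg a hya e2.symm
  have hcard : ({a, y a, y (y a), mneg a, mneg (y a), mneg (y (y a))} : Finset (Fin 240)).card = 6 := by
    have n1 := mneg_ne a
    have n2 := mneg_ne (y a)
    have n3 := mneg_ne (y (y a))
    have m1 : a ≠ mneg (y a) := fun e => hneg a hya (by rw [e, mneg_mneg]; rw [← e])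
    have m2 : a ≠ mneg (y (y a)) := fun e => hneg2 (by rw [e, mneg_mneg]; rw [← e])
    have m3 : y a ≠ mneg (y (y a)) := fun e => hneg (y a) hya3 (by rw [e, mneg_mneg]; rw [← e])
    have m4 : mneg (y a) ≠ y (y a) := hneg (y a) hya3
    rw [Finset.card_insert_of_notMem, Finset.card_insert_of_notMem, Finset.card_insert_of_notMem,
      Finset.card_insert_of_notMem, Finset.card_insert_of_notMem, Finset.card_singleton]
    all_goals simp only [Finset.mem_insert, Finset.mem_singleton, not_or, mneg.injective.eq_iff]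
    · exact hya3.symm
    · exact ⟨Ne.symm hya, Ne.symm hya2⟩
    · exact ⟨fun e => hneg2 e.symm, fun e => m4 e.symm, Ne.symm n3⟩
    · exact ⟨hya3.symm, fun e => hneg a hya e.symm, Ne.symm n2, m3⟩
    · exact ⟨Ne.symm hya, Ne.symm hya2, Ne.symm n1, m1, m2⟩
  have hM : ({a, y a, y (y a), mneg a, mneg (y a), mneg (y (y a))} : Finset (Fin 240)) ⊆ pm Q4 := by
    intro s hs
    simp only [Finset.mem_insert, Finset.mem_singleton] at hs
    rcases hs with rfl | rfl | rfl | rfl | rfl | rfl
    exacts [ha, hQ _ ha, hQ _ (hQ _ ha), pm_neg ha, pm_neg (hQ _ ha), pm_neg (hQ _ (hQ _ ha))]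
  set M : Finset (Fin 240) := {a, y a, y (y a), mneg a, mneg (y a), mneg (y (y a))}
  have hd : (pm Q4 \ M).card = 2 := by rw [Finset.card_sdiff_of_subset hM, Q4_facts.1, hcard]
  obtain ⟨r, hr⟩ : (pm Q4 \ M).Nonempty := Finset.card_pos.1 (by omega)
  obtain ⟨hrQ, hrM⟩ := Finset.mem_sdiff.1 hr
  have hMy : ∀ s, y s ∈ M → s ∈ M := by
    intro s hs
    have hs' : s = y (y (y s)) := (h3' s).symm
    simp only [M, Finset.mem_insert, Finset.mem_singleton] at hs ⊢
    rcases hs with e | e | e | e | e | e <;> rw [hs', e]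
    · exact Or.inr (Or.inr (Or.inl rfl))
    · exact Or.inl (h3' a)
    · exact Or.inr (Or.inl (by rw [h3']))
    · exact Or.inr (Or.inr (Or.inr (Or.inr (Or.inr (by rw [w_mneg hy, w_mneg hy])))))
    · exact Or.inr (Or.inr (Or.inr (Or.inl (by rw [w_mneg hy, w_mneg hy, h3']))))
    · exact Or.inr (Or.inr (Or.inr (Or.inr (Or.inl (by rw [w_mneg hy, w_mneg hy, h3'])))))
  have hMn : ∀ s, mneg s ∈ M → s ∈ M := by
    intro s hs
    have hs' : s = mneg (mneg s) := (mneg_mneg s).symm
    simp only [M, Finset.mem_insert, Finset.mem_singleton] at hs ⊢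
    rcases hs with e | e | e | e | e | e <;> rw [hs', e]
    · exact Or.inr (Or.inr (Or.inr (Or.inl rfl)))
    · exact Or.inr (Or.inr (Or.inr (Or.inr (Or.inl rfl))))
    · exact Or.inr (Or.inr (Or.inr (Or.inr (Or.inr rfl))))
    · exact Or.inl (mneg_mneg a)
    · exact Or.inr (Or.inl (mneg_mneg _))
    · exact Or.inr (Or.inr (Or.inl (mneg_mneg _)))
  have hnr : mneg r ∈ pm Q4 \ M := Finset.mem_sdiff.2 ⟨pm_neg hrQ, fun h => hrM (hMn r h)⟩
  have hpair : pm Q4 \ M = {r, mneg r} := (Finset.eq_of_subset_of_card_le (by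
    intro s hs
    simp only [Finset.mem_insert, Finset.mem_singleton] at hs
    rcases hs with rfl | rfl
    exacts [hr, hnr]) (by rw [hd, Finset.card_pair (mneg_ne r).symm])).symm
  have hyr : y r = r := by
    have := hpair ▸ Finset.mem_sdiff.2 ⟨hQ r hrQ, fun h => hrM (hMy r h)⟩
    simp only [Finset.mem_insert, Finset.mem_singleton] at this
    rcases this with h | h
    · exact h
    · refine absurd h fun h => mneg_ne r ?_
      have e2 : y (y r) = r := by rw [h, w_mneg hy, h, mneg_mneg]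
      have := congrArg y e2
      rw [h3', h] at this
      exact this.symm
  refine ⟨r, hrQ, a, ha, hyr, hya, fun s hs hsy => ?_, fun s hs => ?_⟩
  · by_cases hsM : s ∈ M
    · exfalso
      simp only [M, Finset.mem_insert, Finset.mem_singleton] at hsM
      rcases hsM with e | e | e | e | e | e <;> rw [e] at hsy
      · exact hya hsy
      · exact hya3 hsy
      · exact hya2 (by rw [h3'] at hsy; exact hsy.symm)
      · rw [w_mneg hy] at hsy; exact hya (mneg.injective hsy)
      · rw [w_mneg hy] at hsy; exact hya3 (mneg.injective hsy)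
      · rw [w_mneg hy, h3'] at hsy; exact hya2 (mneg.injective hsy).symm
    · have := hpair ▸ Finset.mem_sdiff.2 ⟨hs, hsM⟩
      simpa using this
  · by_cases hsM : s ∈ M
    · simp only [M, Finset.mem_insert, Finset.mem_singleton] at hsM
      rw [mem_pm4]
      rcases hsM with h | h | h | h | h | h
      exacts [Or.inr (Or.inl (Or.inl h)), Or.inr (Or.inr (Or.inl (Or.inl h))), Or.inr (Or.inr (Or.inr (Or.inl h))),
        Or.inr (Or.inl (Or.inr h)), Or.inr (Or.inr (Or.inl (Or.inr h))), Or.inr (Or.inr (Or.inr (Or.inr h)))]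
    · have := hpair ▸ Finset.mem_sdiff.2 ⟨hs, hsM⟩
      simp only [Finset.mem_insert, Finset.mem_singleton] at this
      rw [mem_pm4]
      exact Or.inl this

/-- No nine elements commute with an involution with eight fixed roots. -/
theorem nine_e {x a b : P240} (hx : x ∈ W) (h2 : x * x = 1) (hf : fc x = 8) (ha : a ∈ W) (hb : b ∈ W) (h : Nine2 a b)
    (hca : a * x = x * a) (hcb : b * x = x * b) : False := by
  obtain ⟨v, hv, e⟩ := conj_cls hx h2 (show 9 < 10 by norm_num) hf
  have hvW := Pr_le hv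
  have H := h.conj v
  have hyW : v * a * v⁻¹ ∈ W := mul_mem (mul_mem hvW ha) (inv_mem hvW)
  have hwW : v * b * v⁻¹ ∈ W := mul_mem (mul_mem hvW hb) (inv_mem hvW)
  have hcy := e ▸ conj_comm (v := v) hca
  have hcw := e ▸ conj_comm (v := v) hcb
  generalize v * a * v⁻¹ = y at H hyW hcy
  generalize v * b * v⁻¹ = w at H hwW hcw
  obtain ⟨r, hr, c, hc, hyr, hyc, hfixed, hall⟩ := three_lines hyW H.ca H.na hcy
  have hwQ : ∀ s ∈ pm Q4, w s ∈ pm Q4 := fun s hs => (neg_rp _).2.2.2.1 (keep_neg hwW hcw ((neg_rp s).2.2.2.2 hs))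
  have hyw : ∀ s, y (w s) = w (y s) := fun s => by rw [← Equiv.Perm.mul_apply, H.comm, Equiv.Perm.mul_apply]
  have hw3 : ∀ s, w (w (w s)) = s := fun s => by
    rw [← Equiv.Perm.mul_apply, ← Equiv.Perm.mul_apply, H.cb, Equiv.Perm.one_apply]
  have hwr : w r = r := by
    rcases hfixed (w r) (hwQ r hr) (by rw [hyw, hyr]) with h | h
    · exact h
    · refine absurd ?_ (mneg_ne r)
      have := hw3 r
      rw [h, w_mneg hwW, h, mneg_mneg, h] at this
      exact this
  have kill : ∀ u : P240, u ∈ W → u * u * u = 1 → u ≠ 1 → (∀ s, y (u s) = u (y s)) → u r = r → u c ≠ c := by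
    intro u hu h3 hne hcomm hur huc
    refine hne (eq_one_three h3 (fix_quad (fix_of_Q4 hu fun s hs => ?_)).choose_spec.2.2)
    have h1 : u (y c) = y c := by rw [← hcomm, huc]
    have h2' : u (y (y c)) = y (y c) := by rw [← hcomm, h1]
    rcases mem_pm4.1 (hall hs) with ((rfl | rfl) | (rfl | rfl) | (rfl | rfl) | (rfl | rfl)) <;>
      first | assumption | simp [w_mneg hu, hur, huc, h1, h2']
  have hpow : ∀ u : P240, u ∈ W → u * u * u = 1 → u c ≠ mneg c := by
    intro u hu h3 e
    refine mneg_ne c ?_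
    have : u (u (u c)) = c := by rw [← Equiv.Perm.mul_apply, ← Equiv.Perm.mul_apply, h3, Equiv.Perm.one_apply]
    rw [e, w_mneg hu, e, mneg_mneg, e] at this
    exact this
  have hy3 : ∀ s, y (y (y s)) = s := fun s => by
    rw [← Equiv.Perm.mul_apply, ← Equiv.Perm.mul_apply, H.ca, Equiv.Perm.one_apply]
  have hC : Commute y w := H.comm
  have p3 : ∀ t : P240, t ^ 3 = t * t * t := fun t => by rw [pow_three, mul_assoc]
  have hd1 : (y * w) * (y * w) * (y * w) = 1 := by
    have := (hC.mul_pow 3)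
    rw [p3, p3, p3, H.ca, H.cb, one_mul] at this
    exact this
  have hd2 : (y * y * w) * (y * y * w) * (y * y * w) = 1 := by
    have := ((hC.mul_left hC).mul_pow 3)
    rw [p3, p3, p3, H.cb,
      show y * y * (y * y) * (y * y) = (y * y * y) * (y * y * y) by group, H.ca, one_mul, one_mul] at this
    exact this
  have hd1ne : y * w ≠ 1 := H.nab
  have hd2ne : y * y * w ≠ 1 := fun e => H.nab2 (by
    have hwy : w = y := by
      calc w = (y * y * y) * w := by rw [H.ca, one_mul]
        _ = y * (y * y * w) := by group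
        _ = y := by rw [e, mul_one]
    rw [hwy]; exact H.ca)
  have hwc : w c ∈ pm Q4 := hwQ c hc
  rcases mem_pm4.1 (hall hwc) with ((e | e) | (e | e) | (e | e) | (e | e))
  · have := hw3 c; rw [e, hwr, hwr] at this; rw [this] at hyr; exact hyc hyr
  · have := hw3 c; rw [e, w_mneg hwW, hwr, w_mneg hwW, hwr] at this
    rw [← this, w_mneg hyW, hyr] at hyc; exact hyc rfl
  · exact kill w hwW H.cb H.nb hyw hwr e
  · exact hpow w hwW H.cb e
  · refine kill (y * y * w) (mul_mem (mul_mem hyW hyW) hwW) hd2 hd2ne (fun s => ?_) ?_ ?_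
    · simp only [Equiv.Perm.mul_apply, hyw]
    · simp [hyr, hwr]
    · simp [e, hy3]
  · refine hpow (y * y * w) (mul_mem (mul_mem hyW hyW) hwW) hd2 ?_
    simp [e, w_mneg hyW, hy3]
  · refine kill (y * w) (mul_mem hyW hwW) hd1 hd1ne (fun s => ?_) ?_ ?_
    · simp only [Equiv.Perm.mul_apply, hyw]
    · simp [hyr, hwr]
    · simp [e, hy3]
  · refine hpow (y * w) (mul_mem hyW hwW) hd1 ?_
    simp [e, w_mneg hyW, hy3]

/-- An involution with twenty-four fixed roots commuting with an element of order three and with the representative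
with eight fixed roots distinguishes one of the four lines. -/
theorem line_base {u y : P240} (hu : u ∈ W) (u2 : u * u = 1) (uf : fc u = 24) (hy : y ∈ W) (y3 : y * y * y = 1)
    (y1 : y ≠ 1) (cu : u * rp 9 = rp 9 * u) (cy : y * rp 9 = rp 9 * y) (cuy : u * y = y * u) :
    (∃ r, rp 9 r = mneg r ∧ ∀ w ∈ W, w * rp 9 = rp 9 * w → w * u = u * w → w r = r ∨ w r = mneg r) ∧
      (fc (u * rp 9) = 60 ∨ fc (u * rp 9) = 4) := by
  obtain ⟨r, hr, a, ha, hyr, hya, hfixed, hall⟩ := three_lines hy y3 y1 cy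
  have hQ : ∀ {v : P240}, v ∈ W → v * rp 9 = rp 9 * v → ∀ s ∈ pm Q4, v s ∈ pm Q4 := fun hv hc s hs =>
    (neg_rp _).2.2.2.1 (keep_neg hv hc ((neg_rp s).2.2.2.2 hs))
  have huy : ∀ s, u (y s) = y (u s) := fun s => by rw [← Equiv.Perm.mul_apply, cuy, Equiv.Perm.mul_apply]
  have hu2 : ∀ s, u (u s) = s := fun s => by rw [← Equiv.Perm.mul_apply, u2, Equiv.Perm.one_apply]
  have hy3 : ∀ s, y (y (y s)) = s := fun s => by
    rw [← Equiv.Perm.mul_apply, ← Equiv.Perm.mul_apply, y3, Equiv.Perm.one_apply]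
  obtain hur : u r = r ∨ u r = mneg r := hfixed _ (hQ hu cu r hr) (by rw [← huy, hyr])
  have hua : u a = a ∨ u a = mneg a := by
    rcases mem_pm4.1 (hall (hQ hu cu a ha)) with ((e | e) | (e | e) | (e | e) | (e | e))
    · exfalso
      have h := hu2 a
      rw [e] at h
      rcases hur with h' | h' <;> rw [h'] at h
      · exact hya (h ▸ hyr)
      · exact hya (by rw [← h, w_mneg hy, hyr])
    · exfalso
      have h := hu2 a
      rw [e, w_mneg hu] at h
      rcases hur with h' | h' <;> rw [h'] at h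
      · exact hya (by rw [← h, w_mneg hy, hyr])
      · rw [mneg_mneg] at h; exact hya (h ▸ hyr)
    · exact Or.inl e
    · exact Or.inr e
    · exfalso
      have h := hu2 a
      rw [e, huy, e] at h
      have h' := congrArg y h
      rw [hy3] at h'
      exact hya h'.symm
    · exfalso
      have h := hu2 a
      rw [e, w_mneg hu, huy, e, w_mneg hy, mneg_mneg] at h
      have h' := congrArg y h
      rw [hy3] at h'
      exact hya h'.symm
    · exfalso
      have h := hu2 a
      rw [e, huy, huy, e, hy3] at h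
      exact hya h
    · exfalso
      have h := hu2 a
      rw [e, w_mneg hu, huy, huy, e, w_mneg hy, w_mneg hy, mneg_mneg, hy3] at h
      exact hya h
  -- the sign on the moved lines and on the fixed one
  obtain ⟨i, hi, hri⟩ : ∃ i < 4, r = Q4.getD i 0 ∨ r = mneg (Q4.getD i 0) := by
    rcases mem_pm4.1 hr with h | h | h | h
    exacts [⟨0, by norm_num, h⟩, ⟨1, by norm_num, h⟩, ⟨2, by norm_num, h⟩, ⟨3, by norm_num, h⟩]
  have oX := rpE_ok (show 9 < 11 by norm_num)
  have oR := qr_ok hi
  obtain ⟨vA, vB, vC, vD⟩ := root_val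
  have hrefl : ∀ q ∈ pm Q4, qr i q = if q = r ∨ q = mneg r then mneg q else q := by
    obtain ⟨-, -, -, -, -, -, -, -, -, hall4, -⟩ := roots_ok'
    have h := Bool.and_eq_true_iff.1 (List.all_eq_true.1 hall4 i (List.mem_range.2 hi))
    have hn : ∀ s, qr i s = mneg s ↔ s ∈ pm [Q4.getD i 0] := fun s => neg_iff oR (by
      interval_cases i <;> simp [Q4, vA, vB, vC, vD]) h.1 s
    have hQ' : ∀ q ∈ Q4, qr i q = if q = r ∨ q = mneg r then mneg q else q := by
      intro q hq
      have h' := beq_iff_eq.1 (List.all_eq_true.1 h.2 q.val (by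
        simp only [Q4, List.mem_cons, List.not_mem_nil, or_false] at hq ⊢
        rcases hq with rfl | rfl | rfl | rfl <;> simp [vA, vB, vC, vD]))
      split
      · next hqr =>
        refine (hn q).2 (mem_pm_one.2 ?_)
        rcases hqr with e | e <;> rcases hri with e' | e' <;> rw [e, e']
        · exact Or.inl rfl
        · exact Or.inr rfl
        · exact Or.inr rfl
        · exact Or.inl (mneg_mneg _)
      · next hqr =>
        refine Fin.ext ?_
        rw [qr, ← prodE_one, prodE_apply (allOK_cons oR allOK_nil), h']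
        rw [cond_eq_if, if_neg]
        intro he
        rw [beq_iff_eq] at he
        refine hqr ?_
        have : q = Q4.getD i 0 := Fin.ext (by rw [he]; interval_cases i <;> simp [Q4, vA, vB, vC, vD])
        rcases hri with e' | e'
        · exact Or.inl (this.trans e'.symm)
        · exact Or.inr (by rw [e', mneg_mneg]; exact this)
    intro q hq
    rcases mem_pm.1 hq with h' | h'
    · exact hQ' q h'
    · have e := hQ' _ h'
      rw [w_mneg (qr_mem hi)] at e
      have hiff : (mneg q = r ∨ mneg q = mneg r) ↔ (q = r ∨ q = mneg r) := by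
        constructor
        · rintro (h | h)
          · exact Or.inr (by rw [← h, mneg_mneg])
          · exact Or.inl (mneg.injective h)
        · rintro (h | h) <;> rw [h]
          · exact Or.inr rfl
          · exact Or.inl (mneg_mneg r)
      simp only [hiff] at e
      split at e <;> rename_i hc <;> simp only [hc, if_true, if_false] <;> exact mneg.injective e
  have hX : ∀ q ∈ pm Q4, rp 9 q = mneg q := fun q hq => (neg_rp q).2.2.2.2 hq
  have hon : ∀ q ∈ pm Q4, (u a = a → ¬(q = r ∨ q = mneg r) → u q = q) ∧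
      (u a = mneg a → ¬(q = r ∨ q = mneg r) → u q = mneg q) := by
    intro q hq
    constructor <;> intro he hne
    · have h1 : u (y a) = y a := by rw [huy, he]
      have h2 : u (y (y a)) = y (y a) := by rw [huy, h1]
      rcases mem_pm4.1 (hall hq) with h | (rfl | rfl) | (rfl | rfl) | (rfl | rfl)
      · exact absurd h hne
      all_goals simp [w_mneg hu, he, h1, h2]
    · have h1 : u (y a) = mneg (y a) := by rw [huy, he, w_mneg hy]
      have h2 : u (y (y a)) = mneg (y (y a)) := by rw [huy, h1, w_mneg hy]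
      rcases mem_pm4.1 (hall hq) with h | (rfl | rfl) | (rfl | rfl) | (rfl | rfl)
      · exact absurd h hne
      all_goals simp [w_mneg hu, he, h1, h2]
  have huniq : (u a = a ∧ u r = mneg r ∨ u a = mneg a ∧ u r = r) →
      ∀ w ∈ W, w * rp 9 = rp 9 * w → w * u = u * w → w r = r ∨ w r = mneg r := by
    intro hmix w hw hwX hwu
    have hwr : u (w r) = w (u r) := by rw [← Equiv.Perm.mul_apply, ← hwu, Equiv.Perm.mul_apply]
    by_contra hno
    have h := hon (w r) (hQ hw hwX r hr)
    rcases hmix with ⟨h1, h2⟩ | ⟨h1, h2⟩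
    · rw [h.1 h1 hno, h2, w_mneg hw] at hwr
      exact mneg_ne _ hwr.symm
    · rw [h.2 h1 hno, h2] at hwr
      exact mneg_ne _ hwr
  have hset : ∀ (R H : List El), (R = [] ∨ R = [quadRefl.getD i ([], (0, 0))]) → (H = [] ∨ H = [rpE 9]) →
      (∀ q ∈ pm Q4, u q = prodE (R ++ H) q) → R = [quadRefl.getD i ([], (0, 0))] ∧
        (fc (u * rp 9) = 60 ∨ fc (u * rp 9) = 4) := by
    intro R H hR hH hag
    have okR : AllOK R := by rcases hR with rfl | rfl; exacts [allOK_nil, allOK_cons oR allOK_nil]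
    have okH : AllOK H := by rcases hH with rfl | rfl; exacts [allOK_nil, allOK_cons oX allOK_nil]
    have okRH : AllOK (R ++ H) := fun E hE => (List.mem_append.1 hE).elim (okR E) (okH E)
    set g := prodE (R ++ H)
    have hgW : g ∈ W := prodE_mem okRH
    have hgQ : ∀ q ∈ pm Q4, g⁻¹ q ∈ pm Q4 := fun q hq => by
      have hpres : ∀ q ∈ pm Q4, g q ∈ pm Q4 := fun q hq => hag q hq ▸ hQ hu cu q hq
      have hi := Finset.image_subset_iff.2 (fun q hq => hpres q hq)
      have he := Finset.eq_of_subset_of_card_le hi (by rw [Finset.card_image_of_injective _ g.injective])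
      obtain ⟨p, hp, hpq⟩ := Finset.mem_image.1 (he.symm ▸ hq)
      rw [← hpq, Equiv.Perm.coe_inv, Equiv.symm_apply_apply]
      exact hp
    obtain ⟨k, hk, hs, -⟩ := fix_quad (fix_of_Q4 (mul_mem hu (inv_mem hgW)) fun q hq => by
      rw [Equiv.Perm.mul_apply, hag _ (hgQ q hq), Equiv.Perm.coe_inv, Equiv.apply_symm_apply])
    have hkq : quad.getD k ([], (0, 0)) ∈ quad := by
      rw [List.getD_eq_getElem _ _ (quad_ok.1.symm ▸ hk)]; exact List.getElem_mem _
    have okS := stab_ok.2.2.2.1 _ hkq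
    have hu' : u = prodE (quad.getD k ([], (0, 0)) :: (R ++ H)) := by
      rw [prodE_cons, ← hs, inv_mul_cancel_right]
    have okU : AllOK (quad.getD k ([], (0, 0)) :: (R ++ H)) := allOK_cons okS okRH
    have hfR : R ∈ [[]] ++ quadRefl.map fun r => [r] := by
      rcases hR with rfl | rfl
      · simp
      · refine List.mem_append_right _ (List.mem_map.2 ⟨_, ?_, rfl⟩)
        rw [List.getD_eq_getElem _ _ (quadRefl_len ▸ hi)]; exact List.getElem_mem _
    have hfH : H ∈ [[], [rpE 9]] := by rcases hH with rfl | rfl <;> simp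
    have hl := List.all_eq_true.1 (List.all_eq_true.1 (List.all_eq_true.1 line_ok _ hkq) R hfR) H hfH
    rw [hu', fc_prodE okU] at uf
    simp only [uf, bne_self_eq_false, Bool.false_or, Bool.and_eq_true, Bool.not_eq_true', Bool.or_eq_true,
      beq_iff_eq] at hl
    refine ⟨hR.resolve_left fun e => ?_, ?_⟩
    · rw [e] at hl; exact Bool.noConfusion hl.1
    · have okUX : AllOK (quad.getD k ([], (0, 0)) :: (R ++ H) ++ [rpE 9]) :=
        fun E hE => (List.mem_append.1 hE).elim (okU E) (allOK_cons oX allOK_nil E)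
      rw [hu', ← pel_rpE, ← prodE_one, ← prodE_append, fc_prodE okUX]
      exact hl.2
  have pR : prodE ([quadRefl.getD i ([], (0, 0))] ++ [rpE 9]) = qr i * rp 9 := by
    simp [prodE, qr, pel_rpE]
  rcases hua with ha' | ha' <;> rcases hur with hr' | hr'
  · exfalso
    have := (hset [] [] (Or.inl rfl) (Or.inl rfl) fun q hq => by
      by_cases hqr : q = r ∨ q = mneg r
      · rcases hqr with e | e <;> rw [e] <;> simp [prodE, w_mneg hu, hr']
      · rw [(hon q hq).1 ha' hqr]; simp [prodE]).1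
    simp at this
  · refine ⟨⟨r, hX r hr, huniq (Or.inl ⟨ha', hr'⟩)⟩, (hset _ [] (Or.inr rfl) (Or.inl rfl) fun q hq => ?_).2⟩
    rw [List.append_nil, prodE_one]
    show u q = qr i q
    rw [hrefl q hq]
    by_cases hqr : q = r ∨ q = mneg r
    · rw [if_pos hqr]; rcases hqr with e | e <;> rw [e] <;> simp [w_mneg hu, hr']
    · rw [if_neg hqr, (hon q hq).1 ha' hqr]
  · refine ⟨⟨r, hX r hr, huniq (Or.inr ⟨ha', hr'⟩)⟩, (hset _ _ (Or.inr rfl) (Or.inr rfl) fun q hq => ?_).2⟩
    rw [pR, Equiv.Perm.mul_apply, hX q hq, w_mneg (qr_mem hi), hrefl q hq]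
    by_cases hqr : q = r ∨ q = mneg r
    · rw [if_pos hqr, mneg_mneg]; rcases hqr with e | e <;> rw [e] <;> simp [w_mneg hu, hr']
    · rw [if_neg hqr, (hon q hq).2 ha' hqr]
  · exfalso
    have := (hset [] [rpE 9] (Or.inl rfl) (Or.inr rfl) fun q hq => by
      rw [List.nil_append, prodE_one, pel_rpE, hX q hq]
      by_cases hqr : q = r ∨ q = mneg r
      · rcases hqr with e | e <;> rw [e] <;> simp [w_mneg hu, hr', mneg_mneg]
      · rw [(hon q hq).2 ha' hqr]).1
    simp at this

/-- The same for every involution with eight fixed roots. -/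
theorem line {X u y : P240} (hX : X ∈ W) (X2 : X * X = 1) (Xf : fc X = 8) (hu : u ∈ W) (u2 : u * u = 1) (uf : fc u = 24)
    (hy : y ∈ W) (y3 : y * y * y = 1) (y1 : y ≠ 1) (cu : u * X = X * u) (cy : y * X = X * y) (cuy : u * y = y * u) :
    (∃ r, X r = mneg r ∧ ∀ w ∈ W, w * X = X * w → w * u = u * w → w r = r ∨ w r = mneg r) ∧
      (fc (u * X) = 60 ∨ fc (u * X) = 4) := by
  obtain ⟨v, hv, e⟩ := conj_cls hX X2 (show 9 < 10 by norm_num) Xf
  have hvW := Pr_le hv
  have hmem : ∀ {x : P240}, x ∈ W → v * x * v⁻¹ ∈ W := fun hx => mul_mem (mul_mem hvW hx) (inv_mem hvW)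
  obtain ⟨⟨r, hr, huniq⟩, hfc⟩ := line_base (hmem hu)
    (by rw [show v * u * v⁻¹ * (v * u * v⁻¹) = v * (u * u) * v⁻¹ by group, u2]; group) (by rw [fc_conj, uf]) (hmem hy)
    (by rw [show v * y * v⁻¹ * (v * y * v⁻¹) * (v * y * v⁻¹) = v * (y * y * y) * v⁻¹ by group, y3]; group)
    (fun h => y1 (conj_eq_one_iff.1 h)) (e ▸ conj_comm cu) (e ▸ conj_comm cy) (conj_comm cuy)
  refine ⟨⟨v⁻¹ r, ?_, fun w hw hwX hwu => ?_⟩, ?_⟩
  · have := neg_conj (inv_mem hvW) hr
    rwa [← e, inv_inv, show v⁻¹ * (v * X * v⁻¹) * v = X by group] at this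
  · have h := huniq _ (hmem hw) (e ▸ conj_comm hwX) (conj_comm hwu)
    simp only [Equiv.Perm.mul_apply] at h
    rcases h with h | h
    · exact Or.inl (v.injective (by rw [h, Equiv.Perm.coe_inv, Equiv.apply_symm_apply]))
    · exact Or.inr (v.injective (by rw [h, w_mneg hvW, Equiv.Perm.coe_inv, Equiv.apply_symm_apply]))
  · rw [← e, show v * u * v⁻¹ * (v * X * v⁻¹) = v * (u * X) * v⁻¹ by group, fc_conj] at hfc
    exact hfc

end Cfsg.Lib.OEightStd
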