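import Cfsg.Agent.OEightStd.Aut
import Cfsg.Agent.OEightStd.Lines
import Cfsg.Agent.InvolCalc.ZStarApps
import Cfsg.Agent.TwoFusion.FusionTools
import Cfsg.Prelude.Def_Local

/-!
A standard subgroup isomorphic to the index-two subgroup of the group of the root system: elements normalizing it
act as elements of that group, and elements of order three commuting with a pair project into it.
-/

set_option autoImplicit false
set_option linter.unusedSectionVars false
set_option linter.style.haveILetI false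

namespace Cfsg.Lib.OEightStd

open Cfsg Subgroup

universe u
variable {G : Type u} [Group G] [Finite G] (L : Subgroup G)

/-- The data of the problem. -/
structure Ctx (L : Subgroup G) where
  std : IsStandardSubgroup L
  e : L ≃* Pr
  cyc : ∀ R : Sylow 2 (centralizer (L : Set G)), IsCyclic (R : Subgroup (centralizer (L : Set G)))

/-- The subgroup generated by the elements of order three commuting with two elements. -/
def D3 (a b : G) : Subgroup G := closure {x | x * x * x = 1 ∧ x * a = a * x ∧ x * b = b * x}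

theorem D3_comm (a b : G) : D3 a b = D3 b a := by
  unfold D3; congr 1; ext x; exact and_congr_right fun _ => and_comm

theorem D3_conj {a b x : G} (g : G) (h : x ∈ D3 a b) : g * x * g⁻¹ ∈ D3 (g * a * g⁻¹) (g * b * g⁻¹) := by
  induction h using Subgroup.closure_induction with
  | mem y hy =>
    refine subset_closure ⟨?_, ?_, ?_⟩
    · rw [show g * y * g⁻¹ * (g * y * g⁻¹) * (g * y * g⁻¹) = g * (y * y * y) * g⁻¹ by group, hy.1]; group
    · rw [show g * y * g⁻¹ * (g * a * g⁻¹) = g * (y * a) * g⁻¹ by group, hy.2.1]; group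
    · rw [show g * y * g⁻¹ * (g * b * g⁻¹) = g * (y * b) * g⁻¹ by group, hy.2.2]; group
  | one => simp
  | mul y y' _ _ ha hb => have := mul_mem ha hb; simpa [mul_assoc] using this
  | inv y _ ha => have := inv_mem ha; simpa [mul_assoc] using this

theorem D3_left {a b x : G} (h : x ∈ D3 a b) : x * a = a * x := by
  induction h using Subgroup.closure_induction with
  | mem y hy => exact hy.2.1
  | one => simp
  | mul y y' _ _ ha hb => rw [mul_assoc, hb, ← mul_assoc, ha, mul_assoc]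
  | inv y _ ha => rw [← mul_left_inj y, inv_mul_cancel_right, mul_assoc, ← ha, ← mul_assoc, inv_mul_cancel, one_mul]

theorem D3_right {a b x : G} (h : x ∈ D3 a b) : x * b = b * x := D3_left (D3_comm a b ▸ h)

namespace Ctx

variable {L} (X : Ctx L)
include X

/-- The elements of the subgroup named by permutations. -/
noncomputable def lf : Pr →* G := L.subtype.comp X.e.symm.toMonoidHom

theorem lf_mem (p : Pr) : X.lf p ∈ L := (X.e.symm p).2

theorem lf_inj : Function.Injective X.lf := Subtype.val_injective.comp X.e.symm.injective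

/-- An element of the subgroup with its permutation. -/
def Rep (x : G) (p : P240) : Prop := ∃ hp : p ∈ Pr, X.lf ⟨p, hp⟩ = x

variable {X}

theorem Rep.mem {x : G} {p : P240} (h : X.Rep x p) : x ∈ L := by
  obtain ⟨hp, rfl⟩ := h; exact X.lf_mem _

theorem Rep.mem_Pr {x : G} {p : P240} (h : X.Rep x p) : p ∈ Pr := h.1

theorem Rep.mem_W {x : G} {p : P240} (h : X.Rep x p) : p ∈ W := Pr_le h.1

theorem Rep.one : X.Rep 1 1 := ⟨one_mem _, map_one X.lf⟩

theorem Rep.mul {x y : G} {p q : P240} (h : X.Rep x p) (k : X.Rep y q) : X.Rep (x * y) (p * q) := by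
  obtain ⟨hp, rfl⟩ := h
  obtain ⟨hq, rfl⟩ := k
  exact ⟨mul_mem hp hq, map_mul X.lf ⟨p, hp⟩ ⟨q, hq⟩⟩

theorem Rep.inv {x : G} {p : P240} (h : X.Rep x p) : X.Rep x⁻¹ p⁻¹ := by
  obtain ⟨hp, rfl⟩ := h
  exact ⟨inv_mem hp, map_inv X.lf ⟨p, hp⟩⟩

theorem Rep.uniq {x : G} {p q : P240} (h : X.Rep x p) (k : X.Rep x q) : p = q := by
  obtain ⟨hp, rfl⟩ := h
  obtain ⟨hq, e⟩ := k
  exact (congrArg Subtype.val (X.lf_inj e)).symm

theorem Rep.elt_eq {x y : G} {p : P240} (h : X.Rep x p) (k : X.Rep y p) : x = y := by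
  obtain ⟨hp, rfl⟩ := h
  obtain ⟨hq, rfl⟩ := k
  rfl

theorem Rep.comm_iff {x y : G} {p q : P240} (h : X.Rep x p) (k : X.Rep y q) : x * y = y * x ↔ p * q = q * p :=
  ⟨fun e => (h.mul k).uniq (e ▸ k.mul h), fun e => (h.mul k).elt_eq (e ▸ k.mul h)⟩

variable (X)

theorem rep_exists {x : G} (hx : x ∈ L) : ∃ p, X.Rep x p :=
  ⟨(X.e ⟨x, hx⟩ : P240), (X.e ⟨x, hx⟩).2, by simp [lf]⟩

theorem elt_exists {p : P240} (hp : p ∈ Pr) : ∃ x, X.Rep x p := ⟨_, hp, rfl⟩

/-- The central involution. -/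
noncomputable def z : G := X.lf ⟨mneg, mneg_mem_Pr⟩

theorem z_rep : X.Rep X.z mneg := ⟨mneg_mem_Pr, rfl⟩

theorem z_mem : X.z ∈ L := X.z_rep.mem

theorem z_comm {a : G} (ha : a ∈ L) : a * X.z = X.z * a := by
  obtain ⟨p, hp⟩ := X.rep_exists ha
  exact (hp.comm_iff X.z_rep).2 (comm_mneg hp.mem_W)

theorem z_centralizer : X.z ∈ centralizer (L : Set G) := mem_centralizer_iff.mpr fun _ ha => X.z_comm ha

theorem z_sq : X.z * X.z = 1 := (X.z_rep.mul X.z_rep).elt_eq (by rw [mneg_sq]; exact Rep.one)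

theorem z_ne : X.z ≠ 1 := fun e => mneg_ne_one (X.z_rep.uniq (e ▸ Rep.one))

theorem orderOf_z : orderOf X.z = 2 := orderOf_eq_prime (by rw [pow_two, X.z_sq]) X.z_ne

theorem inter_cases {a : G} (ha : a ∈ L) (hc : a ∈ centralizer (L : Set G)) : a = 1 ∨ a = X.z := by
  obtain ⟨p, hp⟩ := X.rep_exists ha
  have hcomm : ∀ q ∈ Pr, p * q = q * p := fun q hq => by
    obtain ⟨y, hy⟩ := X.elt_exists hq
    exact (hp.comm_iff hy).1 (mem_centralizer_iff.mp hc y hy.mem).symm
  rcases stab_root hp.mem_W hcomm with e | e <;> rw [e] at hp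
  · exact Or.inl (hp.elt_eq Rep.one)
  · exact Or.inr (hp.elt_eq X.z_rep)

theorem unique_invol {R : Type*} [Group R] [Finite R] [IsCyclic R] {x y : R} (hx : orderOf x = 2) (hy : orderOf y = 2) :
    x = y := by
  let _ := Fintype.ofFinite R
  have hd : 2 ∣ Fintype.card R := by rw [← Nat.card_eq_fintype_card, ← hx]; exact orderOf_dvd_natCard x
  have h := IsCyclic.card_orderOf_eq_totient (α := R) hd
  rw [Nat.totient_two] at h
  exact Finset.card_le_one.mp h.le x (by simp [hx]) y (by simp [hy])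

theorem mem_sylow_center (R : Sylow 2 (centralizer (L : Set G))) :
    (⟨X.z, X.z_centralizer⟩ : centralizer (L : Set G)) ∈ (R : Subgroup (centralizer (L : Set G))) := by
  have : Fact (Nat.Prime 2) := ⟨Nat.prime_two⟩
  set x : centralizer (L : Set G) := ⟨X.z, X.z_centralizer⟩
  have hn : (zpowers x).Normal := by
    refine ⟨fun y hy g => ?_⟩
    obtain ⟨k, rfl⟩ := mem_zpowers_iff.mp hy
    have hg : g * x = x * g := Subtype.ext (mem_centralizer_iff.mp g.2 X.z X.z_mem).symm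
    rw [(Commute.zpow_right hg k).eq, mul_inv_cancel_right]
    exact zpow_mem (mem_zpowers x) k
  have hp : IsPGroup 2 (zpowers x) :=
    IsPGroup.of_card_dvd_pow (n := 1) (by
      rw [Nat.card_zpowers, pow_one]
      exact orderOf_dvd_of_pow_eq_one (Subtype.ext (by rw [pow_two]; exact X.z_sq)))
  obtain ⟨Q, hQ⟩ := hp.exists_le_sylow
  obtain ⟨g, hg⟩ := MulAction.exists_smul_eq (centralizer (L : Set G)) Q R
  have hxQ : g⁻¹ * x * g ∈ (Q : Subgroup _) := by
    have := hn.conj_mem x (mem_zpowers x) g⁻¹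
    rw [inv_inv] at this
    exact hQ this
  rw [← hg, Sylow.coe_subgroup_smul]
  exact ⟨g⁻¹ * x * g, hxQ, by simp [MulAut.conj_apply, mul_assoc]⟩

theorem invol_eq {x : G} (hx : x ∈ centralizer (L : Set G)) (h2 : x * x = 1) : x = 1 ∨ x = X.z := by
  by_contra h
  push Not at h
  have : Fact (Nat.Prime 2) := ⟨Nat.prime_two⟩
  set y : centralizer (L : Set G) := ⟨x, hx⟩
  have hy : orderOf y = 2 := orderOf_eq_prime (Subtype.ext (by rw [pow_two]; exact h2)) fun e => h.1 (congrArg Subtype.val e)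
  obtain ⟨R, hR⟩ := (IsPGroup.of_card_dvd_pow (n := 1) (p := 2) (G := zpowers y)
    (by rw [Nat.card_zpowers, hy, pow_one])).exists_le_sylow
  have := X.cyc R
  have e := unique_invol X (x := (⟨y, hR (mem_zpowers y)⟩ : (R : Subgroup (centralizer (L : Set G)))))
    (y := ⟨⟨X.z, X.z_centralizer⟩, X.mem_sylow_center R⟩) (by rw [Subgroup.orderOf_mk]; exact hy)
    (by rw [Subgroup.orderOf_mk, Subgroup.orderOf_mk]; exact X.orderOf_z)
  exact h.2 (congrArg (fun r : (R : Subgroup (centralizer (L : Set G))) => ((r : centralizer (L : Set G)) : G)) e)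

theorem centralizer_z : centralizer ({X.z} : Set G) = normalizer (L : Set G) := by
  refine le_antisymm (fun g hg => ?_) fun g hg => ?_
  · rw [X.std.2.2.2]
    by_contra hgN
    have hodd := X.std.2.1.2 g hgN
    have hz : X.z ∈ (centralizer (L : Set G)).map (MulAut.conj g).toMonoidHom := by
      refine ⟨X.z, X.z_centralizer, ?_⟩
      show g * X.z * g⁻¹ = X.z
      rw [mem_centralizer_singleton_iff.mp hg, mul_inv_cancel_right]
    have hd := Subgroup.orderOf_dvd_natCard _ (Subgroup.mem_inf.2 ⟨X.z_centralizer, hz⟩)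
    rw [X.orderOf_z] at hd
    obtain ⟨k, hk⟩ := hodd
    omega
  · have hzA : g * X.z * g⁻¹ ∈ L := (mem_normalizer_iff.mp hg X.z).mp X.z_mem
    have hzC : g * X.z * g⁻¹ ∈ centralizer (L : Set G) := mem_centralizer_iff.mpr fun a ha => by
      have ha' : g⁻¹ * a * g ∈ L := by
        have := (mem_normalizer_iff.mp (inv_mem hg) a).mp ha
        rwa [inv_inv] at this
      have := X.z_comm ha'
      calc a * (g * X.z * g⁻¹) = g * (g⁻¹ * a * g * X.z) * g⁻¹ := by group
        _ = g * (X.z * (g⁻¹ * a * g)) * g⁻¹ := by rw [this]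
        _ = _ := by group
    rcases X.inter_cases hzA hzC with h | h
    · rw [conj_eq_one_iff] at h; exact absurd h X.z_ne
    · exact mem_centralizer_singleton_iff.mpr (mul_inv_eq_iff_eq_mul.mp h)

/-- An element acting on the subgroup as a permutation of the roots. -/
def Ind (n : G) (w : P240) : Prop := w ∈ W ∧ ∀ x p, X.Rep x p → X.Rep (n * x * n⁻¹) (w * p * w⁻¹)

theorem ind_exists {n : G} (hn : n * X.z = X.z * n) : ∃ w, X.Ind n w := by
  have hN : n ∈ normalizer (L : Set G) := X.centralizer_z ▸ mem_centralizer_singleton_iff.mpr hn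
  let σ : L ≃* L :=
    { toFun := fun x => ⟨n * x * n⁻¹, (mem_normalizer_iff.mp hN _).mp x.2⟩
      invFun := fun x => ⟨n⁻¹ * x * n, by
        have := (mem_normalizer_iff.mp (inv_mem hN) _).mp x.2
        rwa [inv_inv] at this⟩
      left_inv := fun x => Subtype.ext (by show n⁻¹ * (n * x * n⁻¹) * n = x; group)
      right_inv := fun x => Subtype.ext (by show n * (n⁻¹ * x * n) * n⁻¹ = x; group)
      map_mul' := fun x y => Subtype.ext (by
        show n * (x * y : G) * n⁻¹ = (n * x * n⁻¹) * (n * y * n⁻¹)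
        group) }
  obtain ⟨w, hw, h⟩ := aut_inner ((X.e.symm.trans σ).trans X.e)
  refine ⟨w, hw, fun x p hx => ?_⟩
  obtain ⟨hp, rfl⟩ := hx
  refine ⟨W_normal_Pr hw hp, ?_⟩
  have e1 : ((X.e.symm.trans σ).trans X.e ⟨p, hp⟩) = ⟨w * p * w⁻¹, W_normal_Pr hw hp⟩ := Subtype.ext (h ⟨p, hp⟩)
  show ((X.e.symm ⟨w * p * w⁻¹, _⟩ : L) : G) = n * (X.e.symm ⟨p, hp⟩ : L) * n⁻¹
  rw [← e1, MulEquiv.trans_apply, MulEquiv.symm_apply_apply]
  rfl

variable {X}

theorem Ind.mem {n : G} {w : P240} (h : X.Ind n w) : w ∈ W := h.1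

theorem Ind.z_comm {n : G} {w : P240} (h : X.Ind n w) : n * X.z = X.z * n := by
  have h1 := h.2 _ _ X.z_rep
  rw [comm_mneg h.mem, mul_inv_cancel_right] at h1
  exact mul_inv_eq_iff_eq_mul.mp (h1.elt_eq X.z_rep)

theorem Rep.ind {x : G} {p : P240} (h : X.Rep x p) : X.Ind x p := ⟨h.mem_W, fun _ _ k => (h.mul k).mul h.inv⟩

theorem Ind.mul {n m : G} {w v : P240} (h : X.Ind n w) (k : X.Ind m v) : X.Ind (n * m) (w * v) := by
  refine ⟨mul_mem h.1 k.1, fun x p hx => ?_⟩
  have := h.2 _ _ (k.2 x p hx)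
  simpa [mul_assoc] using this

theorem Ind.comm_iff {n x : G} {w p : P240} (h : X.Ind n w) (k : X.Rep x p) : n * x = x * n ↔ w * p = p * w := by
  have h1 := h.2 _ _ k
  constructor
  · intro e
    rw [e, mul_inv_cancel_right] at h1
    exact mul_inv_eq_iff_eq_mul.mp (h1.uniq k)
  · intro e
    rw [e, mul_inv_cancel_right] at h1
    exact mul_inv_eq_iff_eq_mul.mp (h1.elt_eq k)

theorem Ind.uniq {n : G} {w v : P240} (h : X.Ind n w) (k : X.Ind n v) : v = w ∨ v = mneg * w := by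
  have hc : ∀ p ∈ Pr, w⁻¹ * v * p = p * (w⁻¹ * v) := fun p hp => by
    obtain ⟨x, hx⟩ := X.elt_exists hp
    have e := (h.2 x p hx).uniq (k.2 x p hx)
    calc w⁻¹ * v * p = w⁻¹ * (v * p * v⁻¹) * v := by group
      _ = w⁻¹ * (w * p * w⁻¹) * v := by rw [e]
      _ = _ := by group
  rcases stab_root (mul_mem (inv_mem h.1) k.1) hc with e | e
  · exact Or.inl (inv_mul_eq_one.1 e).symm
  · refine Or.inr ?_
    rw [← comm_mneg h.1, ← e, mul_inv_cancel_left]

theorem Ind.cases_of_cent {n : G} {w : P240} (h : X.Ind n w) (hn : n ∈ centralizer (L : Set G)) : w = 1 ∨ w = mneg := by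
  have h1 : X.Ind n 1 := ⟨one_mem W, fun x p hx => by
    rw [one_mul, inv_one, mul_one, show n * x * n⁻¹ = x from mul_inv_eq_iff_eq_mul.mpr
      (mem_centralizer_iff.mp hn x hx.mem).symm]
    exact hx⟩
  rcases h1.uniq h with e | e
  · exact Or.inl e
  · exact Or.inr (by rwa [mul_one] at e)

theorem Ind.sq_cases {n : G} {w : P240} (h : X.Ind n w) (h2 : n * n = 1) : w * w = 1 ∨ w * w = mneg :=
  Ind.cases_of_cent (h2 ▸ h.mul h) (one_mem _)

theorem Ind.factor {n l : G} {w : P240} (h : X.Ind n w) (hl : X.Rep l w) : l⁻¹ * n ∈ centralizer (L : Set G) := by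
  refine mem_centralizer_iff.mpr fun a ha => ?_
  obtain ⟨p, hp⟩ := X.rep_exists ha
  have := (hl.inv.ind.mul h).2 a p hp
  simp only [inv_mul_cancel, one_mul, inv_one, mul_one] at this
  exact (mul_inv_eq_iff_eq_mul.mp (this.elt_eq hp)).symm

theorem Ind.inner {t : G} {w : P240} (h : X.Ind t w) (h2 : t * t = 1) (hw : w ∈ Pr) (hw2 : w * w = 1) :
    ∃ p, X.Rep t p ∧ (p = w ∨ p = mneg * w) := by
  obtain ⟨l, hl⟩ := X.elt_exists hw
  have hc := h.factor hl
  have hcl : l * (l⁻¹ * t) = l⁻¹ * t * l := mem_centralizer_iff.mp hc l hl.mem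
  have hl2 : l * l = 1 := (hl.mul hl).elt_eq (hw2 ▸ Rep.one)
  have hc2 : l⁻¹ * t * (l⁻¹ * t) = 1 := by
    calc l⁻¹ * t * (l⁻¹ * t) = (l * l) * (l⁻¹ * t * (l⁻¹ * t)) := by rw [hl2, one_mul]
      _ = l * (l * (l⁻¹ * t)) * (l⁻¹ * t) := by group
      _ = l * (l⁻¹ * t * l) * (l⁻¹ * t) := by rw [hcl]
      _ = t * t := by group
      _ = 1 := h2
  rcases X.invol_eq hc hc2 with e | e
  · exact ⟨w, (inv_mul_eq_one.1 e) ▸ hl, Or.inl rfl⟩
  · refine ⟨w * mneg, ?_, Or.inr (comm_mneg hl.mem_W)⟩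
    have : t = l * X.z := by rw [← e, mul_inv_cancel_left]
    exact this ▸ hl.mul X.z_rep

theorem Rep.sq {x : G} {p : P240} (h : X.Rep x p) (h2 : x * x = 1) : p * p = 1 :=
  (h.mul h).uniq (h2 ▸ Rep.one)

variable (X)

theorem odd_part : ∃ K : Subgroup G, K ≤ centralizer (L : Set G) ∧ Odd (Nat.card K) ∧
    ∀ x ∈ centralizer (L : Set G), x * x * x = 1 → x ∈ K := by
  set C := centralizer (L : Set G)
  obtain ⟨R₀⟩ := (inferInstance : Nonempty (Sylow 2 C))
  have := X.cyc R₀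
  obtain ⟨P, K, hK, hKP⟩ := Cfsg.Lib.TwoFusion.hasNormalTwoComplement_of_cyclic R₀
  have : K.Normal := hK
  have : Fact (Nat.Prime 2) := ⟨Nat.prime_two⟩
  refine ⟨K.map C.subtype, map_subtype_le K, ?_, fun x hx h3 => ⟨⟨x, hx⟩, ?_, rfl⟩⟩
  · rw [Nat.card_congr (K.equivMapOfInjective C.subtype C.subtype_injective).toEquiv.symm, Nat.odd_iff,
      ← Nat.two_dvd_ne_zero, ← hKP.index_eq_card]
    exact P.not_dvd_index
  · rw [SetLike.mem_coe, ← QuotientGroup.eq_one_iff (N := K)]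
    have e : (P : Subgroup C) ≃* C ⧸ K := (hKP.symm.QuotientMulEquiv).symm
    set q : C ⧸ K := QuotientGroup.mk ⟨x, hx⟩
    have h3' : q * q * q = 1 := by
      rw [← QuotientGroup.mk_mul, ← QuotientGroup.mk_mul]
      exact (QuotientGroup.eq_one_iff _).2 (by
        rw [show (⟨x, hx⟩ : C) * ⟨x, hx⟩ * ⟨x, hx⟩ = 1 from Subtype.ext h3]; exact one_mem _)
    obtain ⟨k, hk⟩ := (IsPGroup.iff_card.1 (P.isPGroup'.of_equiv e))
    have h1 : orderOf q ∣ 3 := orderOf_dvd_of_pow_eq_one (by rw [pow_three, ← mul_assoc, h3'])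
    have h2 : orderOf q ∣ 2 ^ k := hk ▸ orderOf_dvd_natCard q
    have : orderOf q ∣ Nat.gcd 3 (2 ^ k) := Nat.dvd_gcd h1 h2
    rw [show Nat.gcd 3 (2 ^ k) = 1 from Nat.Coprime.pow_right k (by norm_num), Nat.dvd_one, orderOf_eq_one_iff] at this
    exact this

/-- The odd part of the centralizer. -/
noncomputable def K : Subgroup G := X.odd_part.choose

theorem K_le : X.K ≤ centralizer (L : Set G) := X.odd_part.choose_spec.1

theorem K_odd : Odd (Nat.card X.K) := X.odd_part.choose_spec.2.1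

theorem K_three {x : G} (hx : x ∈ centralizer (L : Set G)) (h3 : x * x * x = 1) : x ∈ X.K :=
  X.odd_part.choose_spec.2.2 x hx h3

theorem K_two {k : G} (hk : k ∈ X.K) {n : ℕ} (h : k ^ (2 ^ n) = 1) : k = 1 := by
  have h1 := Subgroup.orderOf_dvd_natCard _ hk
  have h2 := orderOf_dvd_of_pow_eq_one h
  have hco : Nat.Coprime (Nat.card X.K) (2 ^ n) :=
    (Nat.Coprime.pow_left n ((Nat.prime_two.coprime_iff_not_dvd).2 (by
      rw [Nat.two_dvd_ne_zero, ← Nat.odd_iff]; exact X.K_odd))).symm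
  have := Nat.dvd_gcd h1 h2
  rw [hco, Nat.dvd_one, orderOf_eq_one_iff] at this
  exact this

theorem inter_K {x : G} (hx : x ∈ L) (hk : x ∈ X.K) : x = 1 := by
  rcases X.inter_cases hx (X.K_le hk) with e | e
  · exact e
  · exact X.K_two hk (n := 1) (by rw [pow_one, pow_two, e, X.z_sq])

/-- An element as a product from the subgroup and the odd part of its centralizer. -/
def Dec (x : G) (p : P240) : Prop := ∃ l k, X.Rep l p ∧ k ∈ X.K ∧ x = l * k

variable {X}

theorem Rep.dec {x : G} {p : P240} (h : X.Rep x p) : X.Dec x p := ⟨x, 1, h, one_mem _, (mul_one x).symm⟩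

theorem Dec.mul {x y : G} {p q : P240} (h : X.Dec x p) (k : X.Dec y q) : X.Dec (x * y) (p * q) := by
  obtain ⟨l, a, hl, ha, rfl⟩ := h
  obtain ⟨m, b, hm, hb, rfl⟩ := k
  refine ⟨l * m, a * b, hl.mul hm, mul_mem ha hb, ?_⟩
  have : m * a = a * m := mem_centralizer_iff.mp (X.K_le ha) m hm.mem
  calc l * a * (m * b) = l * (a * m) * b := by group
    _ = _ := by rw [← this]; group

theorem Dec.inv {x : G} {p : P240} (h : X.Dec x p) : X.Dec x⁻¹ p⁻¹ := by
  obtain ⟨l, a, hl, ha, rfl⟩ := h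
  refine ⟨l⁻¹, a⁻¹, hl.inv, inv_mem ha, ?_⟩
  rw [← mul_inv_rev, ← mem_centralizer_iff.mp (X.K_le ha) l hl.mem]

theorem Dec.uniq {x : G} {p q : P240} (h : X.Dec x p) (k : X.Dec x q) : p = q := by
  obtain ⟨l, a, hl, ha, rfl⟩ := h
  obtain ⟨m, b, hm, hb, e⟩ := k
  have e2 : m⁻¹ * l = b * a⁻¹ := by
    rw [eq_mul_inv_iff_mul_eq, mul_assoc, e, inv_mul_cancel_left]
  have h1 : m⁻¹ * l = 1 := X.inter_K (mul_mem (inv_mem hm.mem) hl.mem) (e2 ▸ mul_mem hb (inv_mem ha))
  rw [inv_mul_eq_one.1 h1] at hm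
  exact hl.uniq hm

theorem Dec.commute {x y : G} {p q : P240} (h : X.Dec x p) (k : X.Dec y q) (e : x * y = y * x) : p * q = q * p :=
  (h.mul k).uniq (e ▸ k.mul h)

/-- An element whose projection is trivial commutes with the subgroup. -/
theorem Dec.one_comm {x : G} (h : X.Dec x 1) {y : G} (hy : y ∈ L) : x * y = y * x := by
  obtain ⟨l, a, hl, ha, rfl⟩ := h
  rw [hl.elt_eq Rep.one, one_mul]
  exact (mem_centralizer_iff.mp (X.K_le ha) y hy).symm

theorem Dec.two_power {x : G} {p : P240} (h : X.Dec x p) {n : ℕ} (h4 : x ^ (2 ^ n) = 1) : X.Rep x p := by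
  obtain ⟨l, a, hl, ha, rfl⟩ := h
  have hc : Commute l a := mem_centralizer_iff.mp (X.K_le ha) l hl.mem
  rw [hc.mul_pow] at h4
  have h1 : a ^ (2 ^ n) = 1 := X.inter_K (by
    rw [show a ^ (2 ^ n) = (l ^ (2 ^ n))⁻¹ from (inv_eq_of_mul_eq_one_right h4).symm]
    exact inv_mem (pow_mem hl.mem _)) (pow_mem ha _)
  rwa [X.K_two ha h1, mul_one]

theorem D3_dec {t : G} {w : P240} (ht : X.Ind t w) {x : G} (hx : x ∈ D3 X.z t) : ∃ p ∈ Dm w, X.Dec x p := by
  induction hx using Subgroup.closure_induction with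
  | one => exact ⟨1, one_mem _, Rep.one.dec⟩
  | mul a b _ _ ha hb =>
    obtain ⟨p, hp, hp'⟩ := ha
    obtain ⟨q, hq, hq'⟩ := hb
    exact ⟨p * q, mul_mem hp hq, hp'.mul hq'⟩
  | inv a _ ha =>
    obtain ⟨p, hp, hp'⟩ := ha
    exact ⟨p⁻¹, inv_mem hp, hp'.inv⟩
  | mem y hy =>
    obtain ⟨h3, hz, hyt⟩ := hy
    obtain ⟨v, hv⟩ := X.ind_exists hz
    have hv3 : v * v * v = 1 ∨ v * v * v = mneg :=
      Ind.cases_of_cent (h3 ▸ (hv.mul hv).mul hv) (one_mem _)
    have hvP : v ∈ Pr := (sign_iff hv.mem).2 (by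
      have e : Equiv.Perm.sign v * Equiv.Perm.sign v * Equiv.Perm.sign v = 1 := by
        rcases hv3 with e | e <;> rw [← map_mul, ← map_mul, e]
        · exact map_one _
        · exact sign_Pr mneg_mem_Pr
      rcases Int.units_eq_one_or (Equiv.Perm.sign v) with h | h
      · exact h
      · rw [h] at e; exact absurd e (by decide))
    obtain ⟨l₀, hl₀⟩ := X.elt_exists hvP
    obtain ⟨l, p, hl, hp3, hfac⟩ : ∃ l p, X.Rep l p ∧ p * p * p = 1 ∧ l⁻¹ * y ∈ centralizer (L : Set G) := by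
      rcases hv3 with e | e
      · exact ⟨l₀, v, hl₀, e, hv.factor hl₀⟩
      · refine ⟨l₀ * X.z, v * mneg, hl₀.mul X.z_rep, ?_, ?_⟩
        · have hc : Commute v mneg := comm_mneg hv.mem
          calc v * mneg * (v * mneg) * (v * mneg) = (v * mneg) ^ 3 := by rw [pow_three]; group
            _ = v ^ 3 * mneg ^ 3 := hc.mul_pow 3
            _ = 1 := by
              rw [pow_three, pow_three, show v * (v * v) = v * v * v from (mul_assoc _ _ _).symm, e, mneg_sq, mul_one, mneg_sq]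
        · rw [show (l₀ * X.z)⁻¹ * y = X.z⁻¹ * (l₀⁻¹ * y) by group]
          exact mul_mem (inv_mem X.z_centralizer) (hv.factor hl₀)
    have hl3 : l * l * l = 1 := ((hl.mul hl).mul hl).elt_eq (hp3 ▸ Rep.one)
    set c := l⁻¹ * y
    have hyc : y = l * c := by simp [c]
    have hlc : Commute l c := mem_centralizer_iff.mp hfac l hl.mem
    have hc3 : c * c * c = 1 := by
      have : (l * c) * (l * c) * (l * c) = l * l * l * (c * c * c) := by
        have := hlc.mul_pow 3
        simpa [pow_three, ← mul_assoc] using this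
      rwa [← hyc, h3, hl3, one_mul, eq_comm] at this
    have hdec : X.Dec y p := ⟨l, c, hl, X.K_three hfac hc3, hyc⟩
    refine ⟨p, subset_closure ⟨hl.mem_Pr, hp3, ?_⟩, hdec⟩
    have hN : t ∈ normalizer (L : Set G) :=
      X.centralizer_z ▸ mem_centralizer_singleton_iff.mpr ht.z_comm
    have hcK : t * c * t⁻¹ ∈ X.K := by
      refine X.K_three ?_ (by rw [show t * c * t⁻¹ * (t * c * t⁻¹) * (t * c * t⁻¹) = t * (c * c * c) * t⁻¹ by group, hc3]; group)
      refine mem_centralizer_iff.mpr fun a ha => ?_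
      have ha' : t⁻¹ * a * t ∈ L := by
        have := (mem_normalizer_iff.mp (inv_mem hN) a).mp ha
        rwa [inv_inv] at this
      have := mem_centralizer_iff.mp hfac _ ha'
      calc a * (t * c * t⁻¹) = t * (t⁻¹ * a * t * c) * t⁻¹ := by group
        _ = t * (c * (t⁻¹ * a * t)) * t⁻¹ := by rw [this]
        _ = _ := by group
    have hd2 : X.Dec y (w * p * w⁻¹) := ⟨t * l * t⁻¹, t * c * t⁻¹, ht.2 _ _ hl, hcK, by
      calc y = t * y * t⁻¹ := by rw [← hyt, mul_inv_cancel_right]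
        _ = _ := by rw [hyc]; group⟩
    exact ((mul_inv_eq_iff_eq_mul.mp (hdec.uniq hd2).symm)).symm

theorem D3_lift {t : G} {w : P240} (ht : X.Ind t w) {p : P240} (hp : p ∈ Dm w) {x : G} (hx : X.Rep x p) :
    x ∈ D3 X.z t := by
  induction hp using Subgroup.closure_induction generalizing x with
  | mem l hl =>
    exact subset_closure ⟨((hx.mul hx).mul hx).elt_eq (hl.2.1 ▸ Rep.one), X.z_comm hx.mem,
      ((ht.comm_iff hx).2 hl.2.2.symm).symm⟩
  | one => rw [hx.elt_eq Rep.one]; exact one_mem _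
  | mul a b ha hb iha ihb =>
    obtain ⟨y, hy⟩ := X.elt_exists (Dm_le w ha)
    obtain ⟨y', hy'⟩ := X.elt_exists (Dm_le w hb)
    rw [hx.elt_eq (hy.mul hy')]
    exact mul_mem (iha hy) (ihb hy')
  | inv a ha iha =>
    have := iha (x := x⁻¹) (by have := hx.inv; rwa [inv_inv] at this)
    exact inv_inv x ▸ inv_mem this

theorem D3_rep {t : G} {w : P240} (ht : X.Ind t w) {x : G} (hx : x ∈ D3 X.z t) {n : ℕ} (h2 : x ^ (2 ^ n) = 1) :
    ∃ p ∈ Dm w, X.Rep x p := by
  obtain ⟨p, hp, hd⟩ := D3_dec ht hx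
  exact ⟨p, hp, hd.two_power h2⟩

theorem D3_invol {t : G} {w : P240} (ht : X.Ind t w) {x : G} (hx : x ∈ D3 X.z t) (h2 : x * x = 1) :
    ∃ p ∈ Dm w, X.Rep x p := D3_rep ht hx (n := 1) (by rw [pow_one, pow_two, h2])

end Ctx

end Cfsg.Lib.OEightStd
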