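import Cfsg.Agent.OEightStd.Kit

/-!
Generated: the involutions of the Sylow subgroup fixing exactly four roots.
-/

set_option autoImplicit false
set_option maxRecDepth 100000

namespace Cfsg.Lib.OEightStd

open Cfsg.Lib.PermCert

/-- The involutions fixing four roots, by their codes. -/
def sixTab : List (ℕ × ℕ × List ℕ) :=
  [(21, 14174565549717747678, [14, 117, 122, 225]),
    (37, 14318680737800590195, [16, 110, 129, 223]),
    (41, 14823084388654937971, [23, 96, 143, 216]),
    (42, 13559412983232886643, [6, 89, 150, 233]),
    (43, 16772312351891945331, [50, 58, 181, 189]),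
    (45, 14678968709420840819, [21, 100, 139, 218]),
    (53, 14246623143755701265, [15, 111, 128, 224]),
    (69, 14534853519914399761, [19, 119, 120, 220]),
    (73, 15255429952882531345, [29, 103, 136, 210]),
    (74, 13775585765346696209, [9, 87, 152, 230]),
    (75, 16988485134005754897, [53, 60, 179, 186]),
    (77, 14967199085572578321, [25, 105, 134, 214]),
    (81, 15831890706623526771, [37, 116, 123, 202]),
    (82, 13919700954860124019, [11, 81, 158, 228]),
    (83, 17132600323519182707, [55, 66, 173, 184]),
    (84, 16301274973482940275, [44, 57, 182, 195]),
    (86, 13991759040056293235, [12, 79, 160, 227]),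
    (87, 17204658408715351923, [56, 68, 171, 183]),
    (89, 15327487546927420275, [30, 104, 135, 209]),
    (90, 13847643359391585139, [10, 86, 153, 229]),
    (91, 17060542728050643827, [54, 61, 178, 185]),
    (93, 15039256679617467251, [26, 106, 133, 213]),
    (101, 14462795925876446174, [18, 114, 125, 221]),
    (105, 14895141982692866014, [24, 98, 141, 215]),
    (106, 13703528171308742622, [8, 88, 151, 231]),
    (107, 16916427539967801310, [52, 59, 180, 187]),
    (109, 14751026303458768862, [22, 102, 137, 217]),
    (117, 14390738331831557244, [17, 115, 124, 222]),
    (464, 15796706527691044723, [37, 57, 182, 202]),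
    (465, 10788024712020522867, [37, 44, 195, 202]),
    (468, 17237858107924182899, [57, 116, 123, 182]),
    (469, 16336459152415553395, [44, 116, 123, 195]),
    (592, 17134643022734456691, [55, 79, 160, 184]),
    (595, 10771425714700187507, [12, 55, 184, 227]),
    (597, 13989716340839905139, [12, 66, 173, 227]),
    (598, 17254457105243273075, [66, 79, 160, 173]),
    (976, 17206693162477254515, [56, 81, 158, 183]),
    (978, 17256427814536181619, [68, 81, 158, 171]),
    (981, 13917666201100253043, [11, 68, 171, 228]),
    (983, 10769455005410424691, [11, 56, 183, 228]),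
    (1220, 14499669542962624274, [19, 57, 182, 220]),
    (1221, 9563045317035063058, [19, 44, 195, 220]),
    (1236, 17237858116396742770, [57, 119, 120, 182]),
    (1237, 16336459156593145970, [44, 119, 120, 195]),
    (1345, 8554073712977540882, [19, 37, 202, 220]),
    (1349, 14534853511441708818, [19, 116, 123, 220]),
    (1361, 15831890710801250418, [37, 119, 120, 202]),
    (1365, 17273042084875958386, [116, 119, 120, 123]),
    (2196, 17237858116396808047, [57, 117, 122, 182]),
    (2197, 16336459156593211247, [44, 117, 122, 195]),
    (2260, 14139381572765906912, [14, 57, 182, 225]),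
    (2261, 8770411782610778080, [14, 44, 195, 225]),
    (2321, 15831890710801315695, [37, 117, 122, 202]),
    (2325, 17273042084876023663, [116, 117, 122, 123]),
    (2385, 7761440178553386976, [14, 37, 202, 225]),
    (2389, 14174565541245122528, [14, 116, 123, 225]),
    (3077, 14534853519914465040, [19, 117, 122, 220]),
    (3093, 17273042093348583534, [117, 119, 120, 122]),
    (3141, 6536460581704464257, [14, 19, 220, 225]),
    (3157, 14174565549717682399, [14, 119, 120, 225]),
    (4101, 14462795925876707039, [18, 111, 128, 221]),
    (4149, 17273042093348386177, [111, 114, 125, 128]),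
    (4181, 14246623143755440400, [15, 114, 125, 224]),
    (4197, 6536460581704661614, [15, 18, 221, 224]),
    (7173, 14390738331831165299, [17, 110, 129, 222]),
    (7205, 17273042093348256380, [110, 115, 124, 129]),
    (7253, 14318680737800916604, [16, 115, 124, 223]),
    (7285, 6536460581704725875, [16, 17, 222, 223])]

end Cfsg.Lib.OEightStd
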