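import Cfsg.Agent.OEightStd.SylowChecks
import Cfsg.Agent.OEightStd.SixData

/-!
No element of the Sylow subgroup fixes the roots fixed by its square when that square fixes exactly four roots.
-/

set_option autoImplicit false
set_option maxRecDepth 100000
set_option Elab.async false

namespace Cfsg.Lib.OEightStd

open Cfsg.Lib.PermCert

/-- The code of the images of the base. -/
def baseCode (f : ℕ → ℕ) : ℕ := simp.foldl (fun c p => c * 256 + f p) 0

/-- The number of fixed roots. -/
def fixLen (f : ℕ → ℕ) : ℕ := ((List.range 240).filter fun r => f r == r).length

/-- Part of the involutions: those fixing four roots are listed. -/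
def sixPart (c : ℕ) : Bool :=
  ((invList.drop (146 * c)).take 146).all fun i => (fixLen (evS i) != 4) || sixTab.any fun E => E.1 == i

theorem six_rows :
    (sixTab.all fun E => (E.2.1 == baseCode (evS E.1)) && E.2.2.all fun r => decide (r < 240) && evS E.1 r == r) = true := by
  decide +kernel

theorem sixPart_0 : sixPart 0 = true := by decide +kernel
theorem sixPart_1 : sixPart 1 = true := by decide +kernel
theorem sixPart_2 : sixPart 2 = true := by decide +kernel
theorem sixPart_3 : sixPart 3 = true := by decide +kernel
theorem sixPart_4 : sixPart 4 = true := by decide +kernel
theorem sixPart_5 : sixPart 5 = true := by decide +kernel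
theorem sixPart_6 : sixPart 6 = true := by decide +kernel
theorem sixPart_7 : sixPart 7 = true := by decide +kernel

/-- Evaluate a number before using it. -/
def withVal (q : ℕ) (f : ℕ → Bool) : Bool :=
  match q with
  | 0 => f 0
  | n + 1 => f (n + 1)

theorem withVal_eq (q : ℕ) (f : ℕ → Bool) : withVal q f = f q := by cases q <;> rfl

/-- An element whose square is listed moves a root fixed by the square. -/
def sixOK (c : ℕ) : Bool :=
  (List.range' (1024 * c) 1024).all fun e =>
    withVal (baseCode fun p => evS e (evS e p)) fun q =>
      sixTab.all fun E => (E.2.1 != q) || E.2.2.any fun r => evS e r != r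

theorem six_0 : sixOK 0 = true := by decide +kernel
theorem six_1 : sixOK 1 = true := by decide +kernel
theorem six_2 : sixOK 2 = true := by decide +kernel
theorem six_3 : sixOK 3 = true := by decide +kernel
theorem six_4 : sixOK 4 = true := by decide +kernel
theorem six_5 : sixOK 5 = true := by decide +kernel
theorem six_6 : sixOK 6 = true := by decide +kernel
theorem six_7 : sixOK 7 = true := by decide +kernel
theorem six_8 : sixOK 8 = true := by decide +kernel
theorem six_9 : sixOK 9 = true := by decide +kernel
theorem six_10 : sixOK 10 = true := by decide +kernel
theorem six_11 : sixOK 11 = true := by decide +kernel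
theorem six_12 : sixOK 12 = true := by decide +kernel
theorem six_13 : sixOK 13 = true := by decide +kernel
theorem six_14 : sixOK 14 = true := by decide +kernel
theorem six_15 : sixOK 15 = true := by decide +kernel

end Cfsg.Lib.OEightStd
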