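import Cfsg.Agent.OEightStd.Model
import Cfsg.Agent.OEightStd.SixChecks

/-!
The subgroup generated by the elements of order three commuting with an element, and the roots it fixes.
-/

set_option autoImplicit false
set_option maxRecDepth 100000
set_option linter.style.haveILetI false

namespace Cfsg.Lib.OEightStd

open Cfsg.Lib.PermCert Cfsg.Lib.CosetCert

/-- The subgroup generated by the even elements of order three commuting with an element. -/
def Dm (w : P240) : Subgroup P240 := Subgroup.closure {l | l ∈ Pr ∧ l * l * l = 1 ∧ l * w = w * l}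

theorem Dm_le (w : P240) : Dm w ≤ Pr := (Subgroup.closure_le _).2 fun _ h => h.1

theorem Dm_comm {w x : P240} (h : x ∈ Dm w) : x * w = w * x := by
  induction h using Subgroup.closure_induction with
  | mem _ h => exact h.2.2
  | one => simp
  | mul a b _ _ ha hb => rw [mul_assoc, hb, ← mul_assoc, ha, mul_assoc]
  | inv a _ ha => rw [← mul_left_inj a, inv_mul_cancel_right, mul_assoc, ← ha, ← mul_assoc, inv_mul_cancel, one_mul]

theorem Dm_mneg {w : P240} (hw : w ∈ W) : Dm (mneg * w) = Dm w := by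
  unfold Dm
  congr 1
  ext l
  refine and_congr_right fun hl => and_congr_right fun _ => ?_
  have hc := comm_mneg (Pr_le hl)
  constructor
  · intro h
    have : mneg * (l * w) = mneg * (w * l) := by
      rw [← mul_assoc, ← hc, mul_assoc, h, mul_assoc]
    exact mul_left_cancel this
  · intro h
    rw [← mul_assoc, hc, mul_assoc, h, mul_assoc]

theorem Dm_conj {w x v : P240} (hv : v ∈ W) (h : x ∈ Dm w) : v * x * v⁻¹ ∈ Dm (v * w * v⁻¹) := by
  induction h using Subgroup.closure_induction with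
  | mem l h =>
    refine Subgroup.subset_closure ⟨W_normal_Pr hv h.1, ?_, ?_⟩
    · calc v * l * v⁻¹ * (v * l * v⁻¹) * (v * l * v⁻¹) = v * (l * l * l) * v⁻¹ := by group
        _ = 1 := by rw [h.2.1]; group
    · calc v * l * v⁻¹ * (v * w * v⁻¹) = v * (l * w) * v⁻¹ := by group
        _ = v * (w * l) * v⁻¹ := by rw [h.2.2]
        _ = _ := by group
  | one => simp
  | mul a b _ _ ha hb => have := mul_mem ha hb; simpa [mul_assoc] using this
  | inv a _ ha => have := inv_mem ha; simpa [mul_assoc] using this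

theorem prodE_picks_mem {w : El} {gens : List El} (hw : elOK w = true) (hg : genOK w gens = true) {idx : List ℕ}
    {x : El} (hx : elOK x = true) (h : inGen gens idx x = true) : pel x ∈ Dm (pel w) := by
  simp only [inGen, Bool.and_eq_true, List.all_eq_true, decide_eq_true_eq] at h
  obtain ⟨hidx, he⟩ := h
  have hgen : ∀ g ∈ gens, elOK g = true ∧ pel g ∈ Dm (pel w) := fun g hgm => by
    have h := List.all_eq_true.1 hg g hgm
    simp only [Bool.and_eq_true] at h
    obtain ⟨⟨⟨h1, h2⟩, h3⟩, h4⟩ := h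
    have o1 : AllOK [g] := allOK_cons h1 allOK_nil
    refine ⟨h1, Subgroup.subset_closure ⟨pel_even h1 h2, ?_, ?_⟩⟩
    · have := (eqB_iff (allOK_cons h1 (allOK_cons h1 o1)) allOK_nil).1 h3
      rw [prodE_cons, prodE_cons, prodE_one, ← mul_assoc] at this
      exact this
    · have := (eqB_iff (allOK_cons h1 (allOK_cons hw allOK_nil)) (allOK_cons hw o1)).1 h4
      simpa [prodE] using this
  have hp : ∀ E ∈ picks gens idx, elOK E = true ∧ pel E ∈ Dm (pel w) := fun E hE => by
    obtain ⟨i, hi, rfl⟩ := List.mem_map.1 hE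
    rw [List.getD_eq_getElem _ _ (hidx i hi)]
    exact hgen _ (List.getElem_mem _)
  have := (eqB_iff (fun E hE => (hp E hE).1) (allOK_cons hx allOK_nil)).1 he
  rw [prodE_one] at this
  rw [← this]
  refine list_prod_mem ?_
  intro y hy
  obtain ⟨E, hE, rfl⟩ := List.mem_map.1 hy
  exact (hp E hE).2

/-- A permutation of order dividing an odd prime moves at least twice as many roots of a set closed under negation. -/
theorem odd_fix {y : P240} (hy : y ∈ W) {p : ℕ} (hp : p.Prime) (h2 : p ≠ 2) (hyp : y ^ p = 1) {Q : Finset (Fin 240)}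
    (hQ : ∀ r ∈ Q, y r ∈ Q) (hn : ∀ r ∈ Q, mneg r ∈ Q) (hc : Q.card < 2 * p) {a : Fin 240} (ha : a ∈ Q) : y a = a := by
  by_contra hne
  have : Fact p.Prime := ⟨hp⟩
  have hcy : ∀ n : ℕ, y ^ n * mneg = mneg * y ^ n := fun n => comm_mneg (pow_mem hy n)
  have hmem : ∀ n : ℕ, (y ^ n) a ∈ Q := by
    intro n
    induction n with
    | zero => simpa
    | succ n ih => rw [pow_succ', Equiv.Perm.mul_apply]; exact hQ _ ih
  have horb : ∀ i j : ℕ, i ≤ j → j < p → (y ^ i) a = (y ^ j) a → i = j := by
    intro i j hij hj e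
    by_contra hne'
    have hfix : (y ^ (j - i)) a = a := (y ^ i).injective (by
      rw [← Equiv.Perm.mul_apply, ← pow_add, Nat.add_sub_cancel' hij, ← e])
    have hco : Nat.Coprime (j - i) p := (hp.coprime_iff_not_dvd.2 (Nat.not_dvd_of_pos_of_lt (by omega) (by omega))).symm
    obtain ⟨m, -, hm⟩ := Nat.exists_mul_mod_eq_one_of_coprime hco hp.one_lt
    have h' : ∀ m : ℕ, (y ^ ((j - i) * m)) a = a := fun m => by
      induction m with
      | zero => simp
      | succ m ih => rw [Nat.mul_succ, pow_add, Equiv.Perm.mul_apply, hfix, ih]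
    have := h' m
    rw [← pow_mod_orderOf, orderOf_eq_prime hyp (fun e1 => hne (by rw [e1, Equiv.Perm.one_apply])), hm,
      pow_one] at this
    exact hne this
  let f : Fin p × Bool → {r // r ∈ Q} := fun t =>
    ⟨bif t.2 then mneg ((y ^ t.1.val) a) else (y ^ t.1.val) a, by
      cases t.2
      · exact hmem _
      · exact hn _ (hmem _)⟩
  have hf : Function.Injective f := by
    have inj : ∀ i j : Fin p, (y ^ i.val) a = (y ^ j.val) a → i = j := fun i j e => by
      rcases le_total i.val j.val with h | h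
      · exact Fin.ext (horb _ _ h j.isLt e)
      · exact Fin.ext (horb _ _ h i.isLt e.symm).symm
    have cross : ∀ i j : Fin p, mneg ((y ^ i.val) a) ≠ (y ^ j.val) a := fun i j e => by
      have h1 : (y ^ j.val) ((y ^ j.val) a) = (y ^ i.val) ((y ^ i.val) a) := by
        have hswap : (y ^ j.val) (mneg ((y ^ i.val) a)) = mneg ((y ^ i.val) ((y ^ j.val) a)) := by
          rw [← Equiv.Perm.mul_apply, hcy, Equiv.Perm.mul_apply, ← Equiv.Perm.mul_apply (y ^ j.val),
            ← pow_add, add_comm, pow_add, Equiv.Perm.mul_apply]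
        rw [e] at hswap
        rw [hswap, ← e, ← Equiv.Perm.mul_apply (y ^ i.val), hcy, Equiv.Perm.mul_apply, ← Equiv.Perm.mul_apply mneg,
          mneg_sq, Equiv.Perm.one_apply]
      have hmod : ∀ k : ℕ, (y ^ k) a = (y ^ (k % p)) a := fun k => by rw [pow_eq_pow_mod k hyp]
      rw [← Equiv.Perm.mul_apply, ← pow_add, ← Equiv.Perm.mul_apply, ← pow_add, hmod, hmod (i.val + i.val)] at h1
      have h3 : (j.val + j.val) % p = (i.val + i.val) % p := by
        rcases le_total ((j.val + j.val) % p) ((i.val + i.val) % p) with h | h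
        · exact horb _ _ h (Nat.mod_lt _ hp.pos) h1
        · exact (horb _ _ h (Nat.mod_lt _ hp.pos) h1.symm).symm
      have hodd := hp.odd_of_ne_two h2
      obtain ⟨k, hk⟩ := hodd
      have h4 : j.val = i.val := by
        have hi := i.isLt
        have hj := j.isLt
        have r1 : (j.val + j.val) % p = j.val + j.val ∨ (j.val + j.val) % p + p = j.val + j.val := by
          rcases Nat.lt_or_ge (j.val + j.val) p with h | h
          · exact Or.inl (Nat.mod_eq_of_lt h)
          · exact Or.inr (by rw [Nat.mod_eq_sub_mod h, Nat.mod_eq_of_lt (by omega)]; omega)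
        have r2 : (i.val + i.val) % p = i.val + i.val ∨ (i.val + i.val) % p + p = i.val + i.val := by
          rcases Nat.lt_or_ge (i.val + i.val) p with h | h
          · exact Or.inl (Nat.mod_eq_of_lt h)
          · exact Or.inr (by rw [Nat.mod_eq_sub_mod h, Nat.mod_eq_of_lt (by omega)]; omega)
        rcases r1 with r1 | r1 <;> rcases r2 with r2 | r2 <;> omega
      rw [h4] at e
      exact mneg_ne _ e
    rintro ⟨i, b⟩ ⟨j, c⟩ e
    have e' := congrArg Subtype.val e
    cases b <;> cases c <;> simp only [f, cond_true, cond_false] at e'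
    · rw [inj i j e']
    · exact absurd e'.symm (cross j i)
    · exact absurd e' (cross i j)
    · rw [inj i j (mneg.injective e')]
  have := Nat.card_le_card_of_injective f hf
  rw [Nat.card_prod, Nat.card_fin, Nat.card_eq_fintype_card, Fintype.card_bool, Nat.card_eq_fintype_card,
    Fintype.card_coe] at this
  omega

/-- The roots and their opposites. -/
def pm (L : List (Fin 240)) : Finset (Fin 240) := (L ++ L.map mneg).toFinset

theorem mem_pm {L : List (Fin 240)} {r : Fin 240} : r ∈ pm L ↔ r ∈ L ∨ mneg r ∈ L := by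
  simp only [pm, List.mem_toFinset, List.mem_append, List.mem_map]
  refine or_congr_right ⟨fun ⟨a, ha, e⟩ => ?_, fun h => ⟨_, h, ?_⟩⟩
  · rw [← e, ← Equiv.Perm.mul_apply, mneg_sq, Equiv.Perm.one_apply]; exact ha
  · rw [← Equiv.Perm.mul_apply, mneg_sq, Equiv.Perm.one_apply]

theorem pm_neg {L : List (Fin 240)} {r : Fin 240} (h : r ∈ pm L) : mneg r ∈ pm L := by
  rw [mem_pm] at h ⊢
  rw [← Equiv.Perm.mul_apply, mneg_sq, Equiv.Perm.one_apply]
  exact h.symm

theorem card_pm_le (L : List (Fin 240)) : (pm L).card ≤ 2 * L.length :=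
  (List.toFinset_card_le _).trans (by simp; omega)

theorem neg_iff {E : El} (hE : elOK E = true) {L : List (Fin 240)} {Q : List ℕ} (hLQ : L.map Fin.val = Q)
    (h : negSet [E] Q = true) (r : Fin 240) : pel E r = mneg r ↔ r ∈ pm L := by
  subst hLQ
  have h' := beq_iff_eq.1 (List.all_eq_true.1 h r.val (List.mem_range.2 r.isLt))
  rw [Bool.eq_iff_iff, beq_iff_eq, List.any_eq_true] at h'
  rw [← prodE_apply (allOK_cons hE allOK_nil), prodE_one, ← mneg_apply, ← Fin.ext_iff] at h'
  rw [h', mem_pm]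
  simp only [List.mem_map, Bool.or_eq_true, beq_iff_eq, exists_exists_and_eq_and]
  constructor
  · rintro ⟨q, hq, e | e⟩
    · exact Or.inl ((Fin.ext e : r = q) ▸ hq)
    · refine Or.inr ?_
      rw [← mneg_apply] at e
      rw [(Fin.ext e : r = mneg q), ← Equiv.Perm.mul_apply, mneg_sq, Equiv.Perm.one_apply]
      exact hq
  · rintro (hr | hr)
    · exact ⟨r, hr, Or.inl rfl⟩
    · refine ⟨_, hr, Or.inr ?_⟩
      rw [← mneg_apply, ← Equiv.Perm.mul_apply, mneg_sq, Equiv.Perm.one_apply]

theorem quadRefl_ok {i : ℕ} (hi : i < quadRefl.length) : elOK (quadRefl.getD i ([], (0, 0))) = true := by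
  rw [List.getD_eq_getElem _ _ hi]
  exact stab_ok.2.2.2.2.1 _ (List.getElem_mem _)

theorem neg_rp (r : Fin 240) : (rp 2 r = mneg r ↔ r ∈ pm [rA]) ∧ (rp 4 r = mneg r ↔ r ∈ pm [rA, rB]) ∧
    (rp 6 r = mneg r ↔ r ∈ pm [rA, rB, rC]) ∧ (rp 9 r = mneg r ↔ r ∈ pm [rA, rB, rC, rD]) := by
  obtain ⟨-, h2, h4, h6, h9, -⟩ := roots_ok'
  obtain ⟨vA, vB, vC, vD⟩ := root_val
  refine ⟨?_, ?_, ?_, ?_⟩ <;> rw [← pel_rpE]
  · exact neg_iff (rpE_ok (by norm_num)) (by simp [vA]) h2 r
  · exact neg_iff (rpE_ok (by norm_num)) (by simp [vA, vB]) h4 r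
  · exact neg_iff (rpE_ok (by norm_num)) (by simp [vA, vB, vC]) h6 r
  · exact neg_iff (rpE_ok (by norm_num)) (by simp [vA, vB, vC, vD]) h9 r

/-- An element commuting with another permutes the roots it negates. -/
theorem keep_neg {x y : P240} (hy : y ∈ W) (hc : y * x = x * y) {r : Fin 240} (hr : x r = mneg r) :
    x (y r) = mneg (y r) := by
  rw [← Equiv.Perm.mul_apply, ← hc, Equiv.Perm.mul_apply, hr, ← Equiv.Perm.mul_apply, comm_mneg hy,
    Equiv.Perm.mul_apply]

/-- An element of small odd prime order commuting with an element fixes the few roots it negates. -/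
theorem prime_fix {x y : P240} (hy : y ∈ W) {p : ℕ} (hp : p.Prime) (h2 : p ≠ 2) (hyp : y ^ p = 1) (hc : y * x = x * y)
    {L : List (Fin 240)} (hL : ∀ r, x r = mneg r ↔ r ∈ pm L) (hlen : L.length < p) {a : Fin 240} (ha : a ∈ L) :
    y a = a :=
  odd_fix hy hp h2 hyp (fun r hr => (hL _).1 (keep_neg hy hc ((hL r).2 hr))) (fun _ hr => pm_neg hr)
    (lt_of_le_of_lt (card_pm_le L) (by omega)) (mem_pm.2 (Or.inl ha))

theorem Dm_fix {x : P240} {L : List (Fin 240)} (hL : ∀ r, x r = mneg r ↔ r ∈ pm L) (hlen : L.length < 3)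
    {l : P240} (hl : l ∈ Dm x) : ∀ a ∈ L, l a = a := by
  intro a ha
  induction hl using Subgroup.closure_induction with
  | mem y hy =>
    exact prime_fix (Pr_le hy.1) Nat.prime_three (by norm_num) (by rw [pow_three, ← mul_assoc, hy.2.1]) hy.2.2 hL
      hlen ha
  | one => rfl
  | mul b c _ _ hb hcc => rw [Equiv.Perm.mul_apply, hcc, hb]
  | inv b _ hb => exact b.injective (by rw [hb, Equiv.Perm.coe_inv, Equiv.apply_symm_apply])

theorem mneg_not_Dm_small {x : P240} {L : List (Fin 240)} (hL : ∀ r, x r = mneg r ↔ r ∈ pm L) (hlen : L.length < 3)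
    {a : Fin 240} (ha : a ∈ L) : mneg ∉ Dm x := fun h => mneg_ne a (Dm_fix hL hlen h a ha)

theorem not_Dm_self : rp 4 ∉ Dm (rp 4) := fun h => by
  have h1 := Dm_fix (fun r => (neg_rp r).2.1) (by norm_num) h rA (by simp)
  rw [((neg_rp rA).2.1).2 (mem_pm.2 (Or.inl (by simp)))] at h1
  exact mneg_ne _ h1

theorem mneg_not_Dm : mneg ∉ Dm (rp 2) ∧ mneg ∉ Dm (rp 4) ∧ mneg ∉ Dm (rp 6) := by
  refine ⟨mneg_not_Dm_small (fun r => (neg_rp r).1) (by norm_num) (List.mem_cons_self (a := rA)),
    mneg_not_Dm_small (fun r => (neg_rp r).2.1) (by norm_num) (List.mem_cons_self (a := rA)), fun h => ?_⟩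
  let ι : Fin 6 → Fin 240 := ![rA, mneg rA, rB, mneg rB, rC, mneg rC]
  have hn : ∀ i, mneg (ι i) = ι ((Equiv.swap 0 1 * Equiv.swap 2 3 * Equiv.swap 4 5 : Equiv.Perm (Fin 6)) i) := by
    decide +kernel
  have hinj : Function.Injective ι := by decide +kernel
  have hpm : ∀ r, r ∈ pm [rA, rB, rC] ↔ ∃ i, ι i = r := by decide +kernel
  have key : ∀ l, l ∈ Dm (rp 6) → ∃ π : Equiv.Perm (Fin 6), (∀ i, l (ι i) = ι (π i)) ∧ Equiv.Perm.sign π = 1 := by
    intro l hl
    induction hl using Subgroup.closure_induction with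
    | mem y hy =>
      have hex : ∀ i, ∃ j, ι j = y (ι i) := fun i => (hpm _).1 ((neg_rp _).2.2.1.1
        (keep_neg (Pr_le hy.1) hy.2.2 ((neg_rp _).2.2.1.2 ((hpm _).2 ⟨i, rfl⟩))))
      choose f hf using hex
      have hfi : Function.Injective f := fun i j e => hinj (y.injective (by rw [← hf i, ← hf j, e]))
      let π : Equiv.Perm (Fin 6) := Equiv.ofBijective f (Finite.injective_iff_bijective.1 hfi)
      refine ⟨π, fun i => (hf i).symm, ?_⟩
      have h3 : π * π * π = 1 := Equiv.ext fun i => hinj (by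
        rw [Equiv.Perm.mul_apply, Equiv.Perm.mul_apply, Equiv.Perm.one_apply]
        show ι (f (f (f i))) = ι i
        rw [hf, hf, hf, ← Equiv.Perm.mul_apply, ← Equiv.Perm.mul_apply, hy.2.1, Equiv.Perm.one_apply])
      have := congrArg Equiv.Perm.sign h3
      rw [map_mul, map_mul, map_one] at this
      rcases Int.units_eq_one_or (Equiv.Perm.sign π) with e | e
      · exact e
      · rw [e] at this; exact absurd this (by decide)
    | one => exact ⟨1, fun i => rfl, map_one _⟩
    | mul b c _ _ hb hc =>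
      obtain ⟨π, h1, h2⟩ := hb
      obtain ⟨σ, h3, h4⟩ := hc
      exact ⟨π * σ, fun i => by rw [Equiv.Perm.mul_apply, h3, h1]; rfl, by rw [map_mul, h2, h4, one_mul]⟩
    | inv b _ hb =>
      obtain ⟨π, h1, h2⟩ := hb
      exact ⟨π⁻¹, fun i => b.injective (by simp [h1]), by rw [map_inv, h2, inv_one]⟩
  obtain ⟨π, h1, h2⟩ := key mneg h
  have : π = Equiv.swap 0 1 * Equiv.swap 2 3 * Equiv.swap 4 5 := Equiv.ext fun i => hinj (by rw [← h1, hn])
  rw [this] at h2
  exact absurd h2 (by decide)

theorem six_all {e : ℕ} (he : e < 16384) : sixOK (e / 1024) = true := by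
  have : e / 1024 < 16 := Nat.div_lt_of_lt_mul (by omega)
  generalize e / 1024 = c at this
  interval_cases c
  exacts [six_0, six_1, six_2, six_3, six_4, six_5, six_6, six_7, six_8, six_9, six_10, six_11, six_12, six_13,
    six_14, six_15]

/-- No element fixes the roots fixed by its square when that is an involution fixing four roots. -/
theorem six_no {x y : P240} (hx : x ∈ W) (hxy : x * x = y) (hy : y * y = 1) (h4 : fc y = 4)
    (hfix : ∀ r, y r = r → x r = r) : False := by
  have hp : IsPGroup 2 (Subgroup.zpowers x) := IsPGroup.of_card_dvd_pow (n := 2) (by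
    rw [Nat.card_zpowers]
    refine orderOf_dvd_of_pow_eq_one ?_
    rw [show (2 : ℕ) ^ 2 = 2 * 2 from rfl, pow_mul, pow_two x, hxy, pow_two, hy])
  obtain ⟨w, hw, hS⟩ := conj_into_S (Subgroup.zpowers_le.2 hx) hp
  obtain ⟨e, he, hse⟩ := mem_S (hS x (Subgroup.mem_zpowers x))
  obtain ⟨i, hi, hsi⟩ := mem_S (hS y (hxy ▸ mul_mem (Subgroup.mem_zpowers x) (Subgroup.mem_zpowers x)))
  have hsq : se e * se e = se i := by rw [hse, hsi, ← hxy]; group
  have hi2 : se i * se i = 1 := by
    rw [hsi]; calc w * y * w⁻¹ * (w * y * w⁻¹) = w * (y * y) * w⁻¹ := by group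
      _ = 1 := by rw [hy]; group
  have hil : i ∈ invList := by
    rw [← inv_complete, List.mem_filter, List.mem_range, onBase_iff]
    refine ⟨hi, fun k => ?_⟩
    have := congrArg (fun q : P240 => (q (sp k)).val) hi2
    simpa [se_apply] using this
  have hfix4 : fixLen (evS i) = 4 := by
    rw [← h4, ← fc_conj w y, ← hsi, fixLen, fc]
    refine congrArg List.length (List.filter_congr fun r hr => ?_)
    rw [se_apply, Fin.val_ofNat, Nat.mod_eq_of_lt (List.mem_range.1 hr)]
  obtain ⟨E, hE, hEi⟩ : ∃ E ∈ sixTab, E.1 = i := by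
    obtain ⟨k, hk, hke⟩ := List.getElem_of_mem hil
    have hlen : invList.length = 1168 := by decide +kernel
    have hpart : sixPart (k / 146) = true := by
      have : k / 146 < 8 := Nat.div_lt_of_lt_mul (by omega)
      generalize k / 146 = c at this
      interval_cases c
      exacts [sixPart_0, sixPart_1, sixPart_2, sixPart_3, sixPart_4, sixPart_5, sixPart_6, sixPart_7]
    have hm : i ∈ (invList.drop (146 * (k / 146))).take 146 := by
      rw [List.mem_iff_getElem]
      exact ⟨k % 146, by simp; omega, by simp [Nat.div_add_mod, hke]⟩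
    have h := List.all_eq_true.1 hpart i hm
    rw [hfix4] at h
    simpa using h
  obtain ⟨hrow, hroots⟩ := Bool.and_eq_true_iff.1 (List.all_eq_true.1 six_rows E hE)
  rw [beq_iff_eq, hEi] at hrow
  have h := List.all_eq_true.1 (six_all he) e (List.mem_range'_1.2 ⟨Nat.mul_div_le e 1024, by omega⟩)
  rw [withVal_eq] at h
  have h' := List.all_eq_true.1 h E hE
  have hcode : baseCode (fun p => evS e (evS e p)) = baseCode (evS i) := by
    refine List.foldl_ext _ _ 0 fun c s hs => ?_
    obtain ⟨k, hk⟩ := mem_simp hs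
    have := congrArg (fun q : P240 => (q (sp k)).val) hsq
    simp only [Equiv.Perm.mul_apply, se_apply] at this
    simp only [← hk, this]
  rw [hrow, hcode] at h'
  simp only [bne_self_eq_false, Bool.false_or, List.any_eq_true, bne_iff_ne] at h'
  obtain ⟨r, hr, hne⟩ := h'
  have hr' := List.all_eq_true.1 hroots r hr
  simp only [Bool.and_eq_true, decide_eq_true_eq, beq_iff_eq, hEi] at hr'
  refine hne ?_
  have hyr : y (w⁻¹ ⟨r, hr'.1⟩) = w⁻¹ ⟨r, hr'.1⟩ := by
    have e1 : (se i ⟨r, hr'.1⟩) = ⟨r, hr'.1⟩ := Fin.ext ((se_apply _ _).trans hr'.2)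
    rw [hsi] at e1
    apply w.injective
    rw [Equiv.Perm.coe_inv, Equiv.apply_symm_apply]
    exact e1
  have := congrArg Fin.val (congrArg w (hfix _ hyr))
  rw [Equiv.Perm.coe_inv, Equiv.apply_symm_apply] at this
  calc evS e r = ((w * x * w⁻¹ : P240) ⟨r, hr'.1⟩).val := by rw [← hse, se_apply]
    _ = r := this

end Cfsg.Lib.OEightStd
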