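import Cfsg.Agent.OEightStd.Roots

/-!
Elements of orders three and five commuting with involutions; normal forms of an involution with a reflection.
-/

set_option autoImplicit false
set_option maxRecDepth 100000
set_option linter.style.haveILetI false

namespace Cfsg.Lib.OEightStd

open Cfsg.Lib.PermCert Cfsg.Lib.CosetCert

/-- Two commuting elements of order three generating nine elements. -/
structure Nine2 {M : Type*} [Group M] (a b : M) : Prop where
  ca : a * a * a = 1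
  cb : b * b * b = 1
  comm : a * b = b * a
  na : a ≠ 1
  nb : b ≠ 1
  nab : a * b ≠ 1
  nab2 : a * b * b ≠ 1

theorem Nine2.conj {M : Type*} [Group M] {a b : M} (h : Nine2 a b) (v : M) :
    Nine2 (v * a * v⁻¹) (v * b * v⁻¹) where
  ca := by rw [show v * a * v⁻¹ * (v * a * v⁻¹) * (v * a * v⁻¹) = v * (a * a * a) * v⁻¹ by group, h.ca]; group
  cb := by rw [show v * b * v⁻¹ * (v * b * v⁻¹) * (v * b * v⁻¹) = v * (b * b * b) * v⁻¹ by group, h.cb]; group
  comm := by rw [show v * a * v⁻¹ * (v * b * v⁻¹) = v * (a * b) * v⁻¹ by group, h.comm]; group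
  na := fun e => h.na (conj_eq_one_iff.1 e)
  nb := fun e => h.nb (conj_eq_one_iff.1 e)
  nab := fun e => h.nab ((conj_eq_one_iff (a := v)).1 (by rw [← e]; group))
  nab2 := fun e => h.nab2 ((conj_eq_one_iff (a := v)).1 (by rw [← e]; group))

theorem eq_one_of_sq {M : Type*} [Group M] {y : M} {p : ℕ} (hp : Odd p) (h2 : y * y = 1) (hy : y ^ p = 1) : y = 1 := by
  obtain ⟨k, rfl⟩ := hp
  rw [pow_succ, pow_mul, pow_two, h2, one_pow, one_mul] at hy
  exact hy

theorem no5_fix {y : P240} (hy : y ∈ fixS [rC, rB, rA]) (h5 : y ^ 5 = 1) : y = 1 := by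
  by_contra hne
  haveI : Fact (Nat.Prime 5) := ⟨by norm_num⟩
  have h := Subgroup.orderOf_dvd_natCard _ hy
  rw [orderOf_eq_prime h5 hne, card_fix.1] at h
  norm_num at h

theorem no_nine_fix {a b : P240} (ha : a ∈ fixS [rC, rB, rA]) (hb : b ∈ fixS [rC, rB, rA]) (h : Nine2 a b) : False := by
  haveI : Fact (Nat.Prime 3) := ⟨Nat.prime_three⟩
  have oa : orderOf a = 3 := orderOf_eq_prime (by rw [pow_three, ← mul_assoc, h.ca]) h.na
  have ob : orderOf b = 3 := orderOf_eq_prime (by rw [pow_three, ← mul_assoc, h.cb]) h.nb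
  let f : Subgroup.zpowers a →* fixS [rC, rB, rA] := Subgroup.inclusion (Subgroup.zpowers_le.2 ha)
  let g : Subgroup.zpowers b →* fixS [rC, rB, rA] := Subgroup.inclusion (Subgroup.zpowers_le.2 hb)
  have hc : ∀ x y, Commute (f x) (g y) := fun x y => by
    obtain ⟨i, hi⟩ := Subgroup.mem_zpowers_iff.1 x.2
    obtain ⟨j, hj⟩ := Subgroup.mem_zpowers_iff.1 y.2
    refine Subtype.ext ?_
    show (x : P240) * y = y * x
    rw [← hi, ← hj]
    exact ((show Commute a b from h.comm).zpow_zpow i j).eq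
  let φ := f.noncommCoprod g hc
  have hφ : Function.Injective φ := by
    rw [← MonoidHom.ker_eq_bot_iff, Subgroup.eq_bot_iff_forall]
    rintro ⟨x, y⟩ hxy
    have e : (x : P240) * y = 1 := congrArg Subtype.val (MonoidHom.mem_ker.1 hxy)
    have hfin : ∀ {c : P240}, orderOf c = 3 → ∀ {z : P240}, z ∈ Subgroup.zpowers c → z = 1 ∨ z = c ∨ z = c * c := by
      intro c oc z hz
      obtain ⟨i, hi⟩ := Subgroup.mem_zpowers_iff.1 hz
      rw [← hi, ← zpow_mod_orderOf, oc]
      have h1 := Int.emod_nonneg i (show ((3 : ℕ) : ℤ) ≠ 0 by norm_num)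
      have h2 := Int.emod_lt_of_pos i (show (0 : ℤ) < ((3 : ℕ) : ℤ) by norm_num)
      obtain h' | h' | h' : i % ((3 : ℕ) : ℤ) = 0 ∨ i % ((3 : ℕ) : ℤ) = 1 ∨ i % ((3 : ℕ) : ℤ) = 2 := by omega
      all_goals rw [h']
      · exact Or.inl (zpow_zero c)
      · exact Or.inr (Or.inl (zpow_one c))
      · exact Or.inr (Or.inr (by rw [zpow_two]))
    have hb3 : b * b * b = 1 := h.cb
    have ha3 : a * a * a = 1 := h.ca
    have hab : a * b = b * a := h.comm
    rcases hfin oa x.2 with ex | ex | ex <;> rcases hfin ob y.2 with ey | ey | ey <;> rw [ex, ey] at e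
    · exact Prod.ext (Subtype.ext ex) (Subtype.ext ey)
    · exact absurd (by simpa using e) h.nb
    · exact absurd (show b = 1 by rw [← hb3, show b * b = 1 by simpa using e, one_mul]) h.nb
    · exact absurd (by simpa using e) h.na
    · exact absurd e h.nab
    · exact absurd (by rw [mul_assoc]; exact e) h.nab2
    · exact absurd (show a = 1 by rw [← ha3, show a * a = 1 by simpa using e, one_mul]) h.na
    · refine absurd ?_ h.nab2
      have hba : b = a := by
        calc b = (a * a * a) * b := by rw [ha3, one_mul]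
          _ = a * (a * a * b) := by group
          _ = a := by rw [e, mul_one]
      rw [hba]; exact ha3
    · refine absurd ?_ h.nab
      calc a * b = (a * a * a) * (a * b) * (b * b * b) := by rw [ha3, hb3, one_mul, mul_one]
        _ = (a * a) * (a * a * (b * b)) * (b * b) := by group
        _ = 1 := by rw [e, mul_one]; exact e
  have hd := Subgroup.card_dvd_of_injective φ hφ
  rw [Nat.card_prod, Nat.card_zpowers, Nat.card_zpowers, oa, ob, card_fix.1] at hd
  norm_num at hd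

theorem conj_comm {v x y : P240} (h : y * x = x * y) :
    (v * y * v⁻¹) * (v * x * v⁻¹) = (v * x * v⁻¹) * (v * y * v⁻¹) := by
  rw [show v * y * v⁻¹ * (v * x * v⁻¹) = v * (y * x) * v⁻¹ by group, h]; group

theorem mneg_sq_one {x : P240} (hx : x ∈ W) (h2 : x * x = 1) : mneg * x * (mneg * x) = 1 := by
  rw [mneg_mul_sq hx, h2]

theorem comm_mneg_mul {x y : P240} (hy : y ∈ W) (h : y * x = x * y) : y * (mneg * x) = mneg * x * y := by
  rw [← mul_assoc, comm_mneg hy, mul_assoc, h, mul_assoc]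

/-- No element of order five commutes with an outer involution fixing twenty-six or six roots. -/
theorem no5_G {x y : P240} (hx : x ∈ W) (h2 : x * x = 1) (hf : fc x = 26 ∨ fc x = 6) (hy : y ∈ W) (h5 : y ^ 5 = 1)
    (hc : y * x = x * y) : y = 1 := by
  have key : ∀ x ∈ W, x * x = 1 → fc x = 26 → y * x = x * y → y = 1 := by
    intro x hx h2 hf hc
    obtain ⟨v, hv, e⟩ := conj_cls hx h2 (show 6 < 10 by norm_num) hf
    have hvW := Pr_le hv
    have hy' : v * y * v⁻¹ ∈ W := mul_mem (mul_mem hvW hy) (inv_mem hvW)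
    have h5' : (v * y * v⁻¹) ^ 5 = 1 := by rw [conj_pow, h5]; group
    refine conj_eq_one_iff.1 (no5_fix ⟨hy', fun r hr => ?_⟩ h5')
    exact prime_fix hy' (by norm_num) (by norm_num) h5' (e ▸ conj_comm hc) (fun r => (neg_rp r).2.2.1) (by norm_num)
      (by simp only [List.mem_cons, List.not_mem_nil, or_false] at hr ⊢; tauto)
  rcases hf with hf | hf
  · exact key x hx h2 hf hc
  · exact key _ (mul_mem mneg_mem hx) (mneg_sq_one hx h2) (by rw [fc_mneg hx h2, hf]; rfl) (comm_mneg_mul hy hc)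

/-- No element of order five commutes with an involution fixing eight roots. -/
theorem no5_e {x y : P240} (hx : x ∈ W) (h2 : x * x = 1) (hf : fc x = 8) (hy : y ∈ W) (h5 : y ^ 5 = 1)
    (hc : y * x = x * y) : y = 1 := by
  obtain ⟨v, hv, e⟩ := conj_cls hx h2 (show 9 < 10 by norm_num) hf
  have hvW := Pr_le hv
  have hy' : v * y * v⁻¹ ∈ W := mul_mem (mul_mem hvW hy) (inv_mem hvW)
  have h5' : (v * y * v⁻¹) ^ 5 = 1 := by rw [conj_pow, h5]; group
  obtain ⟨-, -, -, hsq⟩ := fix_quad (w := v * y * v⁻¹) ⟨hy', fun r hr =>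
    prime_fix hy' (by norm_num) (by norm_num) h5' (e ▸ conj_comm hc) (fun r => (neg_rp r).2.2.2) (by norm_num)
      (by simp only [List.mem_cons, List.not_mem_nil, or_false] at hr ⊢; tauto)⟩
  exact conj_eq_one_iff.1 (eq_one_of_sq (by decide) hsq h5')

/-- No nine elements commute with an involution with sixty fixed roots and fix one of them. -/
theorem nine_k2 {q a b : P240} (hq : q ∈ W) (h2 : q * q = 1) (hf : fc q = 60) {g : Fin 240} (hg : q g = g)
    (ha : a ∈ W) (hb : b ∈ W) (h : Nine2 a b) (hca : a * q = q * a) (hcb : b * q = q * b) (hag : a g = g) (hbg : b g = g) :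
    False := by
  obtain ⟨v, hv, e⟩ := conj_cls hq h2 (show 4 < 10 by norm_num) hf
  have hvW := Pr_le hv
  have hg4 : rp 4 (v g) = v g := by
    rw [← e, Equiv.Perm.mul_apply, Equiv.Perm.mul_apply, Equiv.Perm.coe_inv, Equiv.symm_apply_apply, hg]
  obtain ⟨k, hk, hkc, -, -, hkC⟩ := k2_orbit hg4
  set u := k⁻¹ * v
  have huW : u ∈ W := mul_mem (inv_mem hk) hvW
  have hu : u * q * u⁻¹ = rp 4 := by
    rw [show u * q * u⁻¹ = k⁻¹ * (v * q * v⁻¹) * k by simp [u, mul_assoc], e, mul_assoc, ← hkc, inv_mul_cancel_left]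
  have huC : u g = rC := by
    simp only [u, Equiv.Perm.mul_apply, ← hkC, Equiv.Perm.coe_inv, Equiv.symm_apply_apply]
  have key : ∀ y ∈ W, y * y * y = 1 → y * q = q * y → y g = g → u * y * u⁻¹ ∈ fixS [rC, rB, rA] := by
    intro y hy h3 hc hyg
    have hy' : u * y * u⁻¹ ∈ W := mul_mem (mul_mem huW hy) (inv_mem huW)
    refine ⟨hy', fun r hr => ?_⟩
    simp only [List.mem_cons, List.not_mem_nil, or_false] at hr
    rcases hr with rfl | hr
    · rw [← huC, Equiv.Perm.mul_apply, Equiv.Perm.mul_apply, Equiv.Perm.coe_inv, Equiv.symm_apply_apply, hyg]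
    · exact prime_fix hy' Nat.prime_three (by norm_num) (by rw [conj_pow, show y ^ 3 = 1 by rw [pow_three, ← mul_assoc, h3]]; group)
        (hu ▸ conj_comm hc) (fun r => (neg_rp r).2.1) (by norm_num)
        (by simp only [List.mem_cons, List.not_mem_nil, or_false]; tauto)
  exact no_nine_fix (key a ha h.ca hca hag) (key b hb h.cb hcb hbg) (h.conj u)

theorem wK_d_spec : pel wK_d ∈ Pr ∧ pel wK_d * rp 4 = rp 4 * pel wK_d ∧
    pel wK_d * qr 0 * (pel wK_d)⁻¹ = qr 1 ∧ pel wK_d * qr 1 * (pel wK_d)⁻¹ = qr 0 ∧ qr 0 * qr 1 = qr 1 * qr 0 := by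
  obtain ⟨-, -, -, -, -, -, -, -, -, -, -, -, hd, hA, hB⟩ := wK_ok
  obtain ⟨-, -, -, -, -, -, -, -, hab, -⟩ := wF_ok
  have hel := List.all_eq_true.1 el_ok.1 wK_d (by simp)
  rw [Bool.and_eq_true] at hel
  have o4 := rpE_ok (show 4 < 11 by norm_num)
  have o0 := qr_ok (show 0 < 4 by norm_num)
  have o1 := qr_ok (show 1 < 4 by norm_num)
  have o2 := rpE_ok (show 2 < 11 by norm_num)
  have q0 : qr 0 * qr 1 = qr 1 * qr 0 := by
    have := (eqB_iff (allOK_cons o1 (allOK_cons o2 allOK_nil)) (allOK_cons o2 (allOK_cons o1 allOK_nil))).1 hab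
    simp only [prodE, List.map_cons, List.map_nil, List.prod_cons, List.prod_nil, mul_one, pel_rpE, ← qr_facts.1] at this
    exact this.symm
  have eA := (eqB_iff (allOK_cons hel.1 (allOK_cons o0 allOK_nil))
    (allOK_cons o4 (allOK_cons o0 (allOK_cons hel.1 allOK_nil)))).1 hA
  have eB := (eqB_iff (allOK_cons hel.1 (allOK_cons o1 allOK_nil))
    (allOK_cons o4 (allOK_cons o1 (allOK_cons hel.1 allOK_nil)))).1 hB
  have eD := (eqB_iff (allOK_cons hel.1 (allOK_cons o4 allOK_nil)) (allOK_cons o4 (allOK_cons hel.1 allOK_nil))).1 hd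
  simp only [prodE, List.map_cons, List.map_nil, List.prod_cons, List.prod_nil, mul_one, pel_rpE] at eA eB eD
  have s0 : qr 0 * qr 0 = 1 := by rw [qr_facts.1]; exact rp_sq (by norm_num)
  have s4 : qr 0 * qr 1 * (qr 0 * qr 1) = 1 := by rw [← qr_facts.2.1]; exact rp_sq (by norm_num)
  have s1 : qr 1 * qr 1 = 1 := by
    calc qr 1 * qr 1 = qr 0 * qr 0 * (qr 1 * qr 1) := by rw [s0, one_mul]
      _ = qr 0 * (qr 0 * qr 1) * qr 1 := by group
      _ = qr 0 * (qr 1 * qr 0) * qr 1 := by rw [q0]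
      _ = qr 0 * qr 1 * (qr 0 * qr 1) := by group
      _ = 1 := s4
  refine ⟨pel_even hel.1 hel.2, eD, mul_inv_eq_iff_eq_mul.2 ?_, mul_inv_eq_iff_eq_mul.2 ?_, q0⟩
  · show pel wK_d * pel _ = _
    rw [eA, ← mul_assoc]
    show rp 4 * qr 0 * _ = _
    rw [qr_facts.2.1, q0, mul_assoc (qr 1), s0, mul_one]
  · show pel wK_d * pel _ = _
    rw [eB, ← mul_assoc]
    show rp 4 * qr 1 * _ = _
    rw [qr_facts.2.1, mul_assoc (qr 0), s1, mul_one]

/-- A reflection commuting with the representative with sixty fixed roots, with product a reflection up to sign, is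
moved onto the product by an even element. -/
theorem k2_pair {w : P240} (hw : w ∈ W) (h2 : w * w = 1) (hf : fc w = 126) (hc : w * rp 4 = rp 4 * w)
    (hp : fc (w * rp 4) = 126 ∨ fc (w * rp 4) = 2) :
    ∃ d ∈ Pr, d * rp 4 = rp 4 * d ∧ d * w * d⁻¹ * w⁻¹ = rp 4 := by
  obtain ⟨g, hroot⟩ := refl_root hw h2 hf
  have hwg : w g = mneg g := (hroot g).2 (mem_pm.2 (Or.inl (by simp)))
  have h4W := (rp_spec (show 4 < 11 by norm_num)).2
  obtain ⟨hdP, hd4, hd0, hd1, h01⟩ := wK_d_spec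
  have hwi : w⁻¹ = w := inv_eq_of_mul_eq_one_left h2
  rcases mem_pm_one.1 ((hroot _).1 (keep_neg h4W hc.symm hwg)) with h4 | h4
  · obtain ⟨k, hk, hkc, -, -, hkC⟩ := k2_orbit h4
    obtain ⟨-, -, -, c2, c26, n2, -⟩ := qr_facts
    have hw' : w = k * qr 2 * k⁻¹ := refl_unique hw (mul_mem (mul_mem hk (qr_mem (by norm_num))) (inv_mem hk)) h2 hf
      (by rw [fc_conj, c2]) hwg (hkC ▸ neg_conj hk ((n2 rC).2 (mem_pm.2 (Or.inl (by simp)))))
    have : w * rp 4 = k * (qr 2 * rp 4) * k⁻¹ := by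
      rw [hw', mul_assoc (k * qr 2), show k⁻¹ * rp 4 = rp 4 * k⁻¹ from ?_]
      · group
      · rw [eq_mul_inv_iff_mul_eq, mul_assoc, ← hkc, inv_mul_cancel_left]
    rw [this, fc_conj, c26] at hp
    omega
  · obtain ⟨e0, e4, c1, -, -, -, n1⟩ := qr_facts
    have hg : g ∈ pm [rA, rB] := (neg_rp g).2.1.1 h4
    have hcase : w = qr 0 ∨ w = qr 1 := by
      have hneg : ∀ a, g ∈ pm [a] → w a = mneg a := fun a ha => (hroot a).2 (by
        rcases mem_pm_one.1 ha with e | e
        · rw [e]; exact mem_pm.2 (Or.inl (by simp))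
        · refine mem_pm_one.2 (Or.inr ?_)
          rw [e, ← Equiv.Perm.mul_apply, mneg_sq, Equiv.Perm.one_apply])
      have hor : g ∈ pm [rA] ∨ g ∈ pm [rB] := by
        rw [mem_pm, mem_pm]; rw [mem_pm] at hg
        simp only [List.mem_cons, List.not_mem_nil, or_false] at hg ⊢
        tauto
      rcases hor with ha | ha
      · refine Or.inl (refl_unique hw (qr_mem (by norm_num)) h2 hf (by rw [e0]; exact fc_rp (by norm_num)) (hneg _ ha) ?_)
        rw [e0]; exact (neg_rp rA).1.2 (mem_pm.2 (Or.inl (by simp)))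
      · exact Or.inr (refl_unique hw (qr_mem (by norm_num)) h2 hf c1 (hneg _ ha) ((n1 rB).2 (mem_pm.2 (Or.inl (by simp)))))
    refine ⟨_, hdP, hd4, ?_⟩
    rcases hcase with e | e <;> rw [hwi, e]
    · rw [hd0, ← h01, ← e4]
    · rw [hd1, ← e4]

/-- An involution with four fixed roots and a reflection at one of them. -/
theorem k6_fix {q v : P240} (hq : q ∈ W) (h2 : q * q = 1) (hf : fc q = 4) (hv : v ∈ W) (hv2 : v * v = 1)
    (hvf : fc v = 126) {g : Fin 240} (hvg : v g = mneg g) (hg : q g = g) :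
    ∃ l ∈ Pr, q = mneg * (l * v * l⁻¹ * v) := by
  obtain ⟨w, hw, e⟩ := conj_cls (mul_mem mneg_mem hq) (mneg_sq_one hq h2) (show 4 < 10 by norm_num)
    (by rw [fc_mneg hq h2, hf]; rfl)
  have hwW := Pr_le hw
  obtain ⟨hdP, hd4, hd0, hd1, h01⟩ := wK_d_spec
  obtain ⟨e0, e4, c1, -, -, -, n1⟩ := qr_facts
  set x := w * v * w⁻¹
  have hxW : x ∈ W := mul_mem (mul_mem hwW hv) (inv_mem hwW)
  have hx2 : x * x = 1 := by simp only [x]; rw [show w * v * w⁻¹ * (w * v * w⁻¹) = w * (v * v) * w⁻¹ by group, hv2]; group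
  have hxg : x (w g) = mneg (w g) := neg_conj hwW hvg
  have hx : x = qr 0 ∨ x = qr 1 := by
    have hm : w g ∈ pm [rA, rB] := (neg_rp _).2.1.1 (e ▸ neg_conj hwW (show (mneg * q) g = mneg g by
      rw [Equiv.Perm.mul_apply, hg]))
    have key : ∀ {i : ℕ} {a : Fin 240}, i < 4 → fc (qr i) = 126 → qr i a = mneg a → w g ∈ pm [a] → x = qr i := by
      intro i a hi hfi hia ha
      refine refl_unique hxW (qr_mem hi) hx2 (by rw [fc_conj, hvf]) hfi hxg ?_
      rcases mem_pm_one.1 ha with h | h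
      · rw [h, hia]
      · rw [h, ← Equiv.Perm.mul_apply, comm_mneg (qr_mem hi), Equiv.Perm.mul_apply, hia]
    rw [mem_pm] at hm
    simp only [List.mem_cons, List.not_mem_nil, or_false] at hm
    rcases hm with (h | h) | (h | h)
    · exact Or.inl (key (by norm_num) (by rw [e0]; exact fc_rp (by norm_num))
        (by rw [e0]; exact (neg_rp rA).1.2 (mem_pm.2 (Or.inl (by simp)))) (mem_pm.2 (Or.inl (by simp [h]))))
    · exact Or.inr (key (by norm_num) c1 ((n1 rB).2 (mem_pm.2 (Or.inl (by simp)))) (mem_pm.2 (Or.inl (by simp [h]))))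
    · exact Or.inl (key (by norm_num) (by rw [e0]; exact fc_rp (by norm_num))
        (by rw [e0]; exact (neg_rp rA).1.2 (mem_pm.2 (Or.inl (by simp)))) (mem_pm.2 (Or.inr (by simp [h]))))
    · exact Or.inr (key (by norm_num) c1 ((n1 rB).2 (mem_pm.2 (Or.inl (by simp)))) (mem_pm.2 (Or.inr (by simp [h]))))
  have h4 : rp 4 = pel wK_d * x * (pel wK_d)⁻¹ * x := by
    rcases hx with h | h <;> rw [h]
    · rw [hd0, ← h01, ← e4]
    · rw [hd1, ← e4]
  refine ⟨w⁻¹ * pel wK_d * w, mul_mem (mul_mem (inv_mem hw) hdP) hw, ?_⟩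
  calc q = mneg * (mneg * q) := by rw [← mul_assoc, mneg_sq, one_mul]
    _ = mneg * (w⁻¹ * (w * (mneg * q) * w⁻¹) * w) := by group
    _ = _ := by rw [e, h4]; simp only [x]; group

theorem fix_tr_spec {r : Fin 240} (hr : rp 8 r = r) :
    ∃ t ∈ W, t * rp 8 = rp 8 * t ∧ t rD = r := by
  obtain ⟨hc, hall⟩ := fix_tr_ok
  obtain ⟨-, -, -, vD⟩ := root_val
  have o8 := rpE_ok (show 8 < 11 by norm_num)
  have h := List.all_eq_true.1 hall r.val (List.mem_range.2 r.isLt)
  rw [← prodE_apply (allOK_cons o8 allOK_nil), prodE_one, pel_rpE, hr] at h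
  simp only [bne_self_eq_false, Bool.false_or, List.any_eq_true, beq_iff_eq] at h
  obtain ⟨t, ht, he⟩ := h
  have ot := stab_ok.2.2.2.2.2.1 t ht
  refine ⟨pel t, pel_mem ot, ?_, Fin.ext ?_⟩
  · simpa [prodE, pel_rpE] using (eqB_iff (allOK_cons ot (allOK_cons o8 allOK_nil))
      (allOK_cons o8 (allOK_cons ot allOK_nil))).1 (List.all_eq_true.1 hc t ht)
  · rw [← prodE_one, prodE_apply (allOK_cons ot allOK_nil), vD, he]

/-- The reflection at the fixed root of the chain. -/
def rR : P240 := pel reflR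

theorem rR_facts : rR ∈ W ∧ rR * rR = 1 ∧ fc rR = 126 ∧ rR rD = mneg rD ∧ rp 8 rD = rD := by
  obtain ⟨-, -, -, -, -, -, ok⟩ := stab_ok
  obtain ⟨-, -, -, -, -, hn, hD, -⟩ := roots_ok'
  obtain ⟨-, -, -, vD⟩ := root_val
  obtain ⟨-, -, -, -, -, c, -⟩ := refl_facts
  have hW : rR ∈ W := pel_mem ok
  have hf : fc rR = 126 := by rw [rR, ← prodE_one, fc_prodE (allOK_cons ok allOK_nil), c]
  refine ⟨hW, ?_, hf, (neg_iff ok (L := [rD]) (by simp [vD]) hn rD).2 (mem_pm.2 (Or.inl (by simp))), Fin.ext ?_⟩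
  · have := (eqB_iff (allOK_cons ok (allOK_cons ok allOK_nil)) allOK_nil).1 rR_sq_ok
    simpa [prodE, rR] using this
  · rw [← pel_rpE, ← prodE_one, prodE_apply (allOK_cons (rpE_ok (by norm_num)) allOK_nil), vD, hD]

/-- An involution with twenty-four fixed roots and a reflection at one of them. -/
theorem a_norm {q v : P240} (hq : q ∈ W) (h2 : q * q = 1) (hf : fc q = 24) (hv : v ∈ W) (hv2 : v * v = 1)
    (hvf : fc v = 126) {g : Fin 240} (hvg : v g = mneg g) (hg : q g = g) :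
    ∃ h ∈ W, h * rp 8 * h⁻¹ = q ∧ h * rR * h⁻¹ = v := by
  obtain ⟨w, hw, e⟩ := conj_cls hq h2 (show 8 < 10 by norm_num) hf
  have hwW := Pr_le hw
  obtain ⟨t, ht, htc, htD⟩ := fix_tr_spec (r := w g) (by
    rw [← e, Equiv.Perm.mul_apply, Equiv.Perm.mul_apply, Equiv.Perm.coe_inv, Equiv.symm_apply_apply, hg])
  obtain ⟨hRW, hR2, hRf, hRD, -⟩ := rR_facts
  have hh : w⁻¹ * t ∈ W := mul_mem (inv_mem hwW) ht
  refine ⟨w⁻¹ * t, hh, ?_, ?_⟩
  · rw [mul_assoc w⁻¹, htc, mul_inv_rev, inv_inv, ← e]; group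
  · refine (refl_unique hv (mul_mem (mul_mem hh hRW) (inv_mem hh)) hv2 hvf (by rw [fc_conj, hRf]) hvg ?_).symm
    have := neg_conj hh hRD
    rwa [show (w⁻¹ * t) rD = g by
      rw [Equiv.Perm.mul_apply, htD, Equiv.Perm.coe_inv, Equiv.symm_apply_apply]] at this

end Cfsg.Lib.OEightStd
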