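import Cfsg.Agent.OEightStd.Kit
import Cfsg.Agent.OEightCover.Mult

/-!
The group of the root system of rank eight on its roots, with the index-two subgroup covered by the fourfold cover.
-/

set_option autoImplicit false
set_option maxRecDepth 100000
set_option linter.style.haveILetI false

namespace Cfsg.Lib.OEightStd

open Cfsg.Lib.PermCert Cfsg.Lib.CosetCert
open Cfsg.Lib.OEightCover (Cover imD actC actA)

/-- The permutations of the roots. -/
abbrev P240 : Type := Equiv.Perm (Fin 240)

/-- A letter as a permutation. -/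
def let' (l : ℕ) : P240 := perm 240 (lt4 l)

/-- The group of the root system. -/
def W : Subgroup P240 := lgp let' (List.range 4)

/-- The negation. -/
def mneg : P240 := perm 240 negP

/-- The value of a word. -/
def wv (w : List ℕ) : P240 := wval let' w

theorem let_valid {l : ℕ} (h : l < 4) : valid 240 (lt4 l) = true :=
  List.all_eq_true.1 ltab_valid l (List.mem_range.2 h)

theorem let_mem {l : ℕ} (h : l < 4) : let' l ∈ W := lgp_mem _ (List.mem_range.2 h)

theorem wv_mem {w : List ℕ} (h : ∀ l ∈ w, l < 4) : wv w ∈ W := by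
  refine lgp_wval let' ?_
  simpa [inLetters] using h

theorem wv_apply {w : List ℕ} (h : ∀ l ∈ w, l < 4) (x : Fin 240) : (wv w x).val = evalL w x.val := by
  induction w with
  | nil => simp [wv, wval, evalL]
  | cons l w ih =>
    have e : wv (l :: w) = let' l * wv w := by simp [wv, wval]
    rw [e, Equiv.Perm.mul_apply, let', perm_apply (let_valid (h l List.mem_cons_self)),
      ih fun a ha => h a (List.mem_cons_of_mem _ ha)]
    rfl

theorem el_spec {E : El} (h : elOK E = true) :
    valid 240 E.2 = true ∧ perm 240 E.2 = wv E.1 ∧ perm 240 E.2 ∈ W := by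
  simp only [elOK, Bool.and_eq_true, List.all_eq_true, decide_eq_true_eq, beq_iff_eq, List.mem_range] at h
  obtain ⟨⟨hl, hv⟩, he⟩ := h
  have e : perm 240 E.2 = wv E.1 := Equiv.ext fun x => Fin.ext (by
    rw [perm_apply hv, wv_apply hl, he x.val x.isLt])
  exact ⟨hv, e, e ▸ wv_mem hl⟩

theorem mneg_apply (x : Fin 240) : (mneg x).val = ng x.val := perm_apply neg_ok.1 x

theorem mneg_ne (x : Fin 240) : mneg x ≠ x := fun e => by
  have h := List.all_eq_true.1 neg_ok.2.2 x.val (List.mem_range.2 x.isLt)
  simp only [Bool.and_eq_true, bne_iff_ne] at h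
  exact h.2 ((mneg_apply x).symm.trans (congrArg Fin.val e))

theorem mneg_sq : mneg * mneg = 1 := Equiv.ext fun x => Fin.ext (by
  rw [Equiv.Perm.mul_apply, mneg_apply, mneg_apply, Equiv.Perm.one_apply]
  have h := List.all_eq_true.1 neg_ok.2.2 x.val (List.mem_range.2 x.isLt)
  simp only [Bool.and_eq_true, beq_iff_eq] at h
  exact h.1)

theorem mneg_ne_one : mneg ≠ 1 := fun e => mneg_ne 0 (by rw [e, Equiv.Perm.one_apply])

theorem comm_mneg {w : P240} (h : w ∈ W) : w * mneg = mneg * w := by
  induction h using Subgroup.closure_induction with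
  | mem _ hy =>
    obtain ⟨l, hl, rfl⟩ := hy
    refine Equiv.ext fun x => Fin.ext ?_
    have hv := let_valid (List.mem_range.1 hl)
    simp only [Equiv.Perm.mul_apply, let', perm_apply hv, mneg_apply]
    exact beq_iff_eq.1 (List.all_eq_true.1 (List.all_eq_true.1 ltab_neg l hl) x.val (List.mem_range.2 x.isLt))
  | one => simp
  | mul a b _ _ ha hb => rw [mul_assoc, hb, ← mul_assoc, ha, mul_assoc]
  | inv a _ ha => rw [← mul_left_inj a, inv_mul_cancel_right, mul_assoc, ← ha, ← mul_assoc, inv_mul_cancel, one_mul]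

theorem acute_map {w : P240} (h : w ∈ W) (a b : Fin 240) : acute (w a).val (w b).val = acute a.val b.val := by
  induction h using Subgroup.closure_induction generalizing a b with
  | mem _ hy =>
    obtain ⟨l, hl, rfl⟩ := hy
    have hv := let_valid (List.mem_range.1 hl)
    have he := beq_iff_eq.1 (List.all_eq_true.1 (List.all_eq_true.1 ltab_acute l hl) a.val (List.mem_range.2 a.isLt))
    rw [acute, acute, let', perm_apply hv, perm_apply hv, ← he, Bool.eq_iff_iff, OEightCover.testBit_img]
    constructor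
    · rintro ⟨s, hs, hb, e⟩
      have : (⟨s, hs⟩ : Fin 240) = b :=
        (perm 240 (lt4 l)).injective (Fin.ext (by rw [perm_apply hv, perm_apply hv]; exact e))
      rw [← this]
      exact hb
    · exact fun hb => ⟨b.val, b.isLt, hb, rfl⟩
  | one => simp
  | mul c d _ _ hc hd => rw [Equiv.Perm.mul_apply, Equiv.Perm.mul_apply, hc, hd]
  | inv c _ hc =>
    have := hc (c⁻¹ a) (c⁻¹ b)
    simp only [Equiv.Perm.coe_inv, Equiv.apply_symm_apply] at this
    exact this.symm

/-- A root of the base. -/
def sp (k : Fin 8) : Fin 240 := ⟨simp.getD k.val 0, by revert k; decide +kernel⟩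

theorem mem_simp {s : ℕ} (hs : s ∈ simp) : ∃ k : Fin 8, (sp k).val = s := by
  obtain ⟨i, hi, rfl⟩ := List.getElem_of_mem hs
  exact ⟨⟨i, hi⟩, by simp [sp, List.getElem?_eq_getElem hi]⟩

/-- An element is determined by the images of the base. -/
theorem ext8 {w v : P240} (hw : w ∈ W) (hv : v ∈ W) (h : ∀ k, w (sp k) = v (sp k)) : w = v := by
  suffices hu : v⁻¹ * w = 1 from (inv_mul_eq_one.1 hu).symm
  set u := v⁻¹ * w
  have huW : u ∈ W := mul_mem (inv_mem hv) hw
  have hfix : ∀ s ∈ simp, ∃ x : Fin 240, x.val = s ∧ u x = x := fun s hs => by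
    obtain ⟨k, hk⟩ := mem_simp hs
    exact ⟨sp k, hk, by simp [u, h k]⟩
  refine Equiv.ext fun a => ?_
  rw [Equiv.Perm.one_apply]
  by_contra hne
  have key : angles (u a).val = angles a.val := by
    unfold angles
    refine List.foldl_ext _ _ 0 fun c s hs => ?_
    obtain ⟨x, hx, hfx⟩ := hfix s hs
    have hn : u (mneg x) = mneg x := by
      rw [← Equiv.Perm.mul_apply, comm_mneg huW, Equiv.Perm.mul_apply, hfx]
    have e1 : acute (u a).val s = acute a.val s := by
      conv_lhs => rw [← hx, ← hfx]
      rw [acute_map huW, hx]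
    have e2 : acute (u a).val (ng s) = acute a.val (ng s) := by
      conv_lhs => rw [← hx, ← mneg_apply, ← hn]
      rw [acute_map huW, mneg_apply, hx]
    have e3 : ((u a).val == s) = (a.val == s) := by
      rw [Bool.eq_iff_iff, beq_iff_eq, beq_iff_eq, ← hx, ← Fin.ext_iff, ← Fin.ext_iff]
      exact ⟨fun e => u.injective (e.trans hfx.symm), fun e => e ▸ hfx⟩
    have e4 : ((u a).val == ng s) = (a.val == ng s) := by
      rw [Bool.eq_iff_iff, beq_iff_eq, beq_iff_eq, ← hx, ← mneg_apply, ← Fin.ext_iff, ← Fin.ext_iff]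
      exact ⟨fun e => u.injective (e.trans hn.symm), fun e => e ▸ hn⟩
    rw [e1, e2, e3, e4]
  have h2 := List.all_eq_true.1 simp_ok.2
  rcases lt_trichotomy (u a).val a.val with hl | he | hl
  · have := List.all_eq_true.1 (h2 a.val (List.mem_range.2 a.isLt)) _ (List.mem_range.2 hl)
    simp [key] at this
  · exact hne (Fin.ext he)
  · have := List.all_eq_true.1 (h2 (u a).val (List.mem_range.2 (u a).isLt)) _ (List.mem_range.2 hl)
    simp [key] at this

theorem sign_swaps {n : ℕ} [NeZero n] (w : Equiv.Perm (Fin n)) (L : List (ℕ × ℕ)) (hs : ∀ p ∈ L, p.1 < n ∧ p.2 < n ∧ p.1 ≠ p.2)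
    (heq : ∀ x : Fin n,
      L.foldr (fun p y => bif y == p.1 then p.2 else bif y == p.2 then p.1 else y) x.val = (w x).val) :
    Equiv.Perm.sign w = (-1) ^ L.length := by
  let sw : ℕ × ℕ → Equiv.Perm (Fin n) := fun p => Equiv.swap ⟨p.1 % n, Nat.mod_lt _ (NeZero.pos n)⟩
    ⟨p.2 % n, Nat.mod_lt _ (NeZero.pos n)⟩
  have hval : ∀ (M : List (ℕ × ℕ)), (∀ p ∈ M, p.1 < n ∧ p.2 < n ∧ p.1 ≠ p.2) → ∀ x : Fin n,
      ((M.map sw).prod x).val =
        M.foldr (fun p y => bif y == p.1 then p.2 else bif y == p.2 then p.1 else y) x.val := by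
    intro M
    induction M with
    | nil => intros; simp
    | cons p M ih =>
      intro hM x
      rw [List.map_cons, List.prod_cons, Equiv.Perm.mul_apply, List.foldr_cons,
        ← ih (fun q hq => hM q (List.mem_cons_of_mem _ hq)) x]
      obtain ⟨h1, h2, -⟩ := hM p List.mem_cons_self
      generalize (M.map sw).prod x = y
      simp only [sw, Equiv.swap_apply_def, Nat.mod_eq_of_lt h1, Nat.mod_eq_of_lt h2, Fin.ext_iff]
      by_cases a1 : y.val = p.1
      · rw [if_pos a1, beq_iff_eq.2 a1, cond_true]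
      · rw [if_neg a1, beq_false_of_ne a1, cond_false]
        by_cases a2 : y.val = p.2
        · rw [if_pos a2, beq_iff_eq.2 a2, cond_true]
        · rw [if_neg a2, beq_false_of_ne a2, cond_false]
  have e : w = (L.map sw).prod := Equiv.ext fun x => Fin.ext (by rw [hval _ hs, heq])
  rw [e, map_list_prod, List.map_map, List.prod_eq_pow_card _ (-1 : ℤˣ) ?_, List.length_map]
  intro a ha
  obtain ⟨p, hp, rfl⟩ := List.mem_map.1 ha
  obtain ⟨h1, h2, h3⟩ := hs p hp
  refine Equiv.Perm.sign_swap fun e => h3 ?_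
  have := congrArg Fin.val e
  simpa [Nat.mod_eq_of_lt h1, Nat.mod_eq_of_lt h2] using this

theorem sign_let_three : Equiv.Perm.sign (let' 3) = -1 := by
  have h := sign_swaps (let' 3) swapsR (fun p hp => by
      have := List.all_eq_true.1 refl_ok.2.2.1 p hp
      simpa [and_assoc] using this) (fun x => by
      have := beq_iff_eq.1 (List.all_eq_true.1 refl_ok.2.2.2 x.val (List.mem_range.2 x.isLt))
      rw [let', perm_apply (let_valid (Nat.lt_succ_self 3))]
      exact this)
  rw [refl_ok.2.1] at h
  exact h.trans (Odd.neg_one_pow ⟨28, rfl⟩)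

theorem actC_let {l : ℕ} (hl : l < 3) : actC (imD l) = let' l := Equiv.ext fun x => Fin.ext (by
  rw [OEightCover.actC, OEightCover.res_imD _ _ hl, let', perm_apply (let_valid (by omega))]
  exact beq_iff_eq.1 (List.all_eq_true.1 (List.all_eq_true.1 ltab_cover l (List.mem_range.2 hl)) x.val
    (List.mem_range.2 x.isLt)))

/-- The image of the cover. -/
noncomputable def Pr : Subgroup P240 := actC.range

theorem let_mem_Pr {l : ℕ} (hl : l < 3) : let' l ∈ Pr := ⟨imD l, actC_let hl⟩

theorem Pr_eq : Pr = lgp let' (List.range 3) := by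
  refine le_antisymm ?_ ((Subgroup.closure_le _).2 ?_)
  · have h : (⊤ : Subgroup Cover) ≤ (lgp let' (List.range 3)).comap actC := by
      rw [← OEightCover.top_eq (P := (lgp let' (List.range 3)).comap actC) fun l hl => by
        rw [Subgroup.mem_comap, actC_let hl]
        exact lgp_mem _ (List.mem_range.2 hl)]
    rintro _ ⟨g, rfl⟩
    exact h (Subgroup.mem_top g)
  · rintro _ ⟨l, hl, rfl⟩
    exact let_mem_Pr (List.mem_range.1 hl)

theorem Pr_le : Pr ≤ W := Pr_eq ▸ lgp_mono _ fun _ hl => List.mem_range.2 (Nat.lt_succ_of_lt (List.mem_range.1 hl))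

theorem sign_Pr {w : P240} (h : w ∈ Pr) : Equiv.Perm.sign w = 1 := by
  obtain ⟨g, rfl⟩ := h
  have h1 : (⊤ : Subgroup Cover) ≤ (Equiv.Perm.sign.comp actC).ker := by
    rw [← OEightCover.cover_perfect]
    exact Abelianization.commutator_subset_ker _
  exact h1 (Subgroup.mem_top g)

theorem let3_sq : let' 3 * let' 3 = 1 := by
  have h := isId_sound (n := 240) (w := [lt4 3, lt4 3]) (fun g hg => by
    simp only [List.mem_cons, List.not_mem_nil, or_false, or_self] at hg
    exact hg ▸ let_valid (by norm_num)) refl_ok.1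
  simpa [let'] using h

theorem normalizes {p : P240} (hp : p ∈ Pr) : let' 3 * p * let' 3 ∈ Pr := by
  rw [Pr_eq] at hp ⊢
  induction hp using Subgroup.closure_induction with
  | mem _ hy =>
    obtain ⟨l, hl, rfl⟩ := hy
    have hl' := List.mem_range.1 hl
    have h := List.all_eq_true.1 conj_ok l hl
    simp only [Bool.and_eq_true, List.all_eq_true, decide_eq_true_eq, beq_iff_eq, List.mem_range] at h
    have e : let' 3 * let' l * let' 3 = wv (conjWords.getD l []) := Equiv.ext fun x => Fin.ext (by
      rw [wv_apply (fun k hk => Nat.lt_succ_of_lt (h.1 k hk)), h.2 x.val x.isLt]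
      simp only [Equiv.Perm.mul_apply, let', perm_apply (let_valid (by norm_num : 3 < 4)),
        perm_apply (let_valid (show l < 4 by omega))]
      rfl)
    rw [e]
    refine lgp_wval let' ?_
    simpa [inLetters] using h.1
  | one => rw [mul_one, let3_sq]; exact one_mem _
  | mul a b _ _ ha hb =>
    have e : let' 3 * (a * b) * let' 3 = (let' 3 * a * let' 3) * (let' 3 * b * let' 3) :=
      calc let' 3 * (a * b) * let' 3 = let' 3 * a * 1 * b * let' 3 := by group
        _ = _ := by rw [← let3_sq]; group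
    exact e ▸ mul_mem ha hb
  | inv a _ ha =>
    have hi : (let' 3)⁻¹ = let' 3 := inv_eq_of_mul_eq_one_left let3_sq
    have e : let' 3 * a⁻¹ * let' 3 = (let' 3 * a * let' 3)⁻¹ := by simp [mul_inv_rev, hi, mul_assoc]
    exact e ▸ inv_mem ha

theorem let3_inv : (let' 3)⁻¹ = let' 3 := inv_eq_of_mul_eq_one_left let3_sq

theorem W_cases {w : P240} (h : w ∈ W) : w ∈ Pr ∨ w * let' 3 ∈ Pr := by
  induction h using Subgroup.closure_induction with
  | mem _ hy =>
    obtain ⟨l, hl, rfl⟩ := hy
    have hl' := List.mem_range.1 hl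
    by_cases h3 : l < 3
    · exact Or.inl (let_mem_Pr h3)
    · obtain rfl : l = 3 := by omega
      exact Or.inr (let3_sq ▸ one_mem Pr)
  | one => exact Or.inl (one_mem _)
  | mul a b _ _ ha hb =>
    rcases ha with ha | ha <;> rcases hb with hb | hb
    · exact Or.inl (mul_mem ha hb)
    · exact Or.inr (by rw [mul_assoc]; exact mul_mem ha hb)
    · refine Or.inr ?_
      have e : a * b * let' 3 = (a * let' 3) * (let' 3 * b * let' 3) :=
        calc a * b * let' 3 = a * 1 * b * let' 3 := by group
          _ = _ := by rw [← let3_sq]; group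
      exact e ▸ mul_mem ha (normalizes hb)
    · refine Or.inl ?_
      have e : a * b = (a * let' 3) * (let' 3 * (b * let' 3) * let' 3) :=
        calc a * b = a * 1 * b * 1 := by group
          _ = _ := by rw [← let3_sq]; group
      exact e ▸ mul_mem ha (normalizes hb)
  | inv a _ ha =>
    rcases ha with ha | ha
    · exact Or.inl (inv_mem ha)
    · refine Or.inr ?_
      have := normalizes (inv_mem ha)
      rw [mul_inv_rev, let3_inv] at this
      have e : let' 3 * (let' 3 * a⁻¹) * let' 3 = a⁻¹ * let' 3 :=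
        calc let' 3 * (let' 3 * a⁻¹) * let' 3 = (let' 3 * let' 3) * a⁻¹ * let' 3 := by group
          _ = _ := by rw [let3_sq, one_mul]
      exact e ▸ this

theorem sign_iff {w : P240} (h : w ∈ W) : w ∈ Pr ↔ Equiv.Perm.sign w = 1 := by
  refine ⟨sign_Pr, fun hs => (W_cases h).resolve_right fun h' => ?_⟩
  have := sign_Pr h'
  rw [map_mul, hs, sign_let_three] at this
  exact absurd this (by decide)

theorem W_normal_Pr {w p : P240} (hw : w ∈ W) (hp : p ∈ Pr) : w * p * w⁻¹ ∈ Pr := by
  refine (sign_iff (mul_mem (mul_mem hw (Pr_le hp)) (inv_mem hw))).2 ?_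
  rw [map_mul, map_mul, map_inv, sign_Pr hp, mul_one, mul_inv_cancel]

end Cfsg.Lib.OEightStd
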