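import Cfsg.Agent.OEightStd.Near

/-!
No conjugate of the central involution other than itself lies in the subgroup and commutes with it.
-/

set_option autoImplicit false
set_option maxRecDepth 100000
set_option linter.unusedSectionVars false
set_option linter.style.haveILetI false

namespace Cfsg.Lib.OEightStd

open Cfsg Subgroup

universe u
variable {G : Type u} [Group G] [Finite G]

namespace Ctx

variable {L : Subgroup G} {X : Ctx L}

/-- No such element acts with four fixed roots. -/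
theorem dead_four {t : G} {p : P240} (h : X.Near t) (hp : X.Rep t p) : fc p ≠ 4 := by
  intro hf
  obtain ⟨g, hg, hu⟩ := h.partner
  have hp2 := hp.sq h.1.sq
  have htD : t ∈ D3 X.z t := D3_lift hp.ind ((self_mem hp.mem_W hp2).1 hf) hp
  have hzu : X.z ∈ D3 X.z (g * X.z * g⁻¹) := by
    have := Near.to_partner hg htD
    rwa [hg] at this
  have hback : ∀ q, X.Rep (g * X.z * g⁻¹) q → q ∈ Dm q → False := fun q hq hmem => by
    have hzt : X.z ∈ D3 X.z t := by
      have := Near.of_partner hg (D3_lift hq.ind hmem hq)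
      rwa [show g⁻¹ * (g * X.z * g⁻¹) * g = X.z by group] at this
    have hz := D3_mneg hp.ind hzt
    obtain ⟨r, hr⟩ : ∃ r, p r = r := by
      by_contra hno
      push Not at hno
      rw [fc_eq_card] at hf
      haveI : IsEmpty {r : Fin 240 // p r = r} := ⟨fun r => hno r.1 r.2⟩
      rw [Nat.card_of_isEmpty] at hf
      omega
    exact mneg_ne r (Dm_fix_four hp.mem_W hp2 hf hz hr)
  rcases hu.sort with ⟨q, hq⟩ | ⟨w, hw, hJ⟩ | ⟨w, hw, hw2, hwf⟩
  · have hq2 := hq.sq hu.1.sq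
    rcases hu.rep_fc hq with e | e | e | e
    · exact ((self_mem hq.mem_W hq2).2.1 e).2.2 (D3_mneg hq.ind hzu)
    · exact hback q hq ((self_mem hq.mem_W hq2).1 e)
    · exact hback q hq ((self_mem hq.mem_W hq2).2.2 (Or.inl e)).1
    · exact hback q hq ((self_mem hq.mem_W hq2).2.2 (Or.inr e)).1
  · have hmem := root_J hw.mem hJ
    obtain ⟨x, hx⟩ := X.elt_exists (Dm_le _ hmem)
    have hxx : x * x = X.z := (hx.mul hx).elt_eq (hJ ▸ X.z_rep)
    obtain ⟨q, hq, hd⟩ := D3_dec hp.ind (Near.of_partner hg (D3_lift hw hmem hx))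
    have e : g⁻¹ * x * g * (g⁻¹ * x * g) = t := by
      rw [show g⁻¹ * x * g * (g⁻¹ * x * g) = g⁻¹ * (x * x) * g by group, hxx, ← hg]; group
    have hqq : q * q = p := (hd.mul hd).uniq (e.symm ▸ hp.dec)
    exact six_no (Pr_le (Dm_le _ hq)) hqq hp2 hf fun r hr => Dm_fix_four hp.mem_W hp2 hf hq hr
  · exact mneg_not_outer hw.mem hw2 hwf (D3_mneg hw hzu)

/-- No such element acts as a square root of the negation. -/
theorem dead_J {t : G} {w : P240} (h : X.Near t) (hw : X.Ind t w) (hJ : w * w = mneg) : False := by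
  obtain ⟨g, hg, hu⟩ := h.partner
  have hnot : ∀ q, X.Rep t q → False := fun q hq => by
    rcases hw.uniq hq.ind with e | e
    · exact mneg_ne_one (by rw [← hJ, ← e, hq.sq h.1.sq])
    · exact mneg_ne_one (by rw [← hJ, ← mneg_mul_sq hw.mem, ← e, hq.sq h.1.sq])
  have hmem := root_J hw.mem hJ
  obtain ⟨x, hx⟩ := X.elt_exists (Dm_le _ hmem)
  have hxx : x * x = X.z := (hx.mul hx).elt_eq (hJ ▸ X.z_rep)
  have hxD := D3_lift hw hmem hx
  have hzD : X.z ∈ D3 X.z t := by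
    have := mul_mem hxD hxD
    rwa [hxx] at this
  have huD := Near.to_partner hg hzD
  obtain ⟨v, hv⟩ := X.ind_exists hu.2.1
  obtain ⟨q, hq, hqr⟩ := D3_invol hv huD hu.1.sq
  have hq2 := hqr.sq hu.1.sq
  have hDm : Dm v = Dm q := by
    rcases hv.uniq hqr.ind with e | e
    · rw [e]
    · rw [e, Dm_mneg hv.mem]
  rw [hDm] at hq
  rcases hu.rep_fc hqr with e | e | e | e
  · exact ((self_mem hqr.mem_W hq2).2.1 e).2.1 hq
  · exact dead_four hu hqr e
  all_goals
    have hz := ((self_mem hqr.mem_W hq2).2.2 (by tauto)).2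
    have htD := Near.of_partner hg (D3_lift hqr.ind hz X.z_rep)
    rw [show g⁻¹ * X.z * g = t by rw [← hg]; group] at htD
    obtain ⟨r, -, hr⟩ := D3_invol hw htD h.1.sq
    exact hnot r hr

/-- An element with trivial part commutes with the part in the subgroup. -/
theorem dec_ne_one {x y : G} {p q : P240} (hx : X.Dec x p) (hy : X.Rep y q) (h : x * y ≠ y * x) : p ≠ 1 :=
  fun e => h ((e ▸ hx).one_comm hy.mem)

theorem nine_lift {t : G} {w q : P240} (ht : X.Ind t w) {x : G} (hx : X.Rep x q) (h : NineW w q) :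
    ∃ a ∈ D3 X.z t, ∃ b ∈ D3 X.z t, a * a * a = 1 ∧ b * b * b = 1 ∧ a * b = b * a ∧ a * x = x * a ∧ b * x = x * b ∧
      ∀ c ∈ [a, b, a * b, a * b * b], ∃ p ∈ D3 X.z t, p ^ 4 = 1 ∧ c * p ≠ p * c := by
  obtain ⟨a, ha, b, hb, a3, b3, hab, haq, hbq, hall⟩ := h
  obtain ⟨A, hA⟩ := X.elt_exists (Dm_le _ ha)
  obtain ⟨B, hB⟩ := X.elt_exists (Dm_le _ hb)
  refine ⟨A, D3_lift ht ha hA, B, D3_lift ht hb hB, ((hA.mul hA).mul hA).elt_eq (a3 ▸ Rep.one),
    ((hB.mul hB).mul hB).elt_eq (b3 ▸ Rep.one), (hA.comm_iff hB).2 hab, (hA.comm_iff hx).2 haq,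
    (hB.comm_iff hx).2 hbq, fun C hC => ?_⟩
  obtain ⟨c, hc, hCc⟩ : ∃ c ∈ [a, b, a * b, a * b * b], X.Rep C c := by
    simp only [List.mem_cons, List.not_mem_nil, or_false] at hC
    rcases hC with e | e | e | e <;> rw [e]
    exacts [⟨a, by simp, hA⟩, ⟨b, by simp, hB⟩, ⟨a * b, by simp, hA.mul hB⟩, ⟨a * b * b, by simp, (hA.mul hB).mul hB⟩]
  obtain ⟨p, hp, p4, hne⟩ := hall c hc
  obtain ⟨P, hP⟩ := X.elt_exists (Dm_le _ hp)
  refine ⟨P, D3_lift ht hp hP, ?_, fun e => hne ((hCc.comm_iff hP).1 e)⟩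
  rw [pow_succ, pow_succ, pow_succ, pow_one] at p4 ⊢
  exact (((hP.mul hP).mul hP).mul hP).elt_eq (p4 ▸ Rep.one)

theorem nine_proj {t : G} {w q : P240} (ht : X.Ind t w) {x : G} (hx : X.Rep x q)
    (h : ∃ a ∈ D3 X.z t, ∃ b ∈ D3 X.z t, a * a * a = 1 ∧ b * b * b = 1 ∧ a * b = b * a ∧ a * x = x * a ∧
      b * x = x * b ∧ ∀ c ∈ [a, b, a * b, a * b * b], ∃ p ∈ D3 X.z t, p ^ 4 = 1 ∧ c * p ≠ p * c) :
    ∃ a ∈ Dm w, ∃ b ∈ Dm w, Nine2 a b ∧ a * q = q * a ∧ b * q = q * b := by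
  obtain ⟨A, hA, B, hB, A3, B3, hAB, hAx, hBx, hall⟩ := h
  obtain ⟨a, ha, dA⟩ := D3_dec ht hA
  obtain ⟨b, hb, dB⟩ := D3_dec ht hB
  have hne : ∀ C c, C ∈ [A, B, A * B, A * B * B] → X.Dec C c → c ≠ 1 := fun C c hC hd => by
    obtain ⟨P, hP, P4, hne⟩ := hall C hC
    obtain ⟨p, -, hp⟩ := D3_rep ht hP (n := 2) (by rw [show 2 ^ 2 = 4 by norm_num]; exact P4)
    exact dec_ne_one hd hp hne
  exact ⟨a, ha, b, hb, ⟨((dA.mul dA).mul dA).uniq (A3.symm ▸ Rep.one.dec), ((dB.mul dB).mul dB).uniq (B3.symm ▸ Rep.one.dec),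
    dA.commute dB hAB, hne A a (by simp) dA, hne B b (by simp) dB, hne _ _ (by simp) (dA.mul dB),
    hne _ _ (by simp) ((dA.mul dB).mul dB)⟩, dA.commute hx.dec hAx, dB.commute hx.dec hBx⟩

theorem dead_a {t : G} {p : P240} (h : X.Near t) (hp : X.Rep t p) : fc p ≠ 24 := by
  intro hf
  obtain ⟨t, h, hp⟩ := h.norm_rep hp (c := 8) (by norm_num) hf
  clear hf
  obtain ⟨g, hg, hu⟩ := h.partner
  obtain ⟨-, -, ⟨hz8, h8⟩, -, -⟩ := self_Dm
  have hzu : X.z ∈ D3 X.z (g * X.z * g⁻¹) := by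
    have := Near.to_partner hg (D3_lift hp.ind h8 hp)
    rwa [hg] at this
  have huu := Near.to_partner hg (D3_lift hp.ind hz8 X.z_rep)
  obtain ⟨v, hv⟩ := X.ind_exists hu.2.1
  obtain ⟨q, hq, hqr⟩ := D3_invol hv huu hu.1.sq
  have hq2 := hqr.sq hu.1.sq
  have hmz : mneg ∈ Dm q := D3_mneg hqr.ind hzu
  have hu24 : fc q = 24 := by
    rcases hu.rep_fc hqr with e | e | e | e
    · exact absurd hmz ((self_mem hqr.mem_W hq2).2.1 e).2.2
    · exact absurd e (dead_four hu hqr)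
    · exact e
    · exfalso
      obtain ⟨A, hA, B, hB, A3, B3, hAB, -, -, hall⟩ := nine_lift hp.ind X.z_rep (show NineW (rp 8) mneg by
        obtain ⟨a, ha, b, hb, a3, b3, hab, -, -, hall⟩ := nine_wit.1
        exact ⟨a, ha, b, hb, a3, b3, hab, comm_mneg (Pr_le (Dm_le _ ha)), comm_mneg (Pr_le (Dm_le _ hb)), hall⟩)
      have cu : ∀ {Y : G}, Y ∈ D3 X.z t → (g * Y * g⁻¹) * (g * X.z * g⁻¹) = g * X.z * g⁻¹ * (g * Y * g⁻¹) :=
        fun hY => D3_right (Near.to_partner hg hY)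
      obtain ⟨a, ha, b, hb, h9, haq, hbq⟩ := nine_proj hqr.ind hqr ⟨_, Near.to_partner hg hA, _,
        Near.to_partner hg hB,
        by rw [show g * A * g⁻¹ * (g * A * g⁻¹) * (g * A * g⁻¹) = g * (A * A * A) * g⁻¹ by group, A3]; group,
        by rw [show g * B * g⁻¹ * (g * B * g⁻¹) * (g * B * g⁻¹) = g * (B * B * B) * g⁻¹ by group, B3]; group,
        by rw [show g * A * g⁻¹ * (g * B * g⁻¹) = g * (A * B) * g⁻¹ by group, hAB]; group,
        cu hA, cu hB, fun C hC => by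
          obtain ⟨C₀, hC₀, hCe⟩ : ∃ C₀ ∈ [A, B, A * B, A * B * B], C = g * C₀ * g⁻¹ := by
            simp only [List.mem_cons, List.not_mem_nil, or_false] at hC
            rcases hC with e | e | e | e <;> rw [e]
            exacts [⟨A, by simp, rfl⟩, ⟨B, by simp, rfl⟩, ⟨A * B, by simp, by group⟩, ⟨A * B * B, by simp, by group⟩]
          obtain ⟨P, hP, P4, hne⟩ := hall C₀ hC₀
          refine ⟨g * P * g⁻¹, Near.to_partner hg hP, by rw [conj_pow, P4]; group, fun e => hne ?_⟩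
          rw [hCe, show g * C₀ * g⁻¹ * (g * P * g⁻¹) = g * (C₀ * P) * g⁻¹ by group,
            show g * P * g⁻¹ * (g * C₀ * g⁻¹) = g * (P * C₀) * g⁻¹ by group] at e
          exact mul_left_cancel (mul_right_cancel e)⟩
      exact nine_e hqr.mem_W hq2 e (Pr_le (Dm_le _ ha)) (Pr_le (Dm_le _ hb)) h9 haq hbq
  obtain ⟨x, hx, x2, fx, fxt, fxz, fxtz, ⟨s, hs, hsc, hss⟩, ⟨d, hd, hdc, hdx⟩, y, hy, p', hp', y3, hyx, p4, hyp⟩ := witA
  obtain ⟨x₀, hX⟩ := X.elt_exists (Dm_le _ hx)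
  have hX2 : x₀ * x₀ = 1 := (hX.mul hX).elt_eq (x2 ▸ Rep.one)
  set U := g * X.z * g⁻¹
  set x' := g * x₀ * g⁻¹
  have hx'2 : x' * x' = 1 := by
    simp only [x']; rw [show g * x₀ * g⁻¹ * (g * x₀ * g⁻¹) = g * (x₀ * x₀) * g⁻¹ by group, hX2]; group
  obtain ⟨r, hr, hr'⟩ := D3_invol hqr.ind (Near.to_partner hg (D3_lift hp.ind hx hX)) hx'2
  have hr2 := hr'.sq hx'2
  have hrq : r * q = q * r := Dm_comm hr
  -- the two elements exchanged by an element of the normalizer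
  obtain ⟨D, hD⟩ := X.elt_exists hd
  have hDt : D * t = t * D := (hD.comm_iff hp).2 hdc
  have hD' : g * D * g⁻¹ * X.z = X.z * (g * D * g⁻¹) := by
    rw [← hg, show g * D * g⁻¹ * (g * t * g⁻¹) = g * (D * t) * g⁻¹ by group, hDt]; group
  obtain ⟨wd, hwd⟩ := X.ind_exists hD'
  have hconj : wd * r * wd⁻¹ = r * mneg := by
    refine (hwd.2 _ _ hr').uniq ?_
    have e : g * D * g⁻¹ * x' * (g * D * g⁻¹)⁻¹ = x' * X.z := by
      rw [← hg]
      try simp only [x']
      rw [show g * D * g⁻¹ * (g * x₀ * g⁻¹) * (g * D * g⁻¹)⁻¹ = g * (D * x₀ * D⁻¹) * g⁻¹ by group,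
        (hD.ind.2 _ _ hX).elt_eq (show X.Rep (x₀ * t) (d * x * d⁻¹) from hdx ▸ hX.mul hp)]
      group
    exact e ▸ hr'.mul X.z_rep
  have hself : fc r = 24 ∨ fc r = 8 := by
    have e : fc r = fc (mneg * r) := by
      rw [← comm_mneg (Pr_le (Dm_le _ hr)), ← hconj, fc_conj]
    have hm := hr'.fc_mem hx'2
    simp only [List.mem_cons, List.not_mem_nil, or_false] at hm
    rw [fc_mneg hr'.mem_W hr2] at e
    rcases hm with h | h | h | h | h | h <;> rw [h] at e ⊢ <;> first | tauto | exact absurd e (by decide)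
  -- an element of order three
  obtain ⟨Y, hY⟩ := X.elt_exists (Dm_le _ hy)
  obtain ⟨P, hP⟩ := X.elt_exists (Dm_le _ hp')
  have hYD := Near.to_partner hg (D3_lift hp.ind hy hY)
  obtain ⟨y', hy', dY⟩ := D3_dec hqr.ind hYD
  obtain ⟨p'', -, hP'⟩ := D3_rep hqr.ind (Near.to_partner hg (D3_lift hp.ind hp' hP)) (n := 2) (by
    rw [show 2 ^ 2 = 4 by norm_num, conj_pow]
    have : P ^ 4 = 1 := by
      rw [pow_succ, pow_succ, pow_succ, pow_one] at p4 ⊢
      exact (((hP.mul hP).mul hP).mul hP).elt_eq (p4 ▸ Rep.one)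
    rw [this]; group)
  have hy1 : y' ≠ 1 := dec_ne_one dY hP' fun e => hyp ((hY.comm_iff hP).1 (by
    rw [show g * Y * g⁻¹ * (g * P * g⁻¹) = g * (Y * P) * g⁻¹ by group,
      show g * P * g⁻¹ * (g * Y * g⁻¹) = g * (P * Y) * g⁻¹ by group] at e
    exact mul_left_cancel (mul_right_cancel e)))
  have hy3 : y' * y' * y' = 1 := ((dY.mul dY).mul dY).uniq (by
    have e3 : Y * Y * Y = 1 := ((hY.mul hY).mul hY).elt_eq (y3 ▸ Rep.one)
    rw [show g * Y * g⁻¹ * (g * Y * g⁻¹) * (g * Y * g⁻¹) = g * (Y * Y * Y) * g⁻¹ by group, e3,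
      mul_one, mul_inv_cancel]
    exact Rep.one.dec)
  have hyr : y' * r = r * y' := dY.commute hr'.dec (by
    try simp only [x']
    rw [show g * Y * g⁻¹ * (g * x₀ * g⁻¹) = g * (Y * x₀) * g⁻¹ by group, (hY.comm_iff hX).2 hyx]; group)
  have hyq : y' * q = q * y' := Dm_comm hy'
  have hy'W := Pr_le (Dm_le _ hy')
  have hqW := hqr.mem_W
  have hrW := hr'.mem_W
  rcases hself with h24 | h8
  · have hpair : r * q * (r * q) = 1 := by
      rw [show r * q * (r * q) = r * (q * r) * q by group, ← hrq, show r * (r * q) * q = r * r * (q * q) by group,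
        hr2, hq2, one_mul]
    have hxu := hr'.mul hqr
    have hxu2 : x' * U * (x' * U) = 1 := (hxu.mul hxu).elt_eq (hpair ▸ Rep.one)
    have hUO : X.IsZ U := hu.1
    have hx'O : X.IsZ x' := hUO.of_fc hqr hr' hx'2 (h24.trans hu24.symm)
    have hxO : X.IsZ x₀ := by
      have := hx'O.conj g⁻¹
      simpa [x', mul_assoc] using this
    have hkill : ∀ {Z' : G} {k : P240}, X.IsZ Z' → X.Rep Z' k → fc k = 4 → False := fun hZ' hk hk4 =>
      dead_four ⟨hZ', X.z_comm hk.mem, fun e => by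
        rw [e] at hk
        rw [← X.z_rep.uniq hk, ← rp_one, fc_rp (by norm_num)] at hk4
        exact absurd hk4 (by decide)⟩ hk hk4
    have hxz : X.Rep (x₀ * X.z) (mneg * x) := comm_mneg hX.mem_W ▸ hX.mul X.z_rep
    have hxtz : X.Rep (x₀ * t * X.z) (mneg * (x * rp 8)) :=
      comm_mneg (mul_mem hX.mem_W hp.mem_W) ▸ (hX.mul hp).mul X.z_rep
    have back : X.IsZ (x' * U) → False := fun hO => hkill (by
      have := hO.conj g⁻¹
      simpa [x', U, mul_assoc] using this) hxz fxz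
    have back' : X.IsZ (x' * U * X.z) → False := fun hO => hkill (by
      have := hO.conj g⁻¹
      have e : g⁻¹ * (x' * U * X.z) * g⁻¹⁻¹ = x₀ * t * X.z := by
        conv_lhs => rw [← hg]
        have : X.z * t = t * X.z := h.2.1.symm
        simp only [x', U]
        calc g⁻¹ * (g * x₀ * g⁻¹ * (g * X.z * g⁻¹) * (g * t * g⁻¹)) * g⁻¹⁻¹ = x₀ * (X.z * t) := by group
          _ = _ := by rw [this]; group
      exact e ▸ this) hxtz fxtz
    have hm := hxu.fc_mem hxu2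
    simp only [List.mem_cons, List.not_mem_nil, or_false] at hm
    rcases hm with e | e | e | e | e | e
    · have he := hxu.elt_eq (fc_one (mul_mem hrW hqW) hpair e ▸ (Rep.one (X := X)))
      have : x₀ * X.z = 1 := by
        simp only [x', U] at he
        rw [show g * x₀ * g⁻¹ * (g * X.z * g⁻¹) = g * (x₀ * X.z) * g⁻¹ by group, conj_eq_one_iff] at he
        exact he
      have h1 : X.Rep (x₀ * X.z) 1 := by rw [this]; exact Rep.one
      rw [hxz.uniq h1] at fxz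
      exact absurd (fxz.symm.trans (show fc (1 : P240) = 240 by rw [← rp_zero, fc_rp (by norm_num)]; rfl)) (by decide)
    · have he := hxu.elt_eq (fc_neg (mul_mem hrW hqW) hpair e ▸ X.z_rep)
      have : x₀ * X.z = t := by
        simp only [x', U] at he
        rw [show g * x₀ * g⁻¹ * (g * X.z * g⁻¹) = g * (x₀ * X.z) * g⁻¹ by group] at he
        conv at he => rhs; rw [← hg]
        exact mul_left_cancel (mul_right_cancel he)
      have h1 : X.Rep t (mneg * x) := this ▸ hxz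
      rw [← hp.uniq h1, fc_rp (by norm_num)] at fxz
      exact absurd fxz (by decide)
    · exact back (hxO.of_fc hX hxu hxu2 (e.trans fx.symm))
    · refine back' (hxO.of_fc hX (comm_mneg (mul_mem hrW hqW) ▸ hxu.mul X.z_rep) ?_ ?_)
      · rw [mul_assoc (x' * U) X.z, ← mul_assoc X.z, ← X.z_comm hxu.mem, mul_assoc (x' * U) X.z, X.z_sq, mul_one, hxu2]
      · rw [fc_mneg (mul_mem hrW hqW) hpair, e, fx]; rfl
    · exact back (hUO.of_fc hqr hxu hxu2 (e.trans hu24.symm))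
    · obtain ⟨-, hfin⟩ := line (X := r * q) (mul_mem hrW hqW) hpair e hqW hq2 hu24 hy'W hy3 hy1
        (by rw [← mul_assoc, ← hrq]) (by rw [← mul_assoc, hyr, mul_assoc, hyq, ← mul_assoc]) hyq.symm
      rw [hrq, ← mul_assoc, hq2, one_mul, h24] at hfin
      omega
  · have hfn : fc (mneg * r) = 8 := by rw [fc_mneg hrW hr2, h8]; rfl
    obtain ⟨⟨a, ha, hauniq⟩, -⟩ := line hrW hr2 h8 hqW hq2 hu24 hy'W hy3 hy1 hrq.symm hyr hyq.symm
    obtain ⟨⟨b, hb, hbuniq⟩, -⟩ := line (mul_mem mneg_mem hrW) (mneg_sq_one hrW hr2) hfn hqW hq2 hu24 hy'W hy3 hy1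
      (comm_mneg_mul hqW hrq.symm) (comm_mneg_mul hy'W hyr) hyq.symm
    obtain ⟨S, hS⟩ := X.elt_exists hs
    have hS' : g * S * g⁻¹ * X.z = X.z * (g * S * g⁻¹) := by
      rw [← hg, show g * S * g⁻¹ * (g * t * g⁻¹) = g * (S * t) * g⁻¹ by group, (hS.comm_iff hp).2 hsc]; group
    obtain ⟨w, hw⟩ := X.ind_exists hS'
    have hSS : S * S = x₀ := (hS.mul hS).elt_eq (hss ▸ hX)
    have hwr : w * r = r * w := (hw.comm_iff hr').1 (by
      try simp only [x']
      rw [← hSS]; group)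
    have hwq : w * q = q * w := (hw.comm_iff hqr).1 (by
      simp only [U]
      rw [show g * S * g⁻¹ * (g * X.z * g⁻¹) = g * (S * X.z) * g⁻¹ by group, X.z_comm hS.mem]; group)
    have hsq : X.Ind x' (w * w) := by
      have := hw.mul hw
      rwa [show g * S * g⁻¹ * (g * S * g⁻¹) = x' by simp only [x']; rw [← hSS]; group] at this
    have hfix : ∀ c, w c = c ∨ w c = mneg c → (w * w) c = c := fun c hc => by
      rcases hc with e | e <;> simp [Equiv.Perm.mul_apply, e, w_mneg hw.mem, mneg_mneg]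
    rcases hsq.uniq hr'.ind with e | e
    · have := hfix a (hauniq w hw.mem hwr hwq)
      rw [← e, ha] at this
      exact mneg_ne a this
    · have e' : w * w = mneg * r := by rw [e, ← mul_assoc, mneg_sq, one_mul]
      have := hfix b (hbuniq w hw.mem (comm_mneg_mul hw.mem hwr) hwq)
      rw [e', hb] at this
      exact mneg_ne b this

/-- No such element acts with sixty fixed roots. -/
theorem dead_k2 {t : G} {p : P240} (h : X.Near t) (hp : X.Rep t p) : fc p ≠ 60 := by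
  intro hf
  obtain ⟨t, h, hp⟩ := h.norm_rep hp (c := 4) (by norm_num) hf
  clear hf
  obtain ⟨g, hg, hu⟩ := h.partner
  have h4W := hp.mem_W
  have h42 := hp.sq h.1.sq
  have hf4 : fc (rp 4) = 60 := by rw [fc_rp (by norm_num)]; rfl
  have htz : X.z * t ∈ D3 X.z t :=
    D3_lift hp.ind ((self_mem h4W h42).2.1 hf4).1 (X.z_rep.mul hp)
  set U := g * X.z * g⁻¹
  have hUz : U * X.z ∈ D3 X.z U := by
    have := Near.to_partner hg htz
    rwa [show g * (X.z * t) * g⁻¹ = g * X.z * g⁻¹ * (g * t * g⁻¹) by group, hg] at this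
  obtain ⟨v, hv⟩ := X.ind_exists hu.2.1
  obtain ⟨q₀, -, hq₀⟩ := D3_invol hv hUz (by
    rw [mul_assoc, ← mul_assoc X.z, ← hu.2.1, mul_assoc U, X.z_sq, mul_one, hu.1.sq])
  have hUr : ∃ q, X.Rep U q := ⟨q₀ * mneg, by
    have := hq₀.mul X.z_rep
    rwa [mul_assoc, X.z_sq, mul_one] at this⟩
  obtain ⟨q, hq⟩ := hUr
  have hq2 := hq.sq hu.1.sq
  have hu60 : fc q = 60 := by
    rcases hu.rep_fc hq with e | e | e | e
    · exact e
    · exact absurd e (dead_four hu hq)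
    · exact absurd e (dead_a hu hq)
    · exfalso
      have hUD : U ∈ D3 X.z U := D3_lift hq.ind ((self_mem hq.mem_W hq2).2.2 (Or.inr e)).1 hq
      have hzD : X.z ∈ D3 X.z U := by
        have := mul_mem hUD hUz
        rwa [← mul_assoc, hu.1.sq, one_mul] at this
      have htD := Near.of_partner hg hzD
      rw [show g⁻¹ * X.z * g = t by rw [← hg]; group] at htD
      obtain ⟨r, hr, hr'⟩ := D3_invol hp.ind htD h.1.sq
      exact not_Dm_self (hp.uniq hr' ▸ hr)
  obtain ⟨f, hfP, f2, fc4, c1, c2, c3, a, ha, b, hb, a2, b2, h5, hne, habf⟩ := witK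
  obtain ⟨F, hF⟩ := X.elt_exists hfP
  obtain ⟨A, hA⟩ := X.elt_exists (Dm_le _ ha)
  obtain ⟨B, hB⟩ := X.elt_exists (Dm_le _ hb)
  have A2 : A * A = 1 := (hA.mul hA).elt_eq (a2 ▸ Rep.one)
  have B2 : B * B = 1 := (hB.mul hB).elt_eq (b2 ▸ Rep.one)
  have hFt : F * t = t * F := (hF.comm_iff hp).2 fc4
  have hF2 : F * F = 1 := (hF.mul hF).elt_eq (f2 ▸ Rep.one)
  have hFO : X.IsZ F := h.1.of_fc hp hF hF2 (c1.trans hf4.symm)
  have hFtO : X.IsZ (F * t) := h.1.of_fc hp (hF.mul hp) (by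
    rw [show F * t * (F * t) = F * (t * F) * t by group, ← hFt, show F * (F * t) * t = F * F * (t * t) by group, hF2,
      h.1.sq, one_mul]) (c2.trans hf4.symm)
  have hkill : ∀ {Z' : G} {k : P240}, X.IsZ Z' → X.Rep Z' k → fc k = 4 → False := fun hZ' hk hk4 =>
    dead_four ⟨hZ', X.z_comm hk.mem, fun e => by
      rw [e] at hk
      rw [← X.z_rep.uniq hk, ← rp_one, fc_rp (by norm_num)] at hk4
      exact absurd hk4 (by decide)⟩ hk hk4
  set F' := g * F * g⁻¹
  have hF'O : X.IsZ F' := hFO.conj g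
  have hF'zO : X.IsZ (F' * X.z) := by
    have := hFtO.conj g
    rwa [show g * (F * t) * g⁻¹ = F' * X.z by rw [← hg]; simp only [F']; group] at this
  have hF'near : X.Near F' := by
    refine ⟨hF'O, ?_, fun e => hF'zO.ne_one (by rw [e, X.z_sq])⟩
    rw [← hg]; simp only [F']; rw [show g * F * g⁻¹ * (g * t * g⁻¹) = g * (F * t) * g⁻¹ by group, hFt]; group
  have hF'U : F' * U = U * F' := by
    simp only [F', U]
    rw [show g * F * g⁻¹ * (g * X.z * g⁻¹) = g * (F * X.z) * g⁻¹ by group, X.z_comm hF.mem]; group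
  have sq' : ∀ {Y : G}, Y * Y = 1 → g * Y * g⁻¹ * (g * Y * g⁻¹) = 1 := fun {Y} hY => by
    rw [show g * Y * g⁻¹ * (g * Y * g⁻¹) = g * (Y * Y) * g⁻¹ by group, hY]; group
  obtain ⟨a', ha', hA'⟩ := D3_invol hq.ind (Near.to_partner hg (D3_lift hp.ind ha hA)) (sq' A2)
  obtain ⟨b', hb', hB'⟩ := D3_invol hq.ind (Near.to_partner hg (D3_lift hp.ind hb hB)) (sq' B2)
  have hyW : a' * b' ∈ W := Pr_le (mul_mem (Dm_le _ ha') (Dm_le _ hb'))
  have hAB5 : (g * A * g⁻¹ * (g * B * g⁻¹)) ^ 5 = 1 := by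
    have e : (A * B) ^ 5 = 1 := by
      have hr := hA.mul hB
      rw [pow_succ, pow_succ, pow_succ, pow_succ, pow_one] at h5 ⊢
      exact ((((hr.mul hr).mul hr).mul hr).mul hr).elt_eq (h5 ▸ Rep.one)
    rw [show g * A * g⁻¹ * (g * B * g⁻¹) = g * (A * B) * g⁻¹ by group, conj_pow, e]; group
  have hy5 : (a' * b') ^ 5 = 1 := by
    have hr := hA'.mul hB'
    rw [pow_succ, pow_succ, pow_succ, pow_succ, pow_one] at hAB5 ⊢
    exact ((((hr.mul hr).mul hr).mul hr).mul hr).uniq (hAB5.symm ▸ Rep.one)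
  have hy1 : a' * b' ≠ 1 := fun e => hne ((hA.mul hB).uniq (by
    have := (hA'.mul hB').elt_eq (e ▸ (Rep.one (X := X)))
    rw [show g * A * g⁻¹ * (g * B * g⁻¹) = g * (A * B) * g⁻¹ by group, conj_eq_one_iff] at this
    exact this ▸ (Rep.one (X := X))))
  have hyF : g * A * g⁻¹ * (g * B * g⁻¹) * F' = F' * (g * A * g⁻¹ * (g * B * g⁻¹)) := by
    simp only [F']
    rw [show g * A * g⁻¹ * (g * B * g⁻¹) * (g * F * g⁻¹) = g * (A * B * F) * g⁻¹ by group,
      ((hA.mul hB).comm_iff hF).2 habf]; group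
  rcases hF'near.sort with ⟨k, hk⟩ | ⟨w, hw, hJ⟩ | ⟨w, hw, hw2, hwf⟩
  · have hk2 := hk.sq hF'near.1.sq
    rcases hF'near.rep_fc hk with e | e | e | e
    · exact hkill hF'zO (hk.mul X.z_rep) (by rw [comm_mneg hk.mem_W, fc_mneg hk.mem_W hk2, e]; rfl)
    · exact dead_four hF'near hk e
    · exact dead_a hF'near hk e
    · exact hy1 (no5_e hk.mem_W hk2 e hyW hy5 (((hA'.mul hB').comm_iff hk).1 hyF))
  · exact dead_J hF'near hw hJ
  · have hyw : a' * b' * w = w * (a' * b') := ((hw.comm_iff (hA'.mul hB')).1 hyF.symm).symm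
    rcases hwf with hwf | hwf
    · have hwq : w * q = q * w := (hw.comm_iff hq).1 hF'U
      have hwqW := mul_mem hw.mem hq.mem_W
      have hwq2 : w * q * (w * q) = 1 := by
        rw [show w * q * (w * q) = w * (q * w) * q by group, ← hwq, show w * (w * q) * q = w * w * (q * q) by group,
          hw2, hq2, one_mul]
      obtain ⟨hmem, hiff⟩ := fc_cases hwqW hwq2
      have hodd : w * q ∉ Pr := fun hP => by
        have hwP : w ∈ Pr := by
          have := mul_mem hP (inv_mem hq.mem_Pr)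
          rwa [mul_inv_cancel_right] at this
        have := (fc_cases hw.mem hw2).2.1 hwP
        rw [hwf] at this
        simp at this
      have hyq : a' * b' * (w * q) = w * q * (a' * b') := by
        rw [← mul_assoc, hyw, mul_assoc, Dm_comm (mul_mem ha' hb'), ← mul_assoc]
      simp only [List.mem_cons, List.not_mem_nil, or_false] at hmem
      rcases hmem with e | e | e | e | e | e | e | e | e | e
      pick_goal 8; · exact hy1 (no5_G hwqW hwq2 (Or.inr e) hyW hy5 hyq)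
      pick_goal 7; · exact hy1 (no5_G hwqW hwq2 (Or.inl e) hyW hy5 hyq)
      pick_goal 3
      pick_goal 4
      iterate 2
        obtain ⟨c, hc, ec⟩ := conj_cls hq.mem_W hq2 (show 4 < 10 by norm_num) hu60
        have hcW := Pr_le hc
        obtain ⟨d, hd, hdc, hdd⟩ := k2_pair (w := c * w * c⁻¹) (mul_mem (mul_mem hcW hw.mem) (inv_mem hcW))
          (by rw [show c * w * c⁻¹ * (c * w * c⁻¹) = c * (w * w) * c⁻¹ by group, hw2]; group)
          (by rw [fc_conj, hwf]) (ec ▸ conj_comm hwq)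
          (by rw [← ec, show c * w * c⁻¹ * (c * q * c⁻¹) = c * (w * q) * c⁻¹ by group, fc_conj]; tauto)
        obtain ⟨D, hD⟩ := X.elt_exists (mul_mem (mul_mem (inv_mem hc) hd) hc)
        have hrep := hD.mul (hw.2 _ _ hD.inv)
        have hval : c⁻¹ * d * c * (w * (c⁻¹ * d * c)⁻¹ * w⁻¹) = q := by
          calc c⁻¹ * d * c * (w * (c⁻¹ * d * c)⁻¹ * w⁻¹)
              = c⁻¹ * (d * (c * w * c⁻¹) * d⁻¹ * (c * w * c⁻¹)⁻¹) * c := by group
            _ = c⁻¹ * (c * q * c⁻¹) * c := by rw [hdd, ec]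
            _ = q := by group
        rw [hval] at hrep
        have hfin : D * F' * D⁻¹ = U * F' := by
          rw [← hrep.elt_eq hq]; group
        have hO : X.IsZ (F * X.z) := by
          have := (hfin ▸ hF'O.conj D).conj g⁻¹
          rw [← hF'U] at this
          simpa [F', U, mul_assoc] using this
        exact hkill hO (comm_mneg hF.mem_W ▸ hF.mul X.z_rep) c3
      all_goals exact hodd (hiff.2 (by simp [e]))
    · exact hy1 (no5_G hw.mem hw2 (Or.inl hwf) hyW hy5 hyw)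

/-- No such element lies in the subgroup. -/
theorem dead_inner {t : G} {p : P240} (h : X.Near t) (hp : X.Rep t p) : False := by
  rcases h.rep_fc hp with e | e | e | e
  · exact dead_k2 h hp e
  · exact dead_four h hp e
  · exact dead_a h hp e
  obtain ⟨t, h, hp⟩ := h.norm_rep hp (c := 9) (by norm_num) e
  clear e
  obtain ⟨g, hg, hu⟩ := h.partner
  obtain ⟨x, hx, x2, fx, fxt⟩ := witE
  obtain ⟨x₀, hX⟩ := X.elt_exists (Dm_le _ hx)
  have hX2 : x₀ * x₀ = 1 := (hX.mul hX).elt_eq (x2 ▸ Rep.one)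
  have hXO : X.IsZ x₀ := h.1.of_fc hp hX hX2 (by rw [fx, fc_rp (by norm_num)]; rfl)
  have hne : x₀ ≠ t := fun e => by
    rw [hp.uniq (e ▸ hX), x2, ← rp_zero, fc_rp (by norm_num)] at fxt
    exact absurd fxt (by decide)
  have hx'2 : g * x₀ * g⁻¹ * (g * x₀ * g⁻¹) = 1 := by
    rw [show g * x₀ * g⁻¹ * (g * x₀ * g⁻¹) = g * (x₀ * x₀) * g⁻¹ by group, hX2]; group
  obtain ⟨w, hw⟩ := X.ind_exists hu.2.1
  obtain ⟨r, -, hr⟩ := D3_invol hw (Near.to_partner hg (D3_lift hp.ind hx hX)) hx'2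
  have hn : X.Near (g * x₀ * g⁻¹) := ⟨hXO.conj g, X.z_comm hr.mem, fun e => hne (by
    rw [← hg] at e; exact mul_left_cancel (mul_right_cancel e))⟩
  have h8 : fc r = 8 := by
    rcases hn.rep_fc hr with e | e | e | e
    exacts [absurd e (dead_k2 hn hr), absurd e (dead_four hn hr), absurd e (dead_a hn hr), e]
  have hprod : X.IsZ (g * x₀ * g⁻¹ * X.z) := hn.1.of_fc hr (hr.mul X.z_rep) (by
    rw [show g * x₀ * g⁻¹ * X.z * (g * x₀ * g⁻¹ * X.z) = g * x₀ * g⁻¹ * (X.z * (g * x₀ * g⁻¹)) * X.z by group,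
      ← hn.2.1, ← mul_assoc (g * x₀ * g⁻¹), hx'2, one_mul, X.z_sq])
    (by rw [comm_mneg hr.mem_W, fc_mneg hr.mem_W (hr.sq hx'2), h8]; rfl)
  have hO : X.IsZ (x₀ * t) := by
    have := hprod.conj g⁻¹
    conv at this => arg 2; rw [← hg]
    simpa [mul_assoc] using this
  refine dead_a (t := x₀ * t) ⟨hO, X.z_comm (hX.mul hp).mem, fun e => ?_⟩ (hX.mul hp) fxt
  have h1 : X.Rep X.z (x * rp 9) := e ▸ hX.mul hp
  rw [← X.z_rep.uniq h1, ← rp_one, fc_rp (by norm_num)] at fxt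
  exact absurd fxt (by decide)

end Ctx

end Cfsg.Lib.OEightStd
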