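import Cfsg.Agent.OEightStd.Data
import Cfsg.Agent.OEightCover.Checks

/-!
The checks on the roots: the letters preserve angles and negation, and a root is determined by its angles with a base.
-/

set_option autoImplicit false
set_option maxRecDepth 100000
set_option Elab.async false

namespace Cfsg.Lib.OEightStd

open Cfsg.Lib.PermCert Cfsg.Lib.CosetCert

/-- The acute angle. -/
def acute (a b : ℕ) : Bool := (OEightCover.nbr a).testBit b

/-- The opposite root. -/
def ng (a : ℕ) : ℕ := ap negP.1 a

/-- A letter. -/
def lt4 (l : ℕ) : PP := ltab.getD l (0, 0)

/-- A word, the last letter acting first. -/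
def evalL (w : List ℕ) (x : ℕ) : ℕ := w.foldr (fun l y => ap (lt4 l).1 y) x

/-- An element: a word in the letters together with its table. -/
abbrev El : Type := List ℕ × PP

/-- The table is the value of the word. -/
def elOK (E : El) : Bool :=
  (E.1.all fun l => decide (l < 4)) && valid 240 E.2 &&
    (List.range 240).all fun x => ap E.2.1 x == evalL E.1 x

theorem neg_ok : valid 240 negP = true ∧ ((List.range 240).all fun x => ng x == OEightCover.negOf x) = true ∧
    ((List.range 240).all fun x => ng (ng x) == x && ng x != x) = true := by decide +kernel

theorem ltab_valid : ((List.range 4).all fun l => valid 240 (lt4 l)) = true := by decide +kernel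

theorem ltab_neg : ((List.range 4).all fun l => (List.range 240).all fun x =>
    ap (lt4 l).1 (ng x) == ng (ap (lt4 l).1 x)) = true := by decide +kernel

theorem ltab_acute : ((List.range 4).all fun l => (List.range 240).all fun a =>
    OEightCover.imgMask (fun s => ap (lt4 l).1 s) (OEightCover.nbr a) == OEightCover.nbr (ap (lt4 l).1 a)) = true := by
  decide +kernel

theorem ltab_cover : ((List.range 3).all fun l => (List.range 240).all fun x =>
    ap (OEightCover.tab l) (240 + x) - 240 == ap (lt4 l).1 x) = true := by decide +kernel

/-- The angles of a root with the base. -/
def angles (r : ℕ) : ℕ :=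
  simp.foldl (fun c s => c * 8 + (bif acute r s then 1 else bif acute r (ng s) then 2 else bif r == s then 3
    else bif r == ng s then 4 else 0)) 0

theorem simp_ok : simp.all (fun s => decide (s < 240)) = true ∧
    ((List.range 240).all fun a => (List.range a).all fun b => angles a != angles b) = true := by decide +kernel

theorem conj_ok : ((List.range 3).all fun l => (conjWords.getD l []).all (fun k => decide (k < 3)) &&
    (List.range 240).all fun x => evalL (conjWords.getD l []) x == evalL [3, l, 3] x) = true := by decide +kernel

theorem refl_ok : isId 240 [lt4 3, lt4 3] = true ∧ swapsR.length = 57 ∧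
    (swapsR.all fun p => decide (p.1 < 240) && decide (p.2 < 240) && (p.1 != p.2)) = true ∧
    ((List.range 240).all fun x => swapsR.foldr (fun p y => bif y == p.1 then p.2 else bif y == p.2 then p.1 else y) x
      == ap (lt4 3).1 x) = true := by decide +kernel

end Cfsg.Lib.OEightStd
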