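import Cfsg.Agent.OEightStd.SylowData
import Cfsg.Agent.OEightStd.ClassData

/-!
The checks on the Sylow subgroup: its rules, the list of its elements of small order and their classes.
-/

set_option autoImplicit false
set_option maxRecDepth 100000
set_option Elab.async false

namespace Cfsg.Lib.OEightStd

open Cfsg.Lib.PermCert

/-- A generator of the Sylow subgroup. -/
def pcT (k : ℕ) : PP := (pcs.getD k ([], (0, 0))).2

/-- The forward tables of the generators. -/
def pcTabs : List ℕ := pcs.map fun E => E.2.1

/-- Apply the generators named by the digits, the lowest first. -/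
def evGo : List ℕ → ℕ → ℕ → ℕ
  | [], _, y => y
  | g :: r, e, y => evGo r (e / 2) (bif e % 2 == 1 then ap g y else y)

/-- The element with the given digits. -/
def evS (e x : ℕ) : ℕ := evGo pcTabs e x

/-- Equal on the base. -/
def onBase (f g : ℕ → ℕ) : Bool := simp.all fun p => f p == g p

theorem pcs_ok : pcs.length = 14 ∧ pcs.all elOK = true := by decide +kernel

theorem pc_rules : ((List.range 14).all fun j =>
    decide ((pcSq.getD j 0) < 2 ^ j) && onBase (fun p => ap (pcT j).1 (ap (pcT j).1 p)) (evS (pcSq.getD j 0)) &&
      (List.range j).all fun i => decide ((pcConj.getD j []).getD i 0 < 2 ^ j) &&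
        onBase (fun p => ap (pcT j).1 (ap (pcT i).1 (ap (pcT j).2 p))) (evS ((pcConj.getD j []).getD i 0))) = true := by
  decide +kernel

/-- The elements below a level avoid the next generator. -/
def freshOK (j : ℕ) : Bool := (List.range (2 ^ j)).all fun e => !onBase (evS e) (ap (pcT j).1)

theorem fresh_all : ((List.range 14).all freshOK) = true := by decide +kernel

theorem inv_complete :
    ((List.range 16384).filter fun e => onBase (fun p => evS e (evS e p)) id) = invList := by decide +kernel

theorem j_complete :
    ((List.range 16384).filter fun e => onBase (fun p => evS e (evS e p)) ng) = jList := by decide +kernel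

/-- The mask of a list. -/
def maskOf (L : List ℕ) : ℕ := L.foldl (fun m i => m ||| 1 <<< i) 0

/-- Each step conjugates a known element; the mask of the known elements. -/
def grow (m : ℕ) : List (ℕ × ℕ × ℕ) → Option ℕ
  | [] => some m
  | (i, a, k) :: r =>
    bif m.testBit a && decide (k < 14) && decide (i < 16384) &&
        onBase (fun p => evS i (ap (pcT k).1 p)) (fun p => ap (pcT k).1 (evS a p)) then
      grow (m ||| 1 <<< i) r
    else none

theorem moves_ok : reps.length = 11 ∧ reps.all elOK = true ∧
    (moves.all fun m => decide (m.1 < 16384) && decide (m.2.1 < 11) && elOK m.2.2 &&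
      onBase (fun p => ap m.2.2.2.1 (evS m.1 p))
        (fun p => ap (reps.getD m.2.1 ([], (0, 0))).2.1 (ap m.2.2.2.1 p))) = true := by decide +kernel

theorem grow_ok : ((grow (maskOf (moves.map Prod.fst)) orbSteps.flatten).elim false fun m =>
    (invList ++ jList).all fun i => m.testBit i) = true := by decide +kernel

theorem odc_ok : odcs.length = 10 ∧ ((List.range 10).all fun c =>
    elOK (odcs.getD c ([], (0, 0))) && (((odcs.getD c ([], (0, 0))).1.filter fun l => l == 3).length % 2 == 1) &&
      onBase (fun p => ap (odcs.getD c ([], (0, 0))).2.1 (ap (reps.getD c ([], (0, 0))).2.1 p))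
        (fun p => ap (reps.getD c ([], (0, 0))).2.1 (ap (odcs.getD c ([], (0, 0))).2.1 p))) = true := by decide +kernel

end Cfsg.Lib.OEightStd
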