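import Cfsg.Agent.OEightStd.WitData
import Cfsg.Agent.OEightStd.ClassData
import Cfsg.Agent.OEightStd.SylowChecks

/-!
The checks on the witnesses at the representatives and on a chain of roots.
-/

set_option autoImplicit false
set_option maxRecDepth 100000
set_option Elab.async false

namespace Cfsg.Lib.OEightStd

open Cfsg.Lib.PermCert

/-- The value of a product of elements, the last acting first. -/
def evs (L : List El) (p : ℕ) : ℕ := L.foldr (fun E y => ap E.2.1 y) p

/-- Two products agree on the base. -/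
def eqB (L M : List El) : Bool := onBase (evs L) (evs M)

/-- A representative as an element. -/
def rpE (c : ℕ) : El := reps.getD c ([], (0, 0))

/-- The number of fixed roots. -/
def cnt (L : List El) : ℕ := ((List.range 240).filter fun r => evs L r == r).length

/-- An element is even. -/
def evenE (E : El) : Bool := (E.1.filter fun l => l == 3).length % 2 == 0

/-- Even elements of order three commuting with an element. -/
def genOK (w : El) (gens : List El) : Bool :=
  gens.all fun g => elOK g && evenE g && eqB [g, g, g] [] && eqB [g, w] [w, g]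

/-- The elements picked by a list of indices. -/
def picks (gens : List El) (idx : List ℕ) : List El := idx.map fun i => gens.getD i ([], (0, 0))

/-- An element is a product of the generators. -/
def inGen (gens : List El) (idx : List ℕ) (x : El) : Bool :=
  (idx.all fun i => decide (i < gens.length)) && eqB (picks gens idx) [x]

/-- The negated roots of an element are the given ones and their opposites. -/
def negSet (L : List El) (Q : List ℕ) : Bool :=
  (List.range 240).all fun r => (evs L r == ng r) == Q.any fun q => r == q || r == ng q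

theorem gen_ok : genOK (rpE 4) dmK = true ∧ genOK (rpE 8) dmA = true ∧ genOK (rpE 9) dmE = true ∧
    genOK (rpE 6) dmG = true ∧ genOK (rpE 10) dmJ = true ∧ genOK reflR dmR = true := by decide +kernel

theorem mem_rep_ok : inGen dmK xKsix (rpE 5) = true ∧ inGen dmJ xJ (rpE 10) = true ∧
    inGen dmA xAz (rpE 1) = true ∧ inGen dmA xAa (rpE 8) = true ∧ inGen dmE xEz (rpE 1) = true ∧
    inGen dmE xEe (rpE 9) = true ∧ inGen dmR xnR_q (rpE 8) = true := by decide +kernel

theorem el_ok : ([wA_x, wA_s, wA_d, wA_y, wA_p, nA_a, nA_b, nR_a, nR_b, wK_f, wK_p, wK_q, wK_d, wE_x, wG_l, wG_x,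
    wF_l, wF_q].all fun E => elOK E && evenE E) = true ∧
    ((nA_p ++ nR_p).all fun E => elOK E && evenE E) = true ∧
    ((reps ++ quad ++ quadRefl ++ stab1 ++ stab2 ++ stab3 ++ fixTr ++ [reflR]).all elOK) = true := by decide +kernel

theorem rep_facts : ((List.range 10).map fun c => cnt [rpE c]) = [240, 0, 126, 2, 60, 4, 26, 6, 24, 8] ∧
    ((List.range 10).map fun c => evenE (rpE c)) =
      [true, true, false, false, true, true, false, false, true, true] ∧
    evenE (rpE 10) = true ∧ onBase (evs [rpE 1]) ng = true ∧ onBase (evs [rpE 0]) (fun p => p) = true ∧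
    eqB [rpE 1, rpE 2] [rpE 3] = true ∧ eqB [rpE 1, rpE 4] [rpE 5] = true ∧ eqB [rpE 1, rpE 6] [rpE 7] = true ∧
    cnt [rpE 1, rpE 8] = 24 ∧ cnt [rpE 1, rpE 9] = 8 := by decide +kernel

theorem wA_ok : inGen dmA xA_x wA_x = true ∧ inGen dmA xA_y wA_y = true ∧ inGen dmA xA_p wA_p = true ∧
    eqB [wA_x, wA_x] [] = true ∧ eqB [wA_s, rpE 8] [rpE 8, wA_s] = true ∧ eqB [wA_s, wA_s] [wA_x] = true ∧
    eqB [wA_d, rpE 8] [rpE 8, wA_d] = true ∧ eqB [wA_d, wA_x] [wA_x, rpE 8, wA_d] = true ∧
    eqB [wA_y, wA_y, wA_y] [] = true ∧ eqB [wA_y, wA_x] [wA_x, wA_y] = true ∧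
    eqB [wA_p, wA_p, wA_p, wA_p] [] = true ∧ eqB [wA_y, wA_p] [wA_p, wA_y] = false ∧
    cnt [wA_x] = 60 ∧ cnt [wA_x, rpE 8] = 60 ∧ cnt [rpE 1, wA_x] = 4 ∧ cnt [rpE 1, wA_x, rpE 8] = 4 := by
  decide +kernel

/-- Two elements of order three generating nine elements, none centralizing the given elements of two-power order. -/
def nineOK (gens : List El) (w a b : El) (xa xb : List ℕ) (ps : List El) (xps : List (List ℕ)) : Bool :=
  inGen gens xa a && inGen gens xb b && eqB [a, a, a] [] && eqB [b, b, b] [] && eqB [a, b] [b, a] &&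
    eqB [a, w] [w, a] && eqB [b, w] [w, b] && (ps.length == 4) && (xps.length == 4) &&
    (List.range 4).all fun i =>
      inGen gens (xps.getD i []) (ps.getD i ([], (0, 0))) &&
        eqB [ps.getD i ([], (0, 0)), ps.getD i ([], (0, 0)), ps.getD i ([], (0, 0)), ps.getD i ([], (0, 0))] [] &&
        !eqB ((bif i == 0 then [a] else bif i == 1 then [b] else bif i == 2 then [a, b] else [a, b, b]) ++
            [ps.getD i ([], (0, 0))])
          ([ps.getD i ([], (0, 0))] ++
            (bif i == 0 then [a] else bif i == 1 then [b] else bif i == 2 then [a, b] else [a, b, b]))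

theorem nine_ok : nineOK dmA (rpE 8) nA_a nA_b xnA_a xnA_b nA_p xnA_p = true ∧
    nineOK dmR (rpE 8) nR_a nR_b xnR_a xnR_b nR_p xnR_p = true := by decide +kernel

theorem wK_ok : inGen dmK xK_p wK_p = true ∧ inGen dmK xK_q wK_q = true ∧
    eqB [wK_p, wK_p] [] = true ∧ eqB [wK_q, wK_q] [] = true ∧
    eqB [wK_p, wK_q, wK_p, wK_q, wK_p, wK_q, wK_p, wK_q, wK_p, wK_q] [] = true ∧ eqB [wK_p, wK_q] [] = false ∧
    eqB [wK_p, wK_q, wK_f] [wK_f, wK_p, wK_q] = true ∧ eqB [wK_f, wK_f] [] = true ∧
    eqB [wK_f, rpE 4] [rpE 4, wK_f] = true ∧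
    cnt [wK_f] = 60 ∧ cnt [wK_f, rpE 4] = 60 ∧ cnt [rpE 1, wK_f] = 4 ∧
    eqB [wK_d, rpE 4] [rpE 4, wK_d] = true ∧
    eqB [wK_d, quadRefl.getD 0 ([], (0, 0))] [rpE 4, quadRefl.getD 0 ([], (0, 0)), wK_d] = true ∧
    eqB [wK_d, quadRefl.getD 1 ([], (0, 0))] [rpE 4, quadRefl.getD 1 ([], (0, 0)), wK_d] = true := by decide +kernel

theorem wEG_ok : inGen dmE xE_x wE_x = true ∧ eqB [wE_x, wE_x] [] = true ∧ cnt [wE_x] = 8 ∧
    cnt [wE_x, rpE 9] = 24 ∧ inGen dmG xG_x wG_x = true ∧ eqB [wG_x, wG_x] [] = true ∧ eqB [wG_x] [] = false ∧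
    eqB [wG_l, rpE 6] [wG_x, rpE 6, wG_l] = true := by decide +kernel

theorem wF_ok : eqB [wF_q, wF_q] [] = true ∧ eqB [wF_q, rpE 2] [rpE 2, wF_q] = true ∧ cnt [wF_q] = 24 ∧
    evs [wF_l] rootA = rootB ∧ evs [wF_q] rootA = rootA ∧ evs [wF_q] rootB = ng rootB ∧
    cnt [quadRefl.getD 1 ([], (0, 0)), rpE 2, wF_q] = 8 ∧
    eqB [quadRefl.getD 1 ([], (0, 0)), wF_l] [wF_l, rpE 2] = true ∧
    eqB [quadRefl.getD 1 ([], (0, 0)), rpE 2] [rpE 2, quadRefl.getD 1 ([], (0, 0))] = true ∧
    eqB [rpE 8, reflR] [reflR, rpE 8] = true ∧ (cnt [rpE 8, reflR] == 26 || cnt [rpE 8, reflR] == 6) = true := by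
  decide +kernel

theorem roots_ok' : [rootA, rootB, rootC, rootD].all (fun r => decide (r < 240)) = true ∧
    negSet [rpE 2] [rootA] = true ∧ negSet [rpE 4] [rootA, rootB] = true ∧
    negSet [rpE 6] [rootA, rootB, rootC] = true ∧ negSet [rpE 9] [rootA, rootB, rootC, rootD] = true ∧
    negSet [reflR] [rootD] = true ∧ evs [rpE 8] rootD = rootD ∧
    negSet [quadRefl.getD 0 ([], (0, 0))] [rootA] = true ∧ negSet [quadRefl.getD 1 ([], (0, 0))] [rootB] = true ∧
    ((List.range 4).all fun i => negSet [quadRefl.getD i ([], (0, 0))] [[rootA, rootB, rootC, rootD].getD i 0] &&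
      ([rootA, rootB, rootC, rootD].all fun r =>
        evs [quadRefl.getD i ([], (0, 0))] r == bif r == [rootA, rootB, rootC, rootD].getD i 0 then ng r else r)) = true ∧
    ((List.range 240).all fun r => (evs [rpE 5] r == r) == [rootA, rootB].any fun q => r == q || r == ng q) = true := by
  decide +kernel

/-- The roots at right angles to a root. -/
def orth (a r : ℕ) : Bool := !acute r a && !acute r (ng a) && (r != a) && (r != ng a)

/-- The roots reached by edges along elements. -/
def spreadE (gens : List El) : List (ℕ × ℕ × ℕ) → List ℕ → List ℕ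
  | [], S => S
  | e :: r, S => spreadE gens r
      (bif S.contains e.2.1 && decide (e.2.2 < gens.length) && (evs [gens.getD e.2.2 ([], (0, 0))] e.2.1 == e.1)
        then e.1 :: S else S)

/-- Elements fixing given roots move a root through so many. -/
def levelOK (gens : List El) (fixed : List ℕ) (start : ℕ) (edges : List (ℕ × ℕ × ℕ)) (n : ℕ) : Bool :=
  (gens.all fun g => fixed.all fun r => evs [g] r == r) &&
    ((spreadE gens edges [start]).all fun r => decide (r < 240)) &&
    decide (n ≤ ((List.range 240).filter fun r => (spreadE gens edges [start]).contains r).length)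

theorem chain_ok' : levelOK stab1 [rootA] rootB orb1 126 = true ∧ levelOK stab2 [rootA, rootB] rootC orb2 60 = true ∧
    levelOK stab3 [rootA, rootB, rootC] rootD orb3 24 = true ∧
    ((List.range 240).filter fun r => orth rootA r).length = 126 ∧
    ((List.range 240).filter fun r => orth rootA r && orth rootB r).length = 60 ∧
    orth rootA rootB = true ∧ orth rootA rootC = true ∧ orth rootB rootC = true := by decide +kernel

theorem quad_ok : quad.length = 16 ∧
    ((List.range 16).all fun i => ([rootA, rootB, rootC, rootD].all fun r => evs [quad.getD i ([], (0, 0))] r == r) &&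
      eqB [quad.getD i ([], (0, 0)), quad.getD i ([], (0, 0))] [] &&
      (List.range i).all fun j => !eqB [quad.getD i ([], (0, 0))] [quad.getD j ([], (0, 0))]) = true := by
  decide +kernel

/-- An element with twenty-four fixed roots keeps the four lines with unequal signs and its product with the
representative fixes sixty or four roots. -/
def lineOK : Bool :=
  quad.all fun s => ([[]] ++ quadRefl.map fun r => [r]).all fun r => [[], [rpE 9]].all fun h =>
    let g := s :: (r ++ h)
    (cnt g != 24) || (!r.isEmpty && (cnt (g ++ [rpE 9]) == 60 || cnt (g ++ [rpE 9]) == 4))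

theorem line_ok : lineOK = true := by decide +kernel

theorem fix_tr_ok : (fixTr.all fun h => eqB [h, rpE 8] [rpE 8, h]) = true ∧
    ((List.range 240).all fun r => (evs [rpE 8] r != r) || fixTr.any fun h => evs [h] rootD == r) = true := by
  decide +kernel

theorem refl_facts : eqB [rpE 4] [quadRefl.getD 0 ([], (0, 0)), quadRefl.getD 1 ([], (0, 0))] = true ∧
    (stab2.all fun g => eqB [g, rpE 4] [rpE 4, g]) = true ∧ eqB [rpE 2] [quadRefl.getD 0 ([], (0, 0))] = true ∧
    cnt [quadRefl.getD 1 ([], (0, 0))] = 126 ∧ cnt [quadRefl.getD 2 ([], (0, 0))] = 126 ∧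
    cnt [reflR] = 126 ∧ cnt [quadRefl.getD 2 ([], (0, 0)), rpE 4] = 26 ∧
    negSet [quadRefl.getD 2 ([], (0, 0))] [rootC] = true ∧
    ((List.range 16).all fun i => eqB [quad.getD i ([], (0, 0))] [] ||
      (List.range 240).any fun r => orth rootA r && (evs [quad.getD i ([], (0, 0))] r != r)) = true := by
  decide +kernel

theorem rp_sq_ok : ((List.range 10).all fun c => eqB [rpE c, rpE c] []) = true := by decide +kernel

theorem rR_sq_ok : eqB [reflR, reflR] [] = true := by decide +kernel

end Cfsg.Lib.OEightStd
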