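import Cfsg.Agent.OEightStd.Classify
import Cfsg.Agent.OEightStd.AutChecks
import Cfsg.Agent.OEightStd.WitChecks

/-!
Elements as permutations; involutions by their numbers of fixed roots; a chain of stabilisers of roots.
-/

set_option autoImplicit false
set_option maxRecDepth 100000
set_option linter.style.haveILetI false

namespace Cfsg.Lib.OEightStd

open Cfsg.Lib.PermCert Cfsg.Lib.CosetCert

/-- An element as a permutation. -/
def pel (E : El) : P240 := perm 240 E.2

/-- A product of elements. -/
def prodE (L : List El) : P240 := (L.map pel).prod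

/-- Valid elements. -/
def AllOK (L : List El) : Prop := ∀ E ∈ L, elOK E = true

theorem pel_mem {E : El} (h : elOK E = true) : pel E ∈ W := (el_spec h).2.2

theorem prodE_mem {L : List El} (h : AllOK L) : prodE L ∈ W :=
  list_prod_mem (by
    intro x hx
    obtain ⟨E, hE, rfl⟩ := List.mem_map.1 hx
    exact pel_mem (h E hE))

theorem prodE_apply {L : List El} (h : AllOK L) (x : Fin 240) : (prodE L x).val = evs L x.val := by
  induction L with
  | nil => rfl
  | cons E L ih =>
    have hE := (el_spec (h E List.mem_cons_self)).1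
    rw [prodE, List.map_cons, List.prod_cons, Equiv.Perm.mul_apply, pel, perm_apply hE,
      show ((L.map pel).prod x).val = evs L x.val from ih fun a ha => h a (List.mem_cons_of_mem _ ha)]
    rfl

theorem prodE_cons (E : El) (L : List El) : prodE (E :: L) = pel E * prodE L := List.prod_cons

theorem prodE_append (L M : List El) : prodE (L ++ M) = prodE L * prodE M := by
  rw [prodE, List.map_append, List.prod_append]; rfl

theorem eqB_iff {L M : List El} (hL : AllOK L) (hM : AllOK M) : eqB L M = true ↔ prodE L = prodE M := by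
  rw [eqB, onBase_iff]
  constructor
  · exact fun h => ext8 (prodE_mem hL) (prodE_mem hM) fun k => Fin.ext (by rw [prodE_apply hL, prodE_apply hM, h k])
  · intro h k
    rw [← prodE_apply hL, ← prodE_apply hM, h]

theorem eqB_false {L M : List El} (hL : AllOK L) (hM : AllOK M) (h : eqB L M = false) : prodE L ≠ prodE M :=
  fun e => by rw [(eqB_iff hL hM).2 e] at h; exact Bool.noConfusion h

theorem pel_even {E : El} (h : elOK E = true) (he : evenE E = true) : pel E ∈ Pr := by
  obtain ⟨-, e, hW⟩ := el_spec h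
  refine (sign_iff hW).2 ?_
  have key : ∀ L : List ℕ, (∀ l ∈ L, l < 4) →
      Equiv.Perm.sign (wv L) = (-1) ^ (L.filter fun l => l == 3).length := by
    intro L
    induction L with
    | nil => intro _; simp [wv, wval]
    | cons l L ih =>
      intro hL
      have e2 : wv (l :: L) = let' l * wv L := by simp [wv, wval]
      rw [e2, map_mul, ih fun a ha => hL a (List.mem_cons_of_mem _ ha), List.filter_cons]
      by_cases h3 : l = 3
      · subst h3; simp [sign_let_three, pow_succ']
      · have hl := hL l List.mem_cons_self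
        simp [h3, sign_Pr (let_mem_Pr (show l < 3 by omega))]
  have hl4 : ∀ l ∈ E.1, l < 4 := by
    simp only [elOK, Bool.and_eq_true, List.all_eq_true, decide_eq_true_eq] at h
    exact h.1.1
  rw [e, key _ hl4]
  refine Even.neg_one_pow (Nat.even_iff.2 ?_)
  simpa [evenE] using he

/-- The number of fixed roots. -/
def fc (x : P240) : ℕ := ((List.range 240).filter fun r => (x (Fin.ofNat 240 r)).val == r).length

theorem fc_prodE {L : List El} (h : AllOK L) : fc (prodE L) = cnt L := by
  refine congrArg List.length (List.filter_congr fun r hr => ?_)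
  rw [prodE_apply h, Fin.val_ofNat, Nat.mod_eq_of_lt (List.mem_range.1 hr)]

theorem fc_eq_card (x : P240) : fc x = Nat.card {r : Fin 240 // x r = r} := by
  classical
  rw [Nat.card_eq_fintype_card, Fintype.card_subtype, fc, ← List.toFinset_card_of_nodup
    ((List.nodup_range (n := 240)).filter _)]
  refine Finset.card_bij' (fun r _ => Fin.ofNat 240 r) (fun r _ => r.val) (fun r hr => ?_) (fun r hr => ?_)
    (fun r hr => ?_) (fun r hr => ?_)
  · simp only [List.mem_toFinset, List.mem_filter, List.mem_range, beq_iff_eq] at hr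
    simp only [Finset.mem_filter, Finset.mem_univ, true_and]
    exact Fin.ext (hr.2.trans (by rw [Fin.val_ofNat, Nat.mod_eq_of_lt hr.1]))
  · simp only [Finset.mem_filter, Finset.mem_univ, true_and] at hr
    simp only [List.mem_toFinset, List.mem_filter, List.mem_range, beq_iff_eq]
    refine ⟨r.isLt, ?_⟩
    rw [show Fin.ofNat 240 r.val = r from Fin.ext (Nat.mod_eq_of_lt r.isLt), hr]
  · simp only [List.mem_toFinset, List.mem_filter, List.mem_range] at hr
    exact Nat.mod_eq_of_lt hr.1
  · exact Fin.ext (Nat.mod_eq_of_lt r.isLt)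

theorem fc_conj (w x : P240) : fc (w * x * w⁻¹) = fc x := by
  rw [fc_eq_card, fc_eq_card]
  refine Nat.card_congr (Equiv.subtypeEquiv w.symm fun r => ?_)
  simp only [Equiv.Perm.mul_apply, Equiv.Perm.coe_inv]
  constructor
  · exact fun h => w.injective (by rw [h, Equiv.apply_symm_apply])
  · exact fun h => by rw [h, Equiv.apply_symm_apply]

theorem rpE_ok {c : ℕ} (hc : c < 11) : elOK (rpE c) = true := by
  rw [rpE, List.getD_eq_getElem _ _ (moves_ok.1.symm ▸ hc : c < reps.length)]
  exact List.all_eq_true.1 moves_ok.2.1 _ (List.getElem_mem _)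

theorem pel_rpE (c : ℕ) : pel (rpE c) = rp c := rfl

theorem allOK_nil : AllOK [] := fun _ h => absurd h List.not_mem_nil

theorem allOK_cons {E : El} {L : List El} (h : elOK E = true) (hL : AllOK L) : AllOK (E :: L) := fun a ha => by
  rcases List.mem_cons.1 ha with rfl | ha
  exacts [h, hL a ha]

theorem prodE_one (E : El) : prodE [E] = pel E := by simp [prodE]

theorem fc_rp {c : ℕ} (hc : c < 10) :
    fc (rp c) = [240, 0, 126, 2, 60, 4, 26, 6, 24, 8].getD c 0 := by
  have h := congrArg (fun L : List ℕ => L.getD c 0) rep_facts.1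
  simp only [List.getD_eq_getElem?_getD, List.getElem?_map, List.getElem?_range hc, Option.map_some,
    Option.getD_some] at h
  rw [← pel_rpE, ← prodE_one, fc_prodE (allOK_cons (rpE_ok (by omega)) allOK_nil), h, List.getD_eq_getElem?_getD]

theorem rp_even {c : ℕ} (hc : c < 10) :
    rp c ∈ Pr ↔ fc (rp c) ∈ [240, 0, 60, 4, 24, 8] := by
  have h := congrArg (fun L : List Bool => L.getD c false) rep_facts.2.1
  simp only [List.getD_eq_getElem?_getD, List.getElem?_map, List.getElem?_range hc, Option.map_some,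
    Option.getD_some] at h
  rw [fc_rp hc]
  have hodd : evenE (rpE c) = false → rp c ∉ Pr := by
    intro he hm
    have hs := (sign_iff (rp_spec (by omega)).2).1 hm
    obtain ⟨hv, e, -⟩ := el_spec (rpE_ok (show c < 11 by omega))
    have hl4 : ∀ l ∈ (rpE c).1, l < 4 := by
      have hel := rpE_ok (show c < 11 by omega)
      simp only [elOK, Bool.and_eq_true, List.all_eq_true, decide_eq_true_eq] at hel
      exact hel.1.1
    have key : ∀ L : List ℕ, (∀ l ∈ L, l < 4) →
        Equiv.Perm.sign (wv L) = (-1) ^ (L.filter fun l => l == 3).length := by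
      intro L
      induction L with
      | nil => intro _; simp [wv, wval]
      | cons l L ih =>
        intro hL
        have e2 : wv (l :: L) = let' l * wv L := by simp [wv, wval]
        rw [e2, map_mul, ih fun a ha => hL a (List.mem_cons_of_mem _ ha), List.filter_cons]
        by_cases h3 : l = 3
        · subst h3; simp [sign_let_three, pow_succ']
        · have hl := hL l List.mem_cons_self
          simp [h3, sign_Pr (let_mem_Pr (show l < 3 by omega))]
    rw [← pel_rpE, pel, e, key _ hl4, Odd.neg_one_pow (Nat.odd_iff.2 (by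
      simp only [evenE, beq_eq_false_iff_ne] at he; omega))] at hs
    exact absurd hs (by decide)
  cases he : evenE (rpE c)
  · refine iff_of_false (hodd he) ?_
    rw [he] at h
    interval_cases c <;> simp_all
  · refine iff_of_true ?_ ?_
    · rw [← pel_rpE]; exact pel_even (rpE_ok (by omega)) he
    · rw [he] at h
      interval_cases c <;> simp_all

/-- An involution is conjugate, by an even element, to the representative with the same number of fixed roots. -/
theorem conj_rp {x : P240} (hx : x ∈ W) (h2 : x * x = 1) :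
    ∃ c < 10, fc x = [240, 0, 126, 2, 60, 4, 26, 6, 24, 8].getD c 0 ∧ ∃ w ∈ Pr, w * x * w⁻¹ = rp c := by
  obtain ⟨c, hc, w, hw, e⟩ := conj_rep_even hx h2
  exact ⟨c, hc, by rw [← fc_rp hc, ← e, fc_conj], w, hw, e⟩

/-- The index of a number of fixed roots. -/
def clsOf (n : ℕ) : ℕ := [240, 0, 126, 2, 60, 4, 26, 6, 24, 8].idxOf n

theorem conj_cls {x : P240} (hx : x ∈ W) (h2 : x * x = 1) {c : ℕ} (hc : c < 10)
    (h : fc x = [240, 0, 126, 2, 60, 4, 26, 6, 24, 8].getD c 0) : ∃ w ∈ Pr, w * x * w⁻¹ = rp c := by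
  obtain ⟨c', hc', h', hw⟩ := conj_rp hx h2
  obtain rfl : c' = c := by
    have := h'.symm.trans h
    interval_cases c' <;> interval_cases c <;> simp_all
  exact hw

theorem fc_cases {x : P240} (hx : x ∈ W) (h2 : x * x = 1) :
    fc x ∈ [240, 0, 126, 2, 60, 4, 26, 6, 24, 8] ∧ (x ∈ Pr ↔ fc x ∈ [240, 0, 60, 4, 24, 8]) := by
  obtain ⟨c, hc, h, w, hw, e⟩ := conj_rp hx h2
  refine ⟨by rw [h]; interval_cases c <;> simp, ?_⟩
  rw [h, ← fc_rp hc, ← rp_even hc]
  constructor
  · intro hm
    exact e ▸ W_normal_Pr (Pr_le hw) hm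
  · intro hm
    have := W_normal_Pr (inv_mem (Pr_le hw)) hm
    rw [← e] at this
    simpa [mul_assoc] using this

theorem rp_zero : rp 0 = 1 := by
  rw [← pel_rpE, ← prodE_one, show (1 : P240) = prodE [] from rfl]
  refine (eqB_iff (allOK_cons (rpE_ok (by norm_num)) allOK_nil) allOK_nil).1 ?_
  exact rep_facts.2.2.2.2.1

theorem rp_one : rp 1 = mneg := ext8 (rp_spec (by norm_num)).2 mneg_mem fun k => Fin.ext (by
  rw [mneg_apply, ← onBase_iff.1 rep_facts.2.2.2.1 k, ← prodE_apply (allOK_cons (rpE_ok (by norm_num)) allOK_nil),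
    prodE_one, pel_rpE])

theorem fc_one {x : P240} (hx : x ∈ W) (h2 : x * x = 1) (h : fc x = 240) : x = 1 := by
  obtain ⟨w, -, e⟩ := conj_cls hx h2 (show 0 < 10 by norm_num) h
  rw [rp_zero, conj_eq_one_iff] at e
  exact e

theorem fc_neg {x : P240} (hx : x ∈ W) (h2 : x * x = 1) (h : fc x = 0) : x = mneg := by
  obtain ⟨w, hw, e⟩ := conj_cls hx h2 (show 1 < 10 by norm_num) h
  rw [rp_one] at e
  calc x = w⁻¹ * (w * x * w⁻¹) * w := by group
    _ = mneg := by rw [e, mul_assoc, ← comm_mneg (Pr_le hw), inv_mul_cancel_left]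

theorem mneg_mul_sq {x : P240} (hx : x ∈ W) : mneg * x * (mneg * x) = x * x := by
  calc mneg * x * (mneg * x) = mneg * (x * mneg) * x := by group
    _ = _ := by rw [comm_mneg hx, ← mul_assoc, mneg_sq, one_mul]

theorem mneg_conj {w x : P240} (hw : w ∈ W) : w * (mneg * x) * w⁻¹ = mneg * (w * x * w⁻¹) := by
  rw [← mul_assoc w mneg x, comm_mneg hw]; group

/-- The numbers of fixed roots of an involution and of its product with the negation. -/
theorem fc_mneg {x : P240} (hx : x ∈ W) (h2 : x * x = 1) :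
    fc (mneg * x) = [0, 240, 2, 126, 4, 60, 6, 26, 24, 8].getD (clsOf (fc x)) 0 := by
  obtain ⟨c, hc, h, w, hw, e⟩ := conj_rp hx h2
  have hf : fc (mneg * x) = fc (mneg * rp c) := by rw [← fc_conj w, mneg_conj (Pr_le hw), e]
  have h1 : rp 1 = mneg := rp_one
  have hp : ∀ a b, a < 11 → b < 11 → fc (rp a * rp b) = cnt [rpE a, rpE b] := fun a b ha hb => by
    rw [← fc_prodE (allOK_cons (rpE_ok ha) (allOK_cons (rpE_ok hb) allOK_nil)), prodE_cons, prodE_one]
    rfl
  obtain ⟨-, -, -, -, -, e3, e5, e7, c8, c9⟩ := rep_facts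
  have hpair : ∀ a b, a < 11 → b < 11 → eqB [rpE 1, rpE a] [rpE b] = true → mneg * rp a = rp b := fun a b ha hb he => by
    have := (eqB_iff (allOK_cons (rpE_ok (by norm_num)) (allOK_cons (rpE_ok ha) allOK_nil))
      (allOK_cons (rpE_ok hb) allOK_nil)).1 he
    rw [prodE_cons, prodE_one, prodE_one, pel_rpE, pel_rpE, pel_rpE, h1] at this
    exact this
  have g3 := hpair 2 3 (by norm_num) (by norm_num) e3
  have g5 := hpair 4 5 (by norm_num) (by norm_num) e5
  have g7 := hpair 6 7 (by norm_num) (by norm_num) e7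
  have hback : ∀ {a b : P240}, mneg * a = b → mneg * b = a := fun he => by
    rw [← he, ← mul_assoc, mneg_sq, one_mul]
  rw [hf, h]
  interval_cases c
  · rw [rp_zero, mul_one, ← h1, fc_rp (by norm_num)]; rfl
  · rw [h1, mneg_sq, ← rp_zero, fc_rp (by norm_num)]; rfl
  · rw [g3, fc_rp (by norm_num)]; rfl
  · rw [hback g3, fc_rp (by norm_num)]; rfl
  · rw [g5, fc_rp (by norm_num)]; rfl
  · rw [hback g5, fc_rp (by norm_num)]; rfl
  · rw [g7, fc_rp (by norm_num)]; rfl
  · rw [hback g7, fc_rp (by norm_num)]; rfl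
  · rw [← h1, hp 1 8 (by norm_num) (by norm_num), c8]; rfl
  · rw [← h1, hp 1 9 (by norm_num) (by norm_num), c9]; rfl

/-- The elements fixing the given roots. -/
def fixS (L : List (Fin 240)) : Subgroup P240 where
  carrier := {w | w ∈ W ∧ ∀ r ∈ L, w r = r}
  one_mem' := ⟨one_mem W, fun _ _ => rfl⟩
  mul_mem' := fun ⟨ha, fa⟩ ⟨hb, fb⟩ => ⟨mul_mem ha hb, fun r hr => by rw [Equiv.Perm.mul_apply, fb r hr, fa r hr]⟩
  inv_mem' := fun {a} ⟨ha, fa⟩ => ⟨inv_mem ha, fun r hr => a.injective (by
    rw [fa r hr, Equiv.Perm.coe_inv, Equiv.apply_symm_apply])⟩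

theorem mem_fixS {L : List (Fin 240)} {w : P240} : w ∈ fixS L ↔ w ∈ W ∧ ∀ r ∈ L, w r = r := Iff.rfl

/-- A root. -/
def rA : Fin 240 := Fin.ofNat 240 rootA

/-- A root. -/
def rB : Fin 240 := Fin.ofNat 240 rootB

/-- A root. -/
def rC : Fin 240 := Fin.ofNat 240 rootC

/-- A root. -/
def rD : Fin 240 := Fin.ofNat 240 rootD

theorem root_val : rA.val = rootA ∧ rB.val = rootB ∧ rC.val = rootC ∧ rD.val = rootD := by decide +kernel

theorem spreadE_sound (gens : List El) (hg : AllOK gens) (H : Subgroup P240) (hH : ∀ g ∈ gens, pel g ∈ H) (x₀ : Fin 240) :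
    ∀ (edges : List (ℕ × ℕ × ℕ)) (S : List ℕ), (∀ r ∈ S, ∃ h ∈ H, (h x₀).val = r) →
      ∀ r ∈ spreadE gens edges S, ∃ h ∈ H, (h x₀).val = r := by
  intro edges
  induction edges with
  | nil => exact fun S hS => hS
  | cons e L ih =>
    intro S hS
    rw [spreadE]
    refine ih _ fun r hr => ?_
    cases hb : S.contains e.2.1 && decide (e.2.2 < gens.length) && (evs [gens.getD e.2.2 ([], (0, 0))] e.2.1 == e.1)
    · rw [hb, cond_false] at hr
      exact hS r hr
    · rw [hb, cond_true, List.mem_cons] at hr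
      rcases hr with rfl | hr
      · simp only [Bool.and_eq_true, decide_eq_true_eq, beq_iff_eq, List.contains_iff_mem] at hb
        obtain ⟨⟨h1, h2⟩, h3⟩ := hb
        obtain ⟨h, hh, hx⟩ := hS _ h1
        have hmem : gens.getD e.2.2 ([], (0, 0)) ∈ gens := by
          rw [List.getD_eq_getElem _ _ h2]; exact List.getElem_mem _
        refine ⟨pel (gens.getD e.2.2 ([], (0, 0))) * h, mul_mem (hH _ hmem) hh, ?_⟩
        rw [← prodE_one, Equiv.Perm.mul_apply, prodE_apply (allOK_cons (hg _ hmem) allOK_nil), hx, h3]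
      · exact hS r hr

theorem stab_ok : AllOK stab1 ∧ AllOK stab2 ∧ AllOK stab3 ∧ AllOK quad ∧ AllOK quadRefl ∧ AllOK fixTr ∧
    elOK reflR = true := by
  have h : ∀ E ∈ reps ++ quad ++ quadRefl ++ stab1 ++ stab2 ++ stab3 ++ fixTr ++ [reflR], elOK E = true :=
    List.all_eq_true.1 el_ok.2.2
  refine ⟨?_, ?_, ?_, ?_, ?_, ?_, h _ (by simp)⟩ <;> exact fun E hE => h E (by simp [hE])

/-- The orbit on a root of the elements fixing earlier ones. -/
theorem orbit_level {gens : List El} {fixed : List (Fin 240)} {x₀ : Fin 240} {edges : List (ℕ × ℕ × ℕ)} {n : ℕ}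
    (hg : AllOK gens) (h : levelOK gens (fixed.map Fin.val) x₀.val edges n = true) :
    n ≤ Nat.card (MulAction.orbit (fixS fixed) x₀) ∧
      ∀ r ∈ spreadE gens edges [x₀.val], ∃ w ∈ Subgroup.closure {p | ∃ g ∈ gens, pel g = p}, (w x₀).val = r := by
  simp only [levelOK, Bool.and_eq_true, decide_eq_true_eq] at h
  obtain ⟨⟨hfix, hlt⟩, hn⟩ := h
  set H := Subgroup.closure {p | ∃ g ∈ gens, pel g = p}
  have hs := spreadE_sound gens hg H (fun g hgm => Subgroup.subset_closure ⟨g, hgm, rfl⟩) x₀ edges [x₀.val]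
    fun r hr => ⟨1, one_mem _, (List.mem_singleton.1 hr).symm⟩
  refine ⟨?_, hs⟩
  have hle : H ≤ fixS fixed := (Subgroup.closure_le _).2 (by
    rintro p ⟨g, hgm, rfl⟩
    refine ⟨pel_mem (hg g hgm), fun r hr => Fin.ext ?_⟩
    rw [← prodE_one, prodE_apply (allOK_cons (hg g hgm) allOK_nil)]
    exact beq_iff_eq.1 (List.all_eq_true.1 (List.all_eq_true.1 hfix g hgm) r.val (List.mem_map_of_mem hr)))
  refine hn.trans ?_
  set T := (List.range 240).filter fun r => (spreadE gens edges [x₀.val]).contains r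
  have hT : T.Nodup := List.nodup_range.filter _
  have hex : ∀ r : {r // r ∈ T}, ∃ p : MulAction.orbit (fixS fixed) x₀, p.1.val = r.1 := fun r => by
    obtain ⟨-, hm⟩ := List.mem_filter.1 r.2
    obtain ⟨w, hw, hwx⟩ := hs r.1 (List.contains_iff_mem.1 hm)
    exact ⟨⟨w x₀, ⟨⟨w, hle hw⟩, rfl⟩⟩, hwx⟩
  choose f hf using hex
  have hinj : Function.Injective f := fun a b e => Subtype.ext (by rw [← hf a, ← hf b, e])
  calc T.length = Nat.card {r // r ∈ T} := by
        rw [← List.toFinset_card_of_nodup hT, ← Nat.card_eq_finsetCard]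
        exact Nat.card_congr (Equiv.subtypeEquivRight fun r => List.mem_toFinset)
    _ ≤ _ := Nat.card_le_card_of_injective f hinj

theorem acute_comm_neg {w : P240} (hw : w ∈ W) (a b : Fin 240) :
    orth (w a).val (w b).val = orth a.val b.val := by
  have hn : ng (w a).val = (w (mneg a)).val := by
    rw [← mneg_apply, ← Equiv.Perm.mul_apply, ← comm_mneg hw, Equiv.Perm.mul_apply]
  have h1 : ((w b).val != (w a).val) = (b.val != a.val) := by
    rw [Bool.eq_iff_iff, bne_iff_ne, bne_iff_ne, Ne, Ne, ← Fin.ext_iff, ← Fin.ext_iff, w.injective.eq_iff]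
  have h2 : ((w b).val != (w (mneg a)).val) = (b.val != (mneg a).val) := by
    rw [Bool.eq_iff_iff, bne_iff_ne, bne_iff_ne, Ne, Ne, ← Fin.ext_iff, ← Fin.ext_iff, w.injective.eq_iff]
  simp only [orth]
  rw [hn, acute_map hw, acute_map hw, h1, h2, mneg_apply]

theorem card_orbit_le (H : Subgroup P240) (x₀ : Fin 240) (P : ℕ → Bool) (h : ∀ w ∈ H, P (w x₀).val = true) :
    Nat.card (MulAction.orbit H x₀) ≤ ((List.range 240).filter P).length := by
  set T := (List.range 240).filter P
  let f : MulAction.orbit H x₀ → {r // r ∈ T} := fun p => ⟨p.1.val, by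
    obtain ⟨w, hw⟩ := p.2
    exact List.mem_filter.2 ⟨List.mem_range.2 p.1.isLt, hw ▸ h w.1 w.2⟩⟩
  calc Nat.card (MulAction.orbit H x₀) ≤ Nat.card {r // r ∈ T} :=
        Nat.card_le_card_of_injective f fun a b e =>
          Subtype.ext (Fin.ext (congrArg (fun r : {r // r ∈ T} => r.1) e))
    _ = T.length := by
        rw [← List.toFinset_card_of_nodup (List.nodup_range.filter _), ← Nat.card_eq_finsetCard]
        exact Nat.card_congr (Equiv.subtypeEquivRight fun r => List.mem_toFinset.symm)

theorem card_step (L : List (Fin 240)) (x₀ : Fin 240) :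
    Nat.card (MulAction.orbit (fixS L) x₀) * Nat.card (fixS (x₀ :: L)) = Nat.card (fixS L) := by
  rw [← Subgroup.card_mul_index (MulAction.stabilizer (fixS L) x₀), MulAction.index_stabilizer, mul_comm,
    Nat.card_coe_set_eq]
  refine congrArg (· * _) (Nat.card_congr
    { toFun := fun w => ⟨⟨w.1, w.2.1, fun r hr => w.2.2 r (List.mem_cons_of_mem _ hr)⟩,
        w.2.2 x₀ List.mem_cons_self⟩
      invFun := fun w => ⟨w.1.1, w.1.2.1, fun r hr => by
        rcases List.mem_cons.1 hr with rfl | hr
        exacts [w.2, w.1.2.2 r hr]⟩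
      left_inv := fun _ => rfl
      right_inv := fun _ => rfl })

theorem fixS_nil : fixS [] = W := le_antisymm (fun _ h => h.1) fun w h => ⟨h, fun _ hr => absurd hr List.not_mem_nil⟩

theorem card_fix :
    Nat.card (fixS [rC, rB, rA]) = 384 ∧ Nat.card (fixS [rD, rC, rB, rA]) ≤ 16 := by
  obtain ⟨vA, vB, vC, vD⟩ := root_val
  obtain ⟨l1, l2, l3, c1, c2, oAB, oAC, oBC⟩ := chain_ok'
  obtain ⟨g1, g2, g3, -⟩ := stab_ok
  have h0 : Nat.card (MulAction.orbit W rA) ≤ 240 :=
    (Nat.card_le_card_of_injective _ Subtype.val_injective).trans (by simp)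
  have s0 := card_step [] rA
  rw [fixS_nil, card_W] at s0
  have u1 : Nat.card (MulAction.orbit (fixS [rA]) rB) ≤ 126 := by
    refine (card_orbit_le _ _ (fun r => orth rootA r) fun w hw => ?_).trans c1.le
    have := acute_comm_neg hw.1 rA rB
    rwa [hw.2 rA List.mem_cons_self, vA, vB, oAB] at this
  have u2 : Nat.card (MulAction.orbit (fixS [rB, rA]) rC) ≤ 60 := by
    refine (card_orbit_le _ _ (fun r => orth rootA r && orth rootB r) fun w hw => ?_).trans c2.le
    have a := acute_comm_neg hw.1 rA rC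
    have b := acute_comm_neg hw.1 rB rC
    rw [hw.2 rA (by simp), vA, vC, oAC] at a
    rw [hw.2 rB (by simp), vB, vC, oBC] at b
    rw [a, b]
    rfl
  have b1 := (orbit_level (fixed := [rA]) (x₀ := rB) g1 (by simpa [vA, vB] using l1)).1
  have l2' : levelOK stab2 [rootB, rootA] rootC orb2 60 = true := by
    simp only [levelOK, List.all_cons, List.all_nil, Bool.and_true] at l2 ⊢
    simpa [Bool.and_comm, Bool.and_left_comm] using l2
  have l3' : levelOK stab3 [rootC, rootB, rootA] rootD orb3 24 = true := by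
    simp only [levelOK, List.all_cons, List.all_nil, Bool.and_true] at l3 ⊢
    simpa [Bool.and_comm, Bool.and_left_comm, Bool.and_assoc] using l3
  have b2 := (orbit_level (fixed := [rB, rA]) (x₀ := rC) g2 (by simpa [vA, vB, vC] using l2')).1
  have b3 := (orbit_level (fixed := [rC, rB, rA]) (x₀ := rD) g3 (by simpa [vA, vB, vC, vD] using l3')).1
  have e1 : Nat.card (MulAction.orbit (fixS [rA]) rB) = 126 := le_antisymm u1 b1
  have e2 : Nat.card (MulAction.orbit (fixS [rB, rA]) rC) = 60 := le_antisymm u2 b2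
  have hW : Nat.card (MulAction.orbit W rA) = 240 := by
    refine le_antisymm h0 ?_
    obtain ⟨hreach, -, -⟩ := root_ok
    have hz : ∀ r : Fin 240, r ∈ MulAction.orbit W (0 : Fin 240) := by
      have hgrow : ∀ (L : List (ℕ × ℕ × ℕ)) (S : List ℕ),
          (∀ r ∈ S, ∃ w ∈ W, (w (0 : Fin 240)).val = r) → ∀ r ∈ spread L S, ∃ w ∈ W, (w (0 : Fin 240)).val = r := by
        intro L
        induction L with
        | nil => exact fun S hS => hS
        | cons e L ih =>
          intro S hS
          rw [spread]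
          refine ih _ fun r hr => ?_
          cases hb : S.contains e.2.1 && decide (e.2.2 < 3) && (ap (lt4 e.2.2).1 e.2.1 == e.1)
          · rw [hb, cond_false] at hr; exact hS r hr
          · rw [hb, cond_true, List.mem_cons] at hr
            rcases hr with rfl | hr
            · simp only [Bool.and_eq_true, decide_eq_true_eq, beq_iff_eq, List.contains_iff_mem] at hb
              obtain ⟨⟨h1, h2⟩, h3⟩ := hb
              obtain ⟨w, hw, hx⟩ := hS _ h1
              refine ⟨let' e.2.2 * w, mul_mem (let_mem (Nat.lt_succ_of_lt h2)) hw, ?_⟩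
              rw [Equiv.Perm.mul_apply, let', perm_apply (let_valid (Nat.lt_succ_of_lt h2)), hx]
              exact h3
            · exact hS r hr
      intro r
      obtain ⟨w, hw, hx⟩ := hgrow orbRoot [0] (fun r hr => ⟨1, one_mem W, (List.mem_singleton.1 hr).symm⟩) r.val
        (List.contains_iff_mem.1 (List.all_eq_true.1 hreach r.val (List.mem_range.2 r.isLt)))
      exact ⟨⟨w, hw⟩, Fin.ext hx⟩
    have : MulAction.orbit W rA = Set.univ := Set.eq_univ_of_forall fun r => by
      rw [MulAction.orbit_eq_iff.2 (hz rA)]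
      exact hz r
    rw [this, Nat.card_congr (Equiv.Set.univ _), Nat.card_fin]
  have s1 := card_step [rA] rB
  have s2 := card_step [rB, rA] rC
  have s3 := card_step [rC, rB, rA] rD
  rw [hW] at s0
  rw [e1] at s1
  rw [e2] at s2
  have : Nat.card (fixS [rC, rB, rA]) = 384 := by omega
  refine ⟨this, ?_⟩
  rw [this] at s3
  have := Nat.mul_le_mul_right (Nat.card (fixS [rD, rC, rB, rA])) b3
  omega

/-- An element fixing the four roots is listed, and has square one. -/
theorem fix_quad {w : P240} (hw : w ∈ fixS [rD, rC, rB, rA]) :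
    ∃ i < 16, w = pel (quad.getD i ([], (0, 0))) ∧ w * w = 1 := by
  obtain ⟨hlen, hall⟩ := quad_ok
  obtain ⟨vA, vB, vC, vD⟩ := root_val
  have hq := stab_ok.2.2.2.1
  have hm : ∀ i < 16, quad.getD i ([], (0, 0)) ∈ quad := fun i hi => by
    rw [List.getD_eq_getElem _ _ (hlen.symm ▸ hi)]; exact List.getElem_mem _
  have hok : ∀ i < 16, AllOK [quad.getD i ([], (0, 0))] := fun i hi => allOK_cons (hq _ (hm i hi)) allOK_nil
  simp only [List.all_eq_true, List.mem_range, Bool.and_eq_true, Bool.not_eq_true', beq_iff_eq] at hall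
  let f : Fin 16 → fixS [rD, rC, rB, rA] := fun i => ⟨pel (quad.getD i.val ([], (0, 0))), pel_mem (hq _ (hm _ i.isLt)),
    fun r hr => Fin.ext (by
      rw [← prodE_one, prodE_apply (hok _ i.isLt)]
      exact (hall i.val i.isLt).1.1 r.val (by
        simp only [List.mem_cons, List.not_mem_nil, or_false] at hr ⊢
        rcases hr with rfl | rfl | rfl | rfl <;> simp [vA, vB, vC, vD]))⟩
  have hinj : Function.Injective f := by
    have key : ∀ i j : Fin 16, j.val < i.val → f i ≠ f j := fun i j hlt e => by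
      refine eqB_false (hok _ i.isLt) (hok _ j.isLt) ((hall i.val i.isLt).2 j.val hlt) ?_
      rw [prodE_one, prodE_one]
      exact congrArg Subtype.val e
    intro i j e
    rcases lt_trichotomy i.val j.val with h | h | h
    · exact absurd e.symm (key j i h)
    · exact Fin.ext h
    · exact absurd e (key i j h)
  have hbij : Function.Bijective f := hinj.bijective_of_nat_card_le (by rw [Nat.card_fin]; exact card_fix.2)
  obtain ⟨i, hi⟩ := hbij.2 ⟨w, hw⟩
  have hi' : pel (quad.getD i.val ([], (0, 0))) = w := congrArg Subtype.val hi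
  refine ⟨i.val, i.isLt, hi'.symm, ?_⟩
  have := (eqB_iff (allOK_cons (hq _ (hm _ i.isLt)) (hok _ i.isLt)) allOK_nil).1 (hall i.val i.isLt).1.2
  rwa [prodE_cons, prodE_one, show prodE ([] : List El) = 1 from rfl, hi'] at this

end Cfsg.Lib.OEightStd
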