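import Cfsg.Agent.OEightStd.Facts

/-!
The witnesses at the representatives as statements about permutations of the roots.
-/

set_option autoImplicit false
set_option maxRecDepth 100000
set_option linter.style.haveILetI false

namespace Cfsg.Lib.OEightStd

open Cfsg.Lib.PermCert Cfsg.Lib.CosetCert

/-- Two commuting elements of order three in `Dm w`, commuting with `q`, whose four lines each move an element of
two-power order in `Dm w`. -/
def NineW (w q : P240) : Prop :=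
  ∃ a ∈ Dm w, ∃ b ∈ Dm w, a * a * a = 1 ∧ b * b * b = 1 ∧ a * b = b * a ∧ a * q = q * a ∧ b * q = q * b ∧
    ∀ c ∈ [a, b, a * b, a * b * b], ∃ p ∈ Dm w, p ^ 4 = 1 ∧ c * p ≠ p * c

theorem wit_ok {E : El} (h : E ∈ [wA_x, wA_s, wA_d, wA_y, wA_p, nA_a, nA_b, nR_a, nR_b, wK_f, wK_p, wK_q, wK_d,
    wE_x, wG_l, wG_x, wF_l, wF_q]) : elOK E = true ∧ pel E ∈ Pr := by
  have := List.all_eq_true.1 el_ok.1 E h
  rw [Bool.and_eq_true] at this
  exact ⟨this.1, pel_even this.1 this.2⟩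

theorem prodE_eq {L M : List El} (hL : AllOK L) (hM : AllOK M) (h : eqB L M = true) : prodE L = prodE M :=
  (eqB_iff hL hM).1 h

theorem dm_mneg {gens : List El} {idx : List ℕ} {c : ℕ} (hc : c < 11) (hg : genOK (rpE c) gens = true)
    (h : inGen gens idx (rpE 1) = true) : mneg ∈ Dm (rp c) :=
  rp_one ▸ prodE_picks_mem (rpE_ok hc) hg (rpE_ok (by norm_num)) h

theorem self_Dm : rp 5 ∈ Dm (rp 4) ∧ rp 10 ∈ Dm (rp 10) ∧ (mneg ∈ Dm (rp 8) ∧ rp 8 ∈ Dm (rp 8)) ∧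
    (mneg ∈ Dm (rp 9) ∧ rp 9 ∈ Dm (rp 9)) ∧ rp 8 ∈ Dm rR := by
  obtain ⟨gK, gA, gE, -, gJ, gR⟩ := gen_ok
  obtain ⟨m5, mJ, mAz, mAa, mEz, mEe, mR⟩ := mem_rep_ok
  exact ⟨prodE_picks_mem (rpE_ok (by norm_num)) gK (rpE_ok (by norm_num)) m5,
    prodE_picks_mem (rpE_ok (by norm_num)) gJ (rpE_ok (by norm_num)) mJ,
    ⟨dm_mneg (by norm_num) gA mAz, prodE_picks_mem (rpE_ok (by norm_num)) gA (rpE_ok (by norm_num)) mAa⟩,
    ⟨dm_mneg (by norm_num) gE mEz, prodE_picks_mem (rpE_ok (by norm_num)) gE (rpE_ok (by norm_num)) mEe⟩,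
    prodE_picks_mem stab_ok.2.2.2.2.2.2 gR (rpE_ok (by norm_num)) mR⟩

theorem nine_of {gens : List El} {w a b q : El} {xa xb : List ℕ} {ps : List El} {xps : List (List ℕ)}
    (hw : elOK w = true) (hg : genOK w gens = true) (ha : elOK a = true) (hb : elOK b = true) (hq : elOK q = true)
    (hps : AllOK ps) (h : nineOK gens q a b xa xb ps xps = true) : NineW (pel w) (pel q) := by
  simp only [nineOK, Bool.and_eq_true, List.all_eq_true, List.mem_range, beq_iff_eq, Bool.not_eq_true'] at h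
  obtain ⟨⟨⟨⟨⟨⟨⟨⟨⟨ha', hb'⟩, a3⟩, b3⟩, hab⟩, haq⟩, hbq⟩, hlen⟩, hlen'⟩, hall⟩ := h
  have A1 : AllOK [a] := allOK_cons ha allOK_nil
  have B1 : AllOK [b] := allOK_cons hb allOK_nil
  have e3 := prodE_eq (allOK_cons ha (allOK_cons ha A1)) allOK_nil a3
  have f3 := prodE_eq (allOK_cons hb (allOK_cons hb B1)) allOK_nil b3
  have eab := prodE_eq (allOK_cons ha B1) (allOK_cons hb A1) hab
  have eaq := prodE_eq (allOK_cons ha (allOK_cons hq allOK_nil)) (allOK_cons hq A1) haq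
  have ebq := prodE_eq (allOK_cons hb (allOK_cons hq allOK_nil)) (allOK_cons hq B1) hbq
  simp only [prodE, List.map_cons, List.map_nil, List.prod_cons, List.prod_nil, mul_one] at e3 f3 eab eaq ebq
  refine ⟨pel a, prodE_picks_mem hw hg ha ha', pel b, prodE_picks_mem hw hg hb hb', by rwa [mul_assoc],
    by rwa [mul_assoc], eab, eaq, ebq, fun c hc => ?_⟩
  have hp : ∀ i < 4, elOK (ps.getD i ([], (0, 0))) = true := fun i hi => by
    rw [List.getD_eq_getElem _ _ (hlen.symm ▸ hi : i < ps.length)]; exact hps _ (List.getElem_mem _)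
  obtain ⟨i, hi, hci, hok⟩ : ∃ i < 4, c = prodE (bif i == 0 then [a] else bif i == 1 then [b] else bif i == 2 then [a, b]
      else [a, b, b]) ∧ AllOK (bif i == 0 then [a] else bif i == 1 then [b] else bif i == 2 then [a, b]
      else [a, b, b]) := by
    simp only [List.mem_cons, List.not_mem_nil, or_false] at hc
    rcases hc with e | e | e | e
    · exact ⟨0, by norm_num, by simp [e, prodE], A1⟩
    · exact ⟨1, by norm_num, by simp [e, prodE], B1⟩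
    · exact ⟨2, by norm_num, by simp [e, prodE], allOK_cons ha B1⟩
    · exact ⟨3, by norm_num, by simp [e, prodE, mul_assoc], allOK_cons ha (allOK_cons hb B1)⟩
  obtain ⟨⟨h1, h4⟩, hne⟩ := hall i hi
  have P1 : AllOK [ps.getD i ([], (0, 0))] := allOK_cons (hp i hi) allOK_nil
  refine ⟨_, prodE_picks_mem hw hg (hp i hi) h1, ?_, fun e => eqB_false
    (fun E hE => (List.mem_append.1 hE).elim (hok E) (P1 E))
    (fun E hE => (List.mem_append.1 hE).elim (P1 E) (hok E)) hne ?_⟩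
  · have := prodE_eq (allOK_cons (hp i hi) (allOK_cons (hp i hi) (allOK_cons (hp i hi) P1))) allOK_nil h4
    simpa [prodE, pow_succ, mul_assoc] using this
  · rw [prodE_append, prodE_append, prodE_one, ← hci, e]

theorem nine_wit : NineW (rp 8) (rp 8) ∧ NineW rR (rp 8) := by
  obtain ⟨-, gA, -, -, -, gR⟩ := gen_ok
  have hps : AllOK nA_p ∧ AllOK nR_p := by
    constructor <;> exact fun E hE => (Bool.and_eq_true_iff.1 (List.all_eq_true.1 el_ok.2.1 E (by simp [hE]))).1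
  exact ⟨nine_of (rpE_ok (show 8 < 11 by norm_num)) gA (wit_ok (E := nA_a) (by simp)).1
      (wit_ok (E := nA_b) (by simp)).1 (rpE_ok (show 8 < 11 by norm_num)) hps.1 nine_ok.1,
    nine_of stab_ok.2.2.2.2.2.2 gR (wit_ok (E := nR_a) (by simp)).1 (wit_ok (E := nR_b) (by simp)).1
      (rpE_ok (show 8 < 11 by norm_num)) hps.2 nine_ok.2⟩

theorem witA : ∃ x ∈ Dm (rp 8), x * x = 1 ∧ fc x = 60 ∧ fc (x * rp 8) = 60 ∧ fc (mneg * x) = 4 ∧
    fc (mneg * (x * rp 8)) = 4 ∧ (∃ s ∈ Pr, s * rp 8 = rp 8 * s ∧ s * s = x) ∧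
    (∃ d ∈ Pr, d * rp 8 = rp 8 * d ∧ d * x * d⁻¹ = x * rp 8) ∧
    ∃ y ∈ Dm (rp 8), ∃ p ∈ Dm (rp 8), y * y * y = 1 ∧ y * x = x * y ∧ p ^ 4 = 1 ∧ y * p ≠ p * y := by
  obtain ⟨-, gA, -, -, -, -⟩ := gen_ok
  obtain ⟨mx, my, mp, x2, sc, ss, dc, dx, y3, yx, p4, yp, c1, c2, c3, c4⟩ := wA_ok
  have o8 := rpE_ok (show 8 < 11 by norm_num)
  have o1 := rpE_ok (show 1 < 11 by norm_num)
  obtain ⟨ox, -⟩ := wit_ok (E := wA_x) (by simp)
  obtain ⟨os, hs⟩ := wit_ok (E := wA_s) (by simp)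
  obtain ⟨od, hd⟩ := wit_ok (E := wA_d) (by simp)
  obtain ⟨oy, -⟩ := wit_ok (E := wA_y) (by simp)
  obtain ⟨op, -⟩ := wit_ok (E := wA_p) (by simp)
  have X1 : AllOK [wA_x] := allOK_cons ox allOK_nil
  have E1 := prodE_eq (allOK_cons ox X1) allOK_nil x2
  have E2 := prodE_eq (allOK_cons os (allOK_cons o8 allOK_nil)) (allOK_cons o8 (allOK_cons os allOK_nil)) sc
  have E3 := prodE_eq (allOK_cons os (allOK_cons os allOK_nil)) X1 ss
  have E4 := prodE_eq (allOK_cons od (allOK_cons o8 allOK_nil)) (allOK_cons o8 (allOK_cons od allOK_nil)) dc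
  have E5 := prodE_eq (allOK_cons od X1) (allOK_cons ox (allOK_cons o8 (allOK_cons od allOK_nil))) dx
  have E6 := prodE_eq (allOK_cons oy (allOK_cons oy (allOK_cons oy allOK_nil))) allOK_nil y3
  have E7 := prodE_eq (allOK_cons oy X1) (allOK_cons ox (allOK_cons oy allOK_nil)) yx
  have E8 := prodE_eq (allOK_cons op (allOK_cons op (allOK_cons op (allOK_cons op allOK_nil)))) allOK_nil p4
  have E9 := eqB_false (allOK_cons oy (allOK_cons op allOK_nil)) (allOK_cons op (allOK_cons oy allOK_nil)) yp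
  have F1 := fc_prodE X1
  have F2 := fc_prodE (allOK_cons ox (allOK_cons o8 allOK_nil))
  have F3 := fc_prodE (allOK_cons o1 X1)
  have F4 := fc_prodE (allOK_cons o1 (allOK_cons ox (allOK_cons o8 allOK_nil)))
  simp only [prodE, List.map_cons, List.map_nil, List.prod_cons, List.prod_nil, mul_one, pel_rpE, rp_one] at *
  rw [c1] at F1; rw [c2] at F2; rw [c3] at F3; rw [c4] at F4
  exact ⟨_, prodE_picks_mem o8 gA ox mx, E1, F1, F2, F3, F4, ⟨_, hs, E2, E3⟩,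
    ⟨_, hd, E4, by rw [E5]; group⟩,
    _, prodE_picks_mem o8 gA oy my, _, prodE_picks_mem o8 gA op mp, by rwa [mul_assoc], E7,
    by rw [pow_succ, pow_succ, pow_succ, pow_one]; simpa [mul_assoc] using E8, E9⟩

theorem witK : ∃ f ∈ Pr, f * f = 1 ∧ f * rp 4 = rp 4 * f ∧ fc f = 60 ∧ fc (f * rp 4) = 60 ∧ fc (mneg * f) = 4 ∧
    ∃ p ∈ Dm (rp 4), ∃ q ∈ Dm (rp 4), p * p = 1 ∧ q * q = 1 ∧ (p * q) ^ 5 = 1 ∧ p * q ≠ 1 ∧
      p * q * f = f * (p * q) := by
  obtain ⟨gK, -, -, -, -, -⟩ := gen_ok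
  obtain ⟨mp, mq, p2, q2, h5, hne, hc, f2, fc4, c1, c2, c3, -⟩ := wK_ok
  have o4 := rpE_ok (show 4 < 11 by norm_num)
  have o1 := rpE_ok (show 1 < 11 by norm_num)
  obtain ⟨of, hf⟩ := wit_ok (E := wK_f) (by simp)
  obtain ⟨op, -⟩ := wit_ok (E := wK_p) (by simp)
  obtain ⟨oq, -⟩ := wit_ok (E := wK_q) (by simp)
  have F1' : AllOK [wK_f] := allOK_cons of allOK_nil
  have PQ : ∀ {L}, AllOK L → AllOK (wK_p :: wK_q :: L) := fun h => allOK_cons op (allOK_cons oq h)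
  have E1 := prodE_eq (allOK_cons op (allOK_cons op allOK_nil)) allOK_nil p2
  have E2 := prodE_eq (allOK_cons oq (allOK_cons oq allOK_nil)) allOK_nil q2
  have E3 := prodE_eq (PQ (PQ (PQ (PQ (PQ allOK_nil))))) allOK_nil h5
  have E4 := eqB_false (PQ allOK_nil) allOK_nil hne
  have E5 := prodE_eq (PQ F1') (allOK_cons of (PQ allOK_nil)) hc
  have E6 := prodE_eq (allOK_cons of F1') allOK_nil f2
  have E7 := prodE_eq (allOK_cons of (allOK_cons o4 allOK_nil)) (allOK_cons o4 F1') fc4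
  have G1 := fc_prodE F1'
  have G2 := fc_prodE (allOK_cons of (allOK_cons o4 allOK_nil))
  have G3 := fc_prodE (allOK_cons o1 F1')
  simp only [prodE, List.map_cons, List.map_nil, List.prod_cons, List.prod_nil, mul_one, pel_rpE, rp_one] at *
  rw [c1] at G1; rw [c2] at G2; rw [c3] at G3
  exact ⟨_, hf, E6, E7, G1, G2, G3, _, prodE_picks_mem o4 gK op mp, _, prodE_picks_mem o4 gK oq mq, E1, E2,
    by simpa [pow_succ, mul_assoc] using E3, E4, by simpa [mul_assoc] using E5⟩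

theorem witE : ∃ x ∈ Dm (rp 9), x * x = 1 ∧ fc x = 8 ∧ fc (x * rp 9) = 24 := by
  obtain ⟨-, -, gE, -, -, -⟩ := gen_ok
  obtain ⟨mx, x2, c1, c2, -⟩ := wEG_ok
  have o9 := rpE_ok (show 9 < 11 by norm_num)
  obtain ⟨ox, -⟩ := wit_ok (E := wE_x) (by simp)
  have E1 := prodE_eq (allOK_cons ox (allOK_cons ox allOK_nil)) allOK_nil x2
  have G1 := fc_prodE (allOK_cons ox allOK_nil)
  have G2 := fc_prodE (allOK_cons ox (allOK_cons o9 allOK_nil))
  simp only [prodE, List.map_cons, List.map_nil, List.prod_cons, List.prod_nil, mul_one, pel_rpE] at *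
  rw [c1] at G1; rw [c2] at G2
  exact ⟨_, prodE_picks_mem o9 gE ox mx, E1, G1, G2⟩

theorem witG : ∃ x ∈ Dm (rp 6), ∃ l ∈ Pr, x * x = 1 ∧ x ≠ 1 ∧ l * (rp 6 * l⁻¹ * (rp 6)⁻¹) = x := by
  obtain ⟨-, -, -, gG, -, -⟩ := gen_ok
  obtain ⟨-, -, -, -, mx, x2, hne, hl⟩ := wEG_ok
  have o6 := rpE_ok (show 6 < 11 by norm_num)
  obtain ⟨ox, -⟩ := wit_ok (E := wG_x) (by simp)
  obtain ⟨ol, hP⟩ := wit_ok (E := wG_l) (by simp)
  have E1 := prodE_eq (allOK_cons ox (allOK_cons ox allOK_nil)) allOK_nil x2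
  have E2 := eqB_false (allOK_cons ox allOK_nil) allOK_nil hne
  have E3 := prodE_eq (allOK_cons ol (allOK_cons o6 allOK_nil))
    (allOK_cons ox (allOK_cons o6 (allOK_cons ol allOK_nil))) hl
  simp only [prodE, List.map_cons, List.map_nil, List.prod_cons, List.prod_nil, mul_one, pel_rpE] at *
  refine ⟨_, prodE_picks_mem o6 gG ox mx, _, hP, E1, E2, ?_⟩
  calc pel wG_l * (rp 6 * (pel wG_l)⁻¹ * (rp 6)⁻¹)
      = (pel wG_l * rp 6) * ((pel wG_l)⁻¹ * (rp 6)⁻¹) := by group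
    _ = _ := by rw [E3]; group

theorem witF : ∃ l ∈ Pr, ∃ q ∈ Pr, q * q = 1 ∧ q * rp 2 = rp 2 * q ∧ q * qr 1 = qr 1 * q ∧ fc q = 24 ∧
    q rA = rA ∧ q rB = mneg rB ∧ fc (qr 1 * rp 2 * q) = 8 ∧ l * rp 2 * l⁻¹ = qr 1 ∧
    qr 1 * rp 2 = rp 2 * qr 1 ∧ fc (rp 8 * rR) ∈ [26, 6] ∧ rp 8 * rR = rR * rp 8 := by
  obtain ⟨q2, qc, c24, -, qA, qB, c8, hl, hab, hR, hc⟩ := wF_ok
  obtain ⟨vA, vB, -, -⟩ := root_val
  have o2 := rpE_ok (show 2 < 11 by norm_num)
  have o8 := rpE_ok (show 8 < 11 by norm_num)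
  have o1 := qr_ok (show 1 < 4 by norm_num)
  have oR := stab_ok.2.2.2.2.2.2
  obtain ⟨ol, hP⟩ := wit_ok (E := wF_l) (by simp)
  obtain ⟨oq, hQ⟩ := wit_ok (E := wF_q) (by simp)
  have Q1 : AllOK [wF_q] := allOK_cons oq allOK_nil
  have hqA : pel wF_q rA = rA := Fin.ext (by rw [← prodE_one, prodE_apply Q1, vA, qA])
  have hqB : pel wF_q rB = mneg rB := Fin.ext (by rw [← prodE_one, prodE_apply Q1, mneg_apply, vB, qB])
  have E1 := prodE_eq (allOK_cons oq Q1) allOK_nil q2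
  have E2 := prodE_eq (allOK_cons oq (allOK_cons o2 allOK_nil)) (allOK_cons o2 Q1) qc
  have E3 := prodE_eq (allOK_cons o1 (allOK_cons ol allOK_nil)) (allOK_cons ol (allOK_cons o2 allOK_nil)) hl
  have E4 := prodE_eq (allOK_cons o1 (allOK_cons o2 allOK_nil)) (allOK_cons o2 (allOK_cons o1 allOK_nil)) hab
  have E5 := prodE_eq (allOK_cons o8 (allOK_cons oR allOK_nil)) (allOK_cons oR (allOK_cons o8 allOK_nil)) hR
  have G1 := fc_prodE Q1
  have G2 := fc_prodE (allOK_cons o1 (allOK_cons o2 Q1))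
  have G3 := fc_prodE (allOK_cons o8 (allOK_cons oR allOK_nil))
  have hq1 : qr 1 rB = mneg rB := (qr_facts.2.2.2.2.2.2 rB).2 (mem_pm.2 (Or.inl (by simp)))
  have hqW := Pr_le hQ
  simp only [prodE, List.map_cons, List.map_nil, List.prod_cons, List.prod_nil, mul_one, pel_rpE] at E1 E2 E3 E4 E5 G1 G2 G3
  rw [c24] at G1; rw [c8] at G2
  have hq1' : qr 1 * qr 1 = 1 := by
    have e : qr 1 = pel wF_l * rp 2 * (pel wF_l)⁻¹ := eq_mul_inv_iff_mul_eq.2 E3
    rw [e, show pel wF_l * rp 2 * (pel wF_l)⁻¹ * (pel wF_l * rp 2 * (pel wF_l)⁻¹) =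
      pel wF_l * (rp 2 * rp 2) * (pel wF_l)⁻¹ by group, rp_sq (by norm_num)]
    group
  refine ⟨_, hP, _, hQ, E1, E2, ?_, G1, hqA, hqB, by rw [mul_assoc]; exact G2, ?_, E4, ?_, E5⟩
  · refine (mul_inv_eq_iff_eq_mul.1 (refl_unique (mul_mem (mul_mem hqW (qr_mem (by norm_num))) (inv_mem hqW))
      (qr_mem (by norm_num)) (by
        rw [show pel wF_q * qr 1 * (pel wF_q)⁻¹ * (pel wF_q * qr 1 * (pel wF_q)⁻¹) =
          pel wF_q * (qr 1 * qr 1) * (pel wF_q)⁻¹ by group, hq1']; group)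
      (by rw [fc_conj, qr_facts.2.2.1]) qr_facts.2.2.1 (g := mneg rB) ?_ ?_))
    · exact hqB ▸ neg_conj hqW hq1
    · rw [← Equiv.Perm.mul_apply, comm_mneg (qr_mem (by norm_num)), Equiv.Perm.mul_apply, hq1]
  · exact (eq_mul_inv_iff_mul_eq.2 E3).symm
  · simp only [Bool.or_eq_true, beq_iff_eq] at hc
    show fc (rp 8 * pel reflR) ∈ [26, 6]
    rw [G3]
    rcases hc with h | h <;> simp [h]

end Cfsg.Lib.OEightStd
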