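import Cfsg.Agent.OEightStd.Ctx
import Cfsg.Agent.OEightStd.Wit

/-!
The conjugates of the central involution commuting with it, sorted by their action on the roots.
-/

set_option autoImplicit false
set_option maxRecDepth 100000
set_option linter.unusedSectionVars false
set_option linter.style.haveILetI false

namespace Cfsg.Lib.OEightStd

open Cfsg Subgroup

theorem Dm_conj_iff {w x v : P240} (hv : v ∈ W) : v * x * v⁻¹ ∈ Dm (v * w * v⁻¹) ↔ x ∈ Dm w := by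
  refine ⟨fun h => ?_, Dm_conj hv⟩
  have := Dm_conj (inv_mem hv) h
  simpa [mul_assoc] using this

theorem mneg_fix {v : P240} (hv : v ∈ W) : v * mneg * v⁻¹ = mneg := by rw [comm_mneg hv, mul_inv_cancel_right]

/-- Self-membership for the inner classes. -/
theorem self_mem {p : P240} (hp : p ∈ W) (h2 : p * p = 1) :
    (fc p = 4 → p ∈ Dm p) ∧ (fc p = 60 → mneg * p ∈ Dm p ∧ p ∉ Dm p ∧ mneg ∉ Dm p) ∧
      (fc p = 24 ∨ fc p = 8 → p ∈ Dm p ∧ mneg ∈ Dm p) := by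
  obtain ⟨h5, -, ⟨hz8, h8⟩, ⟨hz9, h9⟩, -⟩ := self_Dm
  obtain ⟨-, e4, -⟩ := rep_facts
  have h45 : rp 5 = mneg * rp 4 := by
    have := (eqB_iff (allOK_cons (rpE_ok (show 1 < 11 by norm_num)) (allOK_cons (rpE_ok (show 4 < 11 by norm_num)) allOK_nil))
      (allOK_cons (rpE_ok (show 5 < 11 by norm_num)) allOK_nil)).1 rep_facts.2.2.2.2.2.2.1
    rw [prodE_cons, prodE_one, prodE_one, pel_rpE, pel_rpE, pel_rpE, rp_one] at this
    exact this.symm
  refine ⟨fun hf => ?_, fun hf => ?_, fun hf => ?_⟩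
  · obtain ⟨v, hv, e⟩ := conj_cls hp h2 (show 5 < 10 by norm_num) hf
    have hvW := Pr_le hv
    rw [← Dm_conj_iff hvW, e, h45, Dm_mneg (rp_spec (by norm_num)).2, ← h45]
    exact h5
  · obtain ⟨v, hv, e⟩ := conj_cls hp h2 (show 4 < 10 by norm_num) hf
    have hvW := Pr_le hv
    refine ⟨?_, fun h => ?_, fun h => ?_⟩
    · rw [← Dm_conj_iff hvW, mneg_conj hvW, e, ← h45]; exact h5
    · rw [← Dm_conj_iff hvW, e] at h; exact not_Dm_self h
    · rw [← Dm_conj_iff hvW, e, mneg_fix hvW] at h; exact mneg_not_Dm.2.1 h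
  · rcases hf with hf | hf
    · obtain ⟨v, hv, e⟩ := conj_cls hp h2 (show 8 < 10 by norm_num) hf
      have hvW := Pr_le hv
      constructor <;> rw [← Dm_conj_iff hvW, e]
      · exact h8
      · rw [mneg_fix hvW]; exact hz8
    · obtain ⟨v, hv, e⟩ := conj_cls hp h2 (show 9 < 10 by norm_num) hf
      have hvW := Pr_le hv
      constructor <;> rw [← Dm_conj_iff hvW, e]
      · exact h9
      · rw [mneg_fix hvW]; exact hz9

theorem mneg_not_outer {w : P240} (hw : w ∈ W) (h2 : w * w = 1) (hf : fc w = 126 ∨ fc w = 26) : mneg ∉ Dm w := by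
  intro h
  rcases hf with hf | hf
  · obtain ⟨v, hv, e⟩ := conj_cls hw h2 (show 2 < 10 by norm_num) hf
    rw [← Dm_conj_iff (Pr_le hv), e, mneg_fix (Pr_le hv)] at h
    exact mneg_not_Dm.1 h
  · obtain ⟨v, hv, e⟩ := conj_cls hw h2 (show 6 < 10 by norm_num) hf
    rw [← Dm_conj_iff (Pr_le hv), e, mneg_fix (Pr_le hv)] at h
    exact mneg_not_Dm.2.2 h

theorem root_J {w : P240} (hw : w ∈ W) (h : w * w = mneg) : w ∈ Dm w := by
  obtain ⟨c, hc, v, hv, e⟩ := conj_rep hw (Or.inr h)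
  obtain rfl : c = 10 := by
    by_contra hne
    have := rp_sq (show c < 10 by omega)
    rw [← e, show v * w * v⁻¹ * (v * w * v⁻¹) = v * (w * w) * v⁻¹ by group, h, mneg_fix hv] at this
    exact mneg_ne_one this
  rw [← Dm_conj_iff hv, e]
  exact self_Dm.2.1

theorem Dm_fix_four {p l : P240} (hp : p ∈ W) (h2 : p * p = 1) (hf : fc p = 4) (hl : l ∈ Dm p) {r : Fin 240}
    (hr : p r = r) : l r = r := by
  obtain ⟨v, hv, e⟩ := conj_cls (mul_mem mneg_mem hp) (mneg_sq_one hp h2) (show 4 < 10 by norm_num)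
    (by rw [fc_mneg hp h2, hf]; rfl)
  have hvW := Pr_le hv
  have hl' : v * l * v⁻¹ ∈ Dm (rp 4) := e ▸ Dm_conj hvW (Dm_mneg hp ▸ hl)
  have hr' : (mneg * p) r = mneg r := by rw [Equiv.Perm.mul_apply, hr]
  have hm := e ▸ neg_conj hvW hr'
  have h1 := Dm_fix (fun s => (neg_rp s).2.1) (by norm_num) hl'
  have hvr : (v * l * v⁻¹) (v r) = v r := by
    have hlW := Pr_le (Dm_le _ hl')
    rcases mem_pm.1 ((neg_rp _).2.1.1 hm) with hmem | hmem
    · exact h1 _ hmem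
    · have := h1 _ hmem
      rw [w_mneg hlW] at this
      exact mneg.injective this
  simpa using hvr

universe u
variable {G : Type u} [Group G] [Finite G]

namespace Ctx

variable {L : Subgroup G} (X : Ctx L)
include X

/-- A conjugate of the central involution. -/
def IsZ (x : G) : Prop := ∃ h, h * X.z * h⁻¹ = x

/-- A conjugate of the central involution commuting with it and different from it. -/
def Near (t : G) : Prop := X.IsZ t ∧ t * X.z = X.z * t ∧ t ≠ X.z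

theorem isZ_z : X.IsZ X.z := ⟨1, by simp⟩

variable {X}

theorem IsZ.conj {x : G} (h : X.IsZ x) (g : G) : X.IsZ (g * x * g⁻¹) := by
  obtain ⟨k, rfl⟩ := h
  exact ⟨g * k, by group⟩

theorem IsZ.sq {x : G} (h : X.IsZ x) : x * x = 1 := by
  obtain ⟨k, rfl⟩ := h
  rw [show k * X.z * k⁻¹ * (k * X.z * k⁻¹) = k * (X.z * X.z) * k⁻¹ by group, X.z_sq]; group

theorem IsZ.ne_one {x : G} (h : X.IsZ x) : x ≠ 1 := by
  obtain ⟨k, rfl⟩ := h
  exact fun e => X.z_ne (conj_eq_one_iff.1 e)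

theorem Near.partner {t : G} (h : X.Near t) : ∃ g, g * t * g⁻¹ = X.z ∧ X.Near (g * X.z * g⁻¹) := by
  obtain ⟨⟨k, rfl⟩, hc, hne⟩ := h
  refine ⟨k⁻¹, by group, X.isZ_z.conj _, ?_, fun e => hne ?_⟩
  · calc k⁻¹ * X.z * k⁻¹⁻¹ * X.z = k⁻¹ * (X.z * (k * X.z * k⁻¹)) * k := by group
      _ = k⁻¹ * (k * X.z * k⁻¹ * X.z) * k := by rw [hc]
      _ = _ := by group
  · calc k * X.z * k⁻¹ = k * (k⁻¹ * X.z * k⁻¹⁻¹) * k⁻¹ := by rw [e]
      _ = X.z := by group

theorem Near.to_partner {t g : G} (hg : g * t * g⁻¹ = X.z) {x : G} (hx : x ∈ D3 X.z t) :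
    g * x * g⁻¹ ∈ D3 X.z (g * X.z * g⁻¹) := by
  have := D3_conj g hx
  rw [hg] at this
  rwa [D3_comm]

theorem Near.of_partner {t g : G} (hg : g * t * g⁻¹ = X.z) {y : G} (hy : y ∈ D3 X.z (g * X.z * g⁻¹)) :
    g⁻¹ * y * g ∈ D3 X.z t := by
  have := D3_conj g⁻¹ hy
  rw [inv_inv] at this
  rw [show g⁻¹ * (g * X.z * g⁻¹) * g = X.z by group, show g⁻¹ * X.z * g = t by rw [← hg]; group] at this
  rwa [D3_comm]

theorem Near.conj_rep {t l : G} {v : P240} (h : X.Near t) (hl : X.Rep l v) : X.Near (l * t * l⁻¹) := by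
  have hlz := X.z_comm hl.mem
  obtain ⟨ht, hc, hne⟩ := h
  refine ⟨ht.conj _, ?_, fun e => hne ?_⟩
  · have hiz : l⁻¹ * X.z = X.z * l⁻¹ := X.z_comm (inv_mem hl.mem)
    calc l * t * l⁻¹ * X.z = l * t * (l⁻¹ * X.z) := by group
      _ = l * (t * X.z) * l⁻¹ := by rw [hiz]; group
      _ = l * (X.z * t) * l⁻¹ := by rw [hc]
      _ = (l * X.z) * t * l⁻¹ := by group
      _ = _ := by rw [hlz]; group
  · calc t = l⁻¹ * (l * t * l⁻¹) * l := by group
      _ = l⁻¹ * (X.z * l) := by rw [e]; group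
      _ = X.z := by rw [← hlz, inv_mul_cancel_left]

theorem IsZ.of_fc {x y : G} {p q : P240} (hx : X.IsZ x) (hp : X.Rep x p) (hq : X.Rep y q) (hy : y * y = 1)
    (h : fc q = fc p) : X.IsZ y := by
  obtain ⟨c, hc, hfc, w, hw, e⟩ := conj_rp hp.mem_W (hp.sq hx.sq)
  obtain ⟨v, hv, e'⟩ := conj_cls hq.mem_W (hq.sq hy) hc (h.trans hfc)
  obtain ⟨l, hl⟩ := X.elt_exists (mul_mem (inv_mem hv) hw)
  have h1 := hl.ind.2 _ _ hp
  rw [show v⁻¹ * w * p * (v⁻¹ * w)⁻¹ = v⁻¹ * (w * p * w⁻¹) * v by group, e, ← e',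
    show v⁻¹ * (v * q * v⁻¹) * v = q by group] at h1
  exact h1.elt_eq hq ▸ hx.conj l

theorem Rep.fc_mem {x : G} {p : P240} (h : X.Rep x p) (h2 : x * x = 1) : fc p ∈ [240, 0, 60, 4, 24, 8] :=
  (fc_cases h.mem_W (h.sq h2)).2.1 h.mem_Pr

theorem Near.rep_fc {t : G} {p : P240} (h : X.Near t) (hp : X.Rep t p) :
    fc p = 60 ∨ fc p = 4 ∨ fc p = 24 ∨ fc p = 8 := by
  have hm := hp.fc_mem h.1.sq
  simp only [List.mem_cons, List.not_mem_nil, or_false] at hm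
  rcases hm with e | e | e | e | e | e
  · exact absurd (hp.elt_eq (fc_one hp.mem_W (hp.sq h.1.sq) e ▸ Rep.one)) h.1.ne_one
  · exact absurd (hp.elt_eq (fc_neg hp.mem_W (hp.sq h.1.sq) e ▸ X.z_rep)) h.2.2
  all_goals tauto

/-- The three kinds. -/
theorem Near.sort {t : G} (h : X.Near t) :
    (∃ p, X.Rep t p) ∨ (∃ w, X.Ind t w ∧ w * w = mneg) ∨
      (∃ w, X.Ind t w ∧ w * w = 1 ∧ (fc w = 126 ∨ fc w = 26)) := by
  obtain ⟨w, hw⟩ := X.ind_exists h.2.1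
  rcases hw.sq_cases h.1.sq with h2 | h2
  · obtain ⟨hmem, hiff⟩ := fc_cases hw.mem h2
    by_cases hP : w ∈ Pr
    · obtain ⟨p, hp, -⟩ := hw.inner h.1.sq hP h2
      exact Or.inl ⟨p, hp⟩
    · have hn : ∀ x p, X.Rep x p → X.Rep (t * x * t⁻¹) (mneg * w * p * (mneg * w)⁻¹) := fun x p hx => by
        have := hw.2 x p hx
        rwa [mul_inv_rev, show mneg * w * p * (w⁻¹ * mneg⁻¹) = mneg * (w * p * w⁻¹) * mneg⁻¹ by group,
          show mneg * (w * p * w⁻¹) * mneg⁻¹ = w * p * w⁻¹ from mul_inv_eq_iff_eq_mul.2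
            (comm_mneg (mul_mem (mul_mem hw.mem hx.mem_W) (inv_mem hw.mem))).symm]
      simp only [List.mem_cons, List.not_mem_nil, or_false] at hmem
      rcases hmem with e | e | e | e | e | e | e | e | e | e
      pick_goal 4; · exact Or.inr (Or.inr ⟨mneg * w, ⟨mul_mem mneg_mem hw.mem, hn⟩, mneg_sq_one hw.mem h2,
        Or.inl (by rw [fc_mneg hw.mem h2, e]; rfl)⟩)
      pick_goal 7; · exact Or.inr (Or.inr ⟨mneg * w, ⟨mul_mem mneg_mem hw.mem, hn⟩, mneg_sq_one hw.mem h2,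
        Or.inr (by rw [fc_mneg hw.mem h2, e]; rfl)⟩)
      pick_goal 3; · exact Or.inr (Or.inr ⟨w, hw, h2, Or.inl e⟩)
      pick_goal 5; · exact Or.inr (Or.inr ⟨w, hw, h2, Or.inr e⟩)
      all_goals exact absurd (hiff.2 (by simp [e])) hP
  · exact Or.inr (Or.inl ⟨w, hw, h2⟩)

theorem Near.norm_rep {t : G} {p : P240} (h : X.Near t) (hp : X.Rep t p) {c : ℕ} (hc : c < 10)
    (hf : fc p = [240, 0, 126, 2, 60, 4, 26, 6, 24, 8].getD c 0) : ∃ t', X.Near t' ∧ X.Rep t' (rp c) := by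
  obtain ⟨v, hv, e⟩ := conj_cls hp.mem_W (hp.sq h.1.sq) hc hf
  obtain ⟨l, hl⟩ := X.elt_exists hv
  exact ⟨_, h.conj_rep hl, e ▸ hl.ind.2 _ _ hp⟩

theorem Near.norm_ind {t : G} {w : P240} (h : X.Near t) (hw : X.Ind t w) (h2 : w * w = 1) {c : ℕ} (hc : c < 10)
    (hf : fc w = [240, 0, 126, 2, 60, 4, 26, 6, 24, 8].getD c 0) : ∃ t', X.Near t' ∧ X.Ind t' (rp c) := by
  obtain ⟨v, hv, e⟩ := conj_cls hw.mem h2 hc hf
  obtain ⟨l, hl⟩ := X.elt_exists hv
  exact ⟨_, h.conj_rep hl, e ▸ (hl.ind.mul hw).mul hl.inv.ind⟩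

theorem D3_mneg {t : G} {w : P240} (ht : X.Ind t w) (hz : X.z ∈ D3 X.z t) : mneg ∈ Dm w := by
  obtain ⟨p, hp, hr⟩ := D3_invol ht hz X.z_sq
  exact X.z_rep.uniq hr ▸ hp

end Ctx

end Cfsg.Lib.OEightStd
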