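import Cfsg.Agent.OEightStd.Inner

/-!
No conjugate of the central involution other than itself commutes with it, whatever it induces on the subgroup.
-/

set_option autoImplicit false
set_option maxRecDepth 100000
set_option linter.unusedSectionVars false
set_option linter.style.haveILetI false

namespace Cfsg.Lib.OEightStd

open Cfsg Subgroup

theorem NineW.conj {w q v : P240} (hv : v ∈ W) (h : NineW w q) : NineW (v * w * v⁻¹) (v * q * v⁻¹) := by
  obtain ⟨a, ha, b, hb, a3, b3, hab, haq, hbq, hall⟩ := h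
  refine ⟨_, Dm_conj hv ha, _, Dm_conj hv hb, ?_, ?_, conj_comm hab, conj_comm haq, conj_comm hbq, fun C hC => ?_⟩
  · rw [show v * a * v⁻¹ * (v * a * v⁻¹) * (v * a * v⁻¹) = v * (a * a * a) * v⁻¹ by group, a3]; group
  · rw [show v * b * v⁻¹ * (v * b * v⁻¹) * (v * b * v⁻¹) = v * (b * b * b) * v⁻¹ by group, b3]; group
  obtain ⟨c, hc, hCe⟩ : ∃ c ∈ [a, b, a * b, a * b * b], C = v * c * v⁻¹ := by
    simp only [List.mem_cons, List.not_mem_nil, or_false] at hC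
    rcases hC with e | e | e | e <;> rw [e]
    exacts [⟨a, by simp, rfl⟩, ⟨b, by simp, rfl⟩, ⟨a * b, by simp, by group⟩, ⟨a * b * b, by simp, by group⟩]
  obtain ⟨p, hp, p4, hne⟩ := hall c hc
  refine ⟨v * p * v⁻¹, Dm_conj hv hp, by rw [conj_pow, p4]; group, fun e => hne ?_⟩
  rw [hCe, show v * c * v⁻¹ * (v * p * v⁻¹) = v * (c * p) * v⁻¹ by group,
    show v * p * v⁻¹ * (v * c * v⁻¹) = v * (p * c) * v⁻¹ by group] at e
  exact mul_left_cancel (mul_right_cancel e)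

universe u
variable {G : Type u} [Group G] [Finite G]

/-- An involution generated by elements of order three commuting with a pair, commuting with nine of them. -/
structure Nine (a b x : G) : Prop where
  mem : x ∈ D3 a b
  sq : x * x = 1
  ne_one : x ≠ 1
  pairs : ∃ A ∈ D3 a b, ∃ B ∈ D3 a b, A * A * A = 1 ∧ B * B * B = 1 ∧ A * B = B * A ∧ A * x = x * A ∧ B * x = x * B ∧
    ∀ C ∈ [A, B, A * B, A * B * B], ∃ P ∈ D3 a b, P ^ 4 = 1 ∧ C * P ≠ P * C

theorem Nine.comm {a b x : G} (h : Nine a b x) : Nine b a x := by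
  obtain ⟨hm, hs, hne, hp⟩ := h
  rw [D3_comm] at hm hp
  exact ⟨hm, hs, hne, hp⟩

theorem Nine.conj {a b x : G} (g : G) (h : Nine a b x) : Nine (g * a * g⁻¹) (g * b * g⁻¹) (g * x * g⁻¹) := by
  obtain ⟨hm, hs, hne, A, hA, B, hB, A3, B3, hAB, hAx, hBx, hall⟩ := h
  have hc : ∀ {y y' : G}, y * y' = y' * y → g * y * g⁻¹ * (g * y' * g⁻¹) = g * y' * g⁻¹ * (g * y * g⁻¹) := by
    intro y y' e
    rw [show g * y * g⁻¹ * (g * y' * g⁻¹) = g * (y * y') * g⁻¹ by group, e]; group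
  refine ⟨D3_conj g hm, by rw [show g * x * g⁻¹ * (g * x * g⁻¹) = g * (x * x) * g⁻¹ by group, hs]; group,
    fun e => hne (conj_eq_one_iff.1 e), _, D3_conj g hA, _, D3_conj g hB, ?_, ?_, hc hAB, hc hAx, hc hBx,
    fun C hC => ?_⟩
  · rw [show g * A * g⁻¹ * (g * A * g⁻¹) * (g * A * g⁻¹) = g * (A * A * A) * g⁻¹ by group, A3]; group
  · rw [show g * B * g⁻¹ * (g * B * g⁻¹) * (g * B * g⁻¹) = g * (B * B * B) * g⁻¹ by group, B3]; group
  obtain ⟨C₀, hC₀, hCe⟩ : ∃ C₀ ∈ [A, B, A * B, A * B * B], C = g * C₀ * g⁻¹ := by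
    simp only [List.mem_cons, List.not_mem_nil, or_false] at hC
    rcases hC with e | e | e | e <;> rw [e]
    exacts [⟨A, by simp, rfl⟩, ⟨B, by simp, rfl⟩, ⟨A * B, by simp, by group⟩, ⟨A * B * B, by simp, by group⟩]
  obtain ⟨P, hP, P4, hne'⟩ := hall C₀ hC₀
  refine ⟨g * P * g⁻¹, D3_conj g hP, by rw [conj_pow, P4]; group, fun e => hne' ?_⟩
  rw [hCe, show g * C₀ * g⁻¹ * (g * P * g⁻¹) = g * (C₀ * P) * g⁻¹ by group,
    show g * P * g⁻¹ * (g * C₀ * g⁻¹) = g * (P * C₀) * g⁻¹ by group] at e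
  exact mul_left_cancel (mul_right_cancel e)

namespace Ctx

variable {L : Subgroup G} {X : Ctx L}

/-- No such element induces an outer involution with twenty-six fixed roots. -/
theorem dead_G {t : G} {w : P240} (h : X.Near t) (hw : X.Ind t w) (h2 : w * w = 1) : fc w ≠ 26 := by
  intro hf
  obtain ⟨t, h, hw⟩ := h.norm_ind hw h2 (c := 6) (by norm_num) hf
  obtain ⟨g, hg, hu⟩ := h.partner
  obtain ⟨x, hx, l, hl, x2, xne, hxl⟩ := witG
  obtain ⟨x₀, hX⟩ := X.elt_exists (Dm_le _ hx)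
  obtain ⟨l₀, hL⟩ := X.elt_exists hl
  have hcomm : x₀ = l₀ * (t * l₀⁻¹ * t⁻¹) := hX.elt_eq (hxl ▸ hL.mul (hw.2 _ _ hL.inv))
  have hXt : X.IsZ (x₀ * t) := by
    rw [hcomm, show l₀ * (t * l₀⁻¹ * t⁻¹) * t = l₀ * t * l₀⁻¹ by group]
    exact h.1.conj l₀
  have hX2 : x₀ * x₀ = 1 := (hX.mul hX).elt_eq (x2 ▸ Rep.one)
  have hx'2 : g * x₀ * g⁻¹ * (g * x₀ * g⁻¹) = 1 := by
    rw [show g * x₀ * g⁻¹ * (g * x₀ * g⁻¹) = g * (x₀ * x₀) * g⁻¹ by group, hX2]; group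
  obtain ⟨v, hv⟩ := X.ind_exists hu.2.1
  obtain ⟨r, -, hr⟩ := D3_invol hv (Near.to_partner hg (D3_lift hw hx hX)) hx'2
  have hO : X.IsZ (g * x₀ * g⁻¹ * X.z) := by
    have := hXt.conj g
    rwa [show g * (x₀ * t) * g⁻¹ = g * x₀ * g⁻¹ * (g * t * g⁻¹) by group, hg] at this
  by_cases he : g * x₀ * g⁻¹ * X.z = X.z
  · have h1 : x₀ = 1 := conj_eq_one_iff.1 (mul_eq_right.1 he)
    exact xne (hX.uniq (h1 ▸ (Rep.one (X := X))))
  · exact dead_inner ⟨hO, X.z_comm (hr.mul X.z_rep).mem, he⟩ (hr.mul X.z_rep)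

/-- Each such element induces a reflection. -/
theorem Near.refl {t : G} (h : X.Near t) : ∃ w, X.Ind t w ∧ w * w = 1 ∧ fc w = 126 := by
  rcases h.sort with ⟨p, hp⟩ | ⟨w, hw, hJ⟩ | ⟨w, hw, h2, hf | hf⟩
  · exact (dead_inner h hp).elim
  · exact (dead_J h hw hJ).elim
  · exact ⟨w, hw, h2, hf⟩
  · exact absurd hf (dead_G h hw h2)

theorem nine_ok' {v x : G} {w p : P240} {r : Fin 240} (hv : X.Near v) (hw : X.Ind v w) (w2 : w * w = 1)
    (wf : fc w = 126) (wr : w r = mneg r) (hx : X.Rep x p) (x2 : x * x = 1) (pf : fc p = 24) (pr : p r = r) :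
    Nine X.z v x ∧ ¬ X.IsZ (x * X.z * v) := by
  have p2 := hx.sq x2
  obtain ⟨h, hh, h8, hR⟩ := a_norm hx.mem_W p2 pf hw.mem w2 wf wr pr
  have hmem : p ∈ Dm w := by rw [← h8, ← hR]; exact Dm_conj hh self_Dm.2.2.2.2
  refine ⟨⟨D3_lift hw hmem hx, x2, fun e => ?_,
    nine_lift hw hx (h8 ▸ hR ▸ nine_wit.2.conj hh)⟩, fun hO => ?_⟩
  · rw [hx.uniq (e ▸ (Rep.one (X := X))), ← rp_zero, fc_rp (by norm_num)] at pf
    exact absurd pf (by decide)
  have hne : x * X.z * v ≠ X.z := fun e => dead_inner hv (p := p⁻¹) (by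
    rw [X.z_comm hx.mem, mul_assoc] at e
    have h1 : x * v = 1 := mul_eq_left.1 e
    rw [(inv_eq_of_mul_eq_one_right h1).symm]
    exact hx.inv)
  have hn : X.Near (x * X.z * v) := ⟨hO, by
    rw [mul_assoc (x * X.z), hv.2.1, ← mul_assoc, ← mul_assoc, ← X.z_comm (hx.mul X.z_rep).mem], hne⟩
  obtain ⟨k, hk, k2, kf⟩ := hn.refl
  obtain ⟨-, -, -, -, -, -, -, -, -, -, -, -, -, hfc, hcom⟩ := witF
  have hi : X.Ind (x * X.z * v) (mneg * (p * w)) := by
    have := (hx.mul X.z_rep).ind.mul hw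
    rwa [comm_mneg hx.mem_W, mul_assoc mneg] at this
  have hpw : p * w = w * p := by rw [← h8, ← hR]; exact conj_comm hcom
  have hpw2 : p * w * (p * w) = 1 := by
    rw [show p * w * (p * w) = p * (w * p) * w by group, ← hpw, show p * (p * w) * w = p * p * (w * w) by group,
      p2, w2, one_mul]
  have hpwW := mul_mem hx.mem_W hw.mem
  have hfpw : fc (p * w) = 26 ∨ fc (p * w) = 6 := by
    rw [← h8, ← hR, show h * rp 8 * h⁻¹ * (h * rR * h⁻¹) = h * (rp 8 * rR) * h⁻¹ by group, fc_conj]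
    simpa using hfc
  rcases hi.uniq hk with e | e <;> rw [e] at kf
  · rw [fc_mneg hpwW hpw2] at kf
    rcases hfpw with f | f <;> rw [f] at kf <;> exact absurd kf (by decide)
  · rw [← mul_assoc, mneg_sq, one_mul] at kf
    omega

theorem nine_use {v x : G} {w : P240} {r : Fin 240} (hv : X.Near v) (hw : X.Ind v w) (w2 : w * w = 1)
    (wf : fc w = 126) (hroot : ∀ s, w s = mneg s ↔ s ∈ pm [r]) (h : Nine X.z v x) :
    ∃ p, X.Rep x p ∧ p r = r ∧ (fc p = 24 ∨ fc p = 4 ∧ X.IsZ (x * X.z * v)) := by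
  obtain ⟨p, hp, hx⟩ := D3_invol hw h.mem h.sq
  have hfix : ∀ {l : P240}, l ∈ Dm w → l r = r := fun hl => Dm_fix hroot (by norm_num) hl r (by simp)
  have p2 := hx.sq h.sq
  obtain ⟨a, ha, b, hb, h9, hca, hcb⟩ := nine_proj hw hx h.pairs
  have haW := Pr_le (Dm_le _ ha)
  have hbW := Pr_le (Dm_le _ hb)
  refine ⟨p, hx, hfix hp, ?_⟩
  have hm := hx.fc_mem h.sq
  simp only [List.mem_cons, List.not_mem_nil, or_false] at hm
  rcases hm with e | e | e | e | e | e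
  · exact absurd (hx.elt_eq (fc_one hx.mem_W p2 e ▸ (Rep.one (X := X)))) h.ne_one
  · exact absurd (fc_neg hx.mem_W p2 e ▸ hp) (mneg_not_outer hw.mem w2 (Or.inl wf))
  · exact (nine_k2 hx.mem_W p2 e (hfix hp) haW hbW h9 hca hcb (hfix ha) (hfix hb)).elim
  · refine Or.inr ⟨e, ?_⟩
    obtain ⟨l, hl, hpl⟩ := k6_fix hx.mem_W p2 e hw.mem w2 wf ((hroot r).2 (mem_pm.2 (Or.inl (by simp)))) (hfix hp)
    obtain ⟨l₀, hL⟩ := X.elt_exists hl
    have hwi : w⁻¹ = w := inv_eq_of_mul_eq_one_left w2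
    have hc := hL.mul (hw.2 _ _ hL.inv)
    have hrep : X.Rep (X.z * (l₀ * (v * l₀⁻¹ * v⁻¹))) p := by
      have := X.z_rep.mul hc
      rw [hpl]
      rwa [hwi, show l * (w * l⁻¹ * w) = l * w * l⁻¹ * w by group] at this
    rw [hx.elt_eq hrep, ← X.z_comm hc.mem, mul_assoc _ X.z X.z, X.z_sq, mul_one,
      show l₀ * (v * l₀⁻¹ * v⁻¹) * v = l₀ * v * l₀⁻¹ by group]
    exact hv.1.conj l₀
  · exact Or.inl e
  · exact (nine_e hx.mem_W p2 e haW hbW h9 hca hcb).elim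

/-- The central involution is the only conjugate of itself commuting with it. -/
theorem dead {t : G} (h : X.Near t) : False := by
  obtain ⟨w₀, hw₀, w2, wf⟩ := h.refl
  obtain ⟨t, h, ht⟩ := h.norm_ind hw₀ w2 (c := 2) (by norm_num) wf
  obtain ⟨l, hl, q, hq, q2, qc2, qc1, qf, qA, qB, f8, hl2, -, -, -⟩ := witF
  obtain ⟨e0, -, c1, -, -, -, n1⟩ := qr_facts
  obtain ⟨l₀, hL⟩ := X.elt_exists hl
  obtain ⟨Q, hQ⟩ := X.elt_exists hq
  have hQ2 : Q * Q = 1 := (hQ.mul hQ).elt_eq (q2 ▸ Rep.one)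
  have r2i : (rp 2)⁻¹ = rp 2 := inv_eq_of_mul_eq_one_left (rp_sq (by norm_num))
  have hQt : Q * t = t * Q := ((ht.comm_iff hQ).2 qc2.symm).symm
  set t2 := l₀ * t * l₀⁻¹
  have h' : X.Near t2 := h.conj_rep hL
  have ht2 : X.Ind t2 (qr 1) := hl2 ▸ (hL.ind.mul ht).mul hL.inv.ind
  have hQt2 : Q * t2 = t2 * Q := ((ht2.comm_iff hQ).2 qc1.symm).symm
  have htt : X.Rep (t2 * t) (qr 1 * rp 2) := by
    have := hL.mul (ht.2 _ _ hL.inv)
    rw [r2i, show l * (rp 2 * l⁻¹ * rp 2) = l * rp 2 * l⁻¹ * rp 2 by group, hl2,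
      show l₀ * (t * l₀⁻¹ * t⁻¹) = t2 * t⁻¹ by simp only [t2]; group,
      inv_eq_of_mul_eq_one_left h.1.sq] at this
    exact this
  have hne : t2 ≠ t := fun e => by
    rw [e, h.1.sq] at htt
    rw [← (Rep.one).uniq htt, one_mul, qf] at f8
    exact absurd f8 (by decide)
  have htcomm : t2 * t = t * t2 := by
    obtain ⟨-, -, -, -, -, -, -, -, -, -, -, -, hq12, -, -⟩ := witF
    have hsq : t2 * t * (t2 * t) = 1 := (htt.mul htt).elt_eq (by
      rw [show qr 1 * rp 2 * (qr 1 * rp 2) = qr 1 * (rp 2 * qr 1) * rp 2 by group, ← hq12,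
        show qr 1 * (qr 1 * rp 2) * rp 2 = qr 1 * qr 1 * (rp 2 * rp 2) by group, rp_sq (by norm_num), mul_one,
        show qr 1 * qr 1 = 1 by
          rw [← hl2, show l * rp 2 * l⁻¹ * (l * rp 2 * l⁻¹) = l * (rp 2 * rp 2) * l⁻¹ by group, rp_sq (by norm_num)]
          group]
      exact Rep.one)
    calc t2 * t = (t2 * t)⁻¹ := (inv_eq_of_mul_eq_one_left hsq).symm
      _ = _ := by rw [mul_inv_rev, inv_eq_of_mul_eq_one_left h.1.sq, inv_eq_of_mul_eq_one_left h'.1.sq]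
  have rA2 : rp 2 rA = mneg rA := (neg_rp rA).1.2 (mem_pm.2 (Or.inl (by simp)))
  obtain ⟨n0, a0⟩ := nine_ok' h ht (rp_sq (by norm_num)) (fc_rp (by norm_num)) rA2 hQ hQ2 qf qA
  -- first transport
  obtain ⟨g, hg, hu⟩ := h.partner
  obtain ⟨wu, hwu, wu2, wuf⟩ := hu.refl
  obtain ⟨d, hd⟩ := refl_root hwu.mem wu2 wuf
  have hgi : g⁻¹ * X.z * g = t := by rw [← hg]; group
  have n1' : Nine X.z (g * X.z * g⁻¹) (g * Q * g⁻¹) := by
    have := n0.conj g
    rw [hg] at this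
    exact this.comm
  obtain ⟨p, hp, -, hp24⟩ := nine_use hu hwu wu2 wuf hd n1'
  replace hp24 : fc p = 24 := hp24.resolve_right fun e => a0 (by
    have := e.2.conj g⁻¹
    have hQzt : g⁻¹ * (g * Q * g⁻¹ * X.z * (g * X.z * g⁻¹)) * g⁻¹⁻¹ = Q * X.z * t := by
      rw [show g⁻¹ * (g * Q * g⁻¹ * X.z * (g * X.z * g⁻¹)) * g⁻¹⁻¹ = Q * ((g⁻¹ * X.z * g) * X.z) by group, hgi,
        h.2.1, ← mul_assoc]
    rwa [hQzt] at this)
  set v := g * t2 * g⁻¹
  have hvn : X.Near v := by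
    refine ⟨h'.1.conj g, ?_, fun e => hne ?_⟩
    · rw [← hg]; simp only [v]
      rw [show g * t2 * g⁻¹ * (g * t * g⁻¹) = g * (t2 * t) * g⁻¹ by group, htcomm]; group
    · rw [← hg] at e; exact mul_left_cancel (mul_right_cancel e)
  obtain ⟨wv, hwv, wv2, wvf⟩ := hvn.refl
  obtain ⟨c, hc⟩ := refl_root hwv.mem wv2 wvf
  have hwc : wv c = mneg c := (hc c).2 (mem_pm.2 (Or.inl (by simp)))
  have hcp : wv * p = p * wv := (hwv.comm_iff hp).1 (by
    simp only [v]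
    rw [show g * t2 * g⁻¹ * (g * Q * g⁻¹) = g * (t2 * Q) * g⁻¹ by group, ← hQt2]; group)
  have hp2 := hp.sq n1'.sq
  -- the element read from the first transport
  obtain ⟨Q0, hQ0, hQ0z, n2, a2⟩ : ∃ Q0, (Q0 = Q ∨ Q0 = t * Q) ∧ Q0 * X.z = X.z * Q0 ∧ Nine t t2 Q0 ∧
      ¬ X.IsZ (Q0 * t * t2) := by
    have hback : ∀ x, Nine X.z v x ∧ ¬ X.IsZ (x * X.z * v) →
        Nine t t2 (g⁻¹ * x * g) ∧ ¬ X.IsZ (g⁻¹ * x * g * t * t2) := by
      rintro x ⟨n, a⟩
      refine ⟨?_, fun hO => a ?_⟩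
      · have := n.conj g⁻¹
        rwa [inv_inv, hgi, show g⁻¹ * v * g = t2 by simp only [v]; group] at this
      · have := hO.conj g
        rwa [show g * (g⁻¹ * x * g * t * t2) * g⁻¹ = x * (g * t * g⁻¹) * v by simp only [v]; group, hg] at this
    rcases mem_pm_one.1 ((hc _).1 (keep_neg hp.mem_W hcp.symm hwc)) with e | e
    · refine ⟨Q, Or.inl rfl, X.z_comm hQ.mem, ?_⟩
      have := hback _ (nine_ok' hvn hwv wv2 wvf hwc hp n1'.sq hp24 e)
      rwa [show g⁻¹ * (g * Q * g⁻¹) * g = Q by group] at this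
    · refine ⟨t * Q, Or.inr rfl, by rw [mul_assoc, X.z_comm hQ.mem, ← mul_assoc, h.2.1, mul_assoc], ?_⟩
      have := hback _ (nine_ok' hvn hwv wv2 wvf hwc (X.z_rep.mul hp) (by
          rw [mul_assoc, ← mul_assoc (g * Q * g⁻¹), X.z_comm hp.mem, mul_assoc X.z (g * Q * g⁻¹), n1'.sq, mul_one,
            X.z_sq])
        (by rw [fc_mneg hp.mem_W hp2, hp24]; rfl) (by rw [Equiv.Perm.mul_apply, e, mneg_mneg]))
      rwa [show g⁻¹ * (X.z * (g * Q * g⁻¹)) * g = g⁻¹ * X.z * g * Q by group, hgi] at this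
  -- second transport
  obtain ⟨k, hk, ha⟩ := h'.partner
  have hki : k⁻¹ * X.z * k = t2 := by rw [← hk]; group
  set b := k * t * k⁻¹
  have hbn : X.Near b := by
    refine ⟨h.1.conj k, ?_, fun e => hne ?_⟩
    · rw [← hk]; simp only [b]
      rw [show k * t * k⁻¹ * (k * t2 * k⁻¹) = k * (t * t2) * k⁻¹ by group, ← htcomm]; group
    · rw [← hk] at e; exact (mul_left_cancel (mul_right_cancel e)).symm
  obtain ⟨wb, hwb, wb2, wbf⟩ := hbn.refl
  obtain ⟨e₁, he₁⟩ := refl_root hwb.mem wb2 wbf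
  have n3 : Nine X.z b (k * Q0 * k⁻¹) := by
    have := n2.conj k
    rw [hk] at this
    exact this.comm
  obtain ⟨p', hp', -, hp'24⟩ := nine_use hbn hwb wb2 wbf he₁ n3
  replace hp'24 : fc p' = 24 := hp'24.resolve_right fun e => a2 (by
    have := e.2.conj k⁻¹
    rwa [show k⁻¹ * (k * Q0 * k⁻¹ * X.z * b) * k⁻¹⁻¹ = Q0 * ((k⁻¹ * X.z * k) * t) by simp only [b]; group, hki,
      htcomm, ← mul_assoc] at this)
  set a := k * X.z * k⁻¹
  obtain ⟨wa, hwa, wa2, waf⟩ := ha.refl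
  obtain ⟨c', hc'⟩ := refl_root hwa.mem wa2 waf
  have hwc' : wa c' = mneg c' := (hc' c').2 (mem_pm.2 (Or.inl (by simp)))
  have hcp' : wa * p' = p' * wa := (hwa.comm_iff hp').1 (by
    simp only [a]
    rw [show k * X.z * k⁻¹ * (k * Q0 * k⁻¹) = k * (X.z * Q0) * k⁻¹ by group, ← hQ0z]; group)
  have hpull : ∀ x, Nine X.z a x → Nine X.z t2 (k⁻¹ * x * k) := fun x n => by
    have := n.conj k⁻¹
    rw [inv_inv, hki, show k⁻¹ * a * k = X.z by simp only [a]; group] at this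
    exact this.comm
  have hnotin : ∀ {Y : G} {y : P240}, X.Near Y → ∀ {Z' : G} {z' : P240}, X.Rep (Y * Z') y → X.Rep Z' z' → False :=
    fun hY _ _ h1 h2 => dead_inner hY (by have := h1.mul h2.inv; rwa [mul_inv_cancel_right] at this)
  rcases mem_pm_one.1 ((hc' _).1 (keep_neg hp'.mem_W hcp'.symm hwc')) with e | e
  · have n4 := hpull _ (nine_ok' ha hwa wa2 waf hwc' hp' n3.sq hp'24 e).1
    rw [show k⁻¹ * (k * Q0 * k⁻¹) * k = Q0 by group] at n4
    obtain ⟨r, hr, hr'⟩ := D3_invol ht2 n4.mem n4.sq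
    rcases hQ0 with rfl | rfl
    · have hfixB := Dm_fix n1 (by norm_num) hr rB (by simp)
      rw [hr'.uniq hQ, qB] at hfixB
      exact mneg_ne rB hfixB
    · exact hnotin h hr' hQ
  · have hp'2 := hp'.sq n3.sq
    have n4 := hpull _ (nine_ok' ha hwa wa2 waf hwc' (X.z_rep.mul hp') (by
        rw [mul_assoc, ← mul_assoc (k * Q0 * k⁻¹), X.z_comm hp'.mem, mul_assoc X.z (k * Q0 * k⁻¹), n3.sq, mul_one,
          X.z_sq])
      (by rw [fc_mneg hp'.mem_W hp'2, hp'24]; rfl) (by rw [Equiv.Perm.mul_apply, e, mneg_mneg])).1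
    rw [show k⁻¹ * (X.z * (k * Q0 * k⁻¹)) * k = k⁻¹ * X.z * k * Q0 by group, hki] at n4
    obtain ⟨r, hr, hr'⟩ := D3_invol ht2 n4.mem n4.sq
    rcases hQ0 with rfl | rfl
    · exact hnotin h' hr' hQ
    · rw [← mul_assoc] at hr'
      have er : r = qr 1 * rp 2 * q := hr'.uniq (htt.mul hQ)
      rw [← mul_assoc] at n4
      obtain ⟨a', ha', b', hb', h9, hca, hcb⟩ := nine_proj ht2 hr' n4.pairs
      exact nine_e hr'.mem_W (hr'.sq n4.sq) (er ▸ f8) (Pr_le (Dm_le _ ha')) (Pr_le (Dm_le _ hb')) h9 hca hcb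

/-- The central involution is isolated. -/
theorem isolated : IsIsolatedInvolution X.z :=
  ⟨X.orderOf_z, fun g hc => by
    by_contra hne
    exact dead ⟨⟨g, rfl⟩, hc.eq.symm, hne⟩⟩

/-- The subgroup is normal. -/
theorem normal (X : Ctx L) (hO : oddCore G = ⊥) : L.Normal := by
  have htop : normalizer (L : Set G) = ⊤ := by
    rw [← X.centralizer_z, eq_top_iff]
    intro g _
    rw [mem_centralizer_singleton_iff]
    have h := Cfsg.Lib.ZStarApps.zstarProp X.isolated g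
    rw [show pPrimeCore 2 G = ⊥ from hO, mem_bot, mul_inv_eq_one, mul_inv_eq_iff_eq_mul] at h
    exact h.symm
  exact normalizer_eq_top_iff.mp htop

end Ctx

end Cfsg.Lib.OEightStd
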