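import Cfsg.Agent.OEightStd.Dm

/-!
Reflections, and the elements commuting with an involution, on the roots fixed or negated by it.
-/

set_option autoImplicit false
set_option maxRecDepth 100000
set_option linter.style.haveILetI false

namespace Cfsg.Lib.OEightStd

open Cfsg.Lib.PermCert Cfsg.Lib.CosetCert

/-- A reflection of the chain. -/
def qr (i : ℕ) : P240 := pel (quadRefl.getD i ([], (0, 0)))

theorem quadRefl_len : quadRefl.length = 4 := by decide +kernel

theorem qr_ok {i : ℕ} (hi : i < 4) : elOK (quadRefl.getD i ([], (0, 0))) = true := quadRefl_ok (quadRefl_len ▸ hi)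

theorem qr_mem {i : ℕ} (hi : i < 4) : qr i ∈ W := pel_mem (qr_ok hi)

theorem qr_facts : qr 0 = rp 2 ∧ rp 4 = qr 0 * qr 1 ∧ fc (qr 1) = 126 ∧ fc (qr 2) = 126 ∧
    fc (qr 2 * rp 4) = 26 ∧ (∀ r, qr 2 r = mneg r ↔ r ∈ pm [rC]) ∧ (∀ r, qr 1 r = mneg r ↔ r ∈ pm [rB]) := by
  obtain ⟨e4, -, e2, c1, c2, -, c26, n2, -⟩ := refl_facts
  obtain ⟨-, -, -, -, -, -, -, -, n1, -⟩ := roots_ok'
  obtain ⟨vA, vB, vC, vD⟩ := root_val
  have o : ∀ {i}, i < 4 → AllOK [quadRefl.getD i ([], (0, 0))] := fun hi => allOK_cons (qr_ok hi) allOK_nil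
  refine ⟨?_, ?_, ?_, ?_, ?_, fun r => neg_iff (qr_ok (by norm_num)) (by simp [vC]) n2 r,
    fun r => neg_iff (qr_ok (by norm_num)) (by simp [vB]) n1 r⟩
  · have := (eqB_iff (allOK_cons (rpE_ok (by norm_num)) allOK_nil) (o (by norm_num))).1 e2
    rw [prodE_one, prodE_one, pel_rpE] at this
    exact this.symm
  · have := (eqB_iff (allOK_cons (rpE_ok (by norm_num)) allOK_nil)
      (allOK_cons (qr_ok (by norm_num)) (o (by norm_num)))).1 e4
    rwa [prodE_one, prodE_cons, prodE_one, pel_rpE] at this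
  · rw [qr, ← prodE_one, fc_prodE (o (by norm_num)), c1]
  · rw [qr, ← prodE_one, fc_prodE (o (by norm_num)), c2]
  · rw [← pel_rpE, qr, ← prodE_one (rpE 4), ← prodE_cons,
      fc_prodE (allOK_cons (qr_ok (by norm_num)) (allOK_cons (rpE_ok (by norm_num)) allOK_nil)), c26]

theorem mem_pm_one {a r : Fin 240} : r ∈ pm [a] ↔ r = a ∨ r = mneg a := by
  rw [mem_pm, List.mem_singleton, List.mem_singleton]
  refine or_congr_right ⟨fun h => ?_, fun h => ?_⟩
  · rw [← h, ← Equiv.Perm.mul_apply, mneg_sq, Equiv.Perm.one_apply]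
  · rw [h, ← Equiv.Perm.mul_apply, mneg_sq, Equiv.Perm.one_apply]

theorem neg_conj {v : P240} (hv : v ∈ W) {x : P240} {a : Fin 240} (h : x a = mneg a) :
    (v * x * v⁻¹) (v a) = mneg (v a) := by
  simp only [Equiv.Perm.mul_apply, Equiv.Perm.coe_inv, Equiv.symm_apply_apply, h]
  rw [← Equiv.Perm.mul_apply, comm_mneg hv, Equiv.Perm.mul_apply]

/-- A fixed root is at right angles to a negated one. -/
theorem fixed_orth {u : P240} (hu : u ∈ W) {a r : Fin 240} (ha : u a = mneg a) (hr : u r = r) :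
    orth a.val r.val = true := by
  have h1 : acute r.val (mneg a).val = acute r.val a.val := by
    conv_rhs => rw [← acute_map hu r a, hr, ha]
  rw [mneg_apply] at h1
  have hno : ¬ (acute r.val a.val = true) := by
    intro h
    have h3 := (OEightCover.negF_facts r).2.2 a h
    have hn : (OEightCover.negF a).val = ng a.val := by
      have := beq_iff_eq.1 (List.all_eq_true.1 neg_ok.2.1 a.val (List.mem_range.2 a.isLt))
      exact this.symm
    rw [hn] at h3
    rw [← h1, acute] at h
    rw [h3] at h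
    exact Bool.noConfusion h
  have hne : r ≠ a := fun e => mneg_ne a (by rw [← ha, ← e, hr])
  have hne' : r ≠ mneg a := fun e => by
    have hu' : u (mneg a) = a := by
      rw [← Equiv.Perm.mul_apply, comm_mneg hu, Equiv.Perm.mul_apply, ha, ← Equiv.Perm.mul_apply, mneg_sq,
        Equiv.Perm.one_apply]
    rw [← e, hr, e] at hu'
    exact mneg_ne a hu'
  simp only [orth, h1, Bool.and_eq_true, Bool.not_eq_true', bne_iff_ne]
  refine ⟨⟨⟨Bool.eq_false_iff.2 hno, Bool.eq_false_iff.2 hno⟩, fun e => hne (Fin.ext e)⟩, fun e => hne' (Fin.ext ?_)⟩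
  rw [mneg_apply]; exact e

/-- The fixed roots fill the roots at right angles when their number says so. -/
theorem fix_of_count {u : P240} {P : ℕ → Bool} (hsub : ∀ r : Fin 240, u r = r → P r.val = true)
    (hc : ((List.range 240).filter P).length ≤ fc u) {r : Fin 240} (hr : P r.val = true) : u r = r := by
  have hs : ((List.range 240).filter fun q => (u (Fin.ofNat 240 q)).val == q).toFinset ⊆
      ((List.range 240).filter P).toFinset := by
    intro q hq
    simp only [List.mem_toFinset, List.mem_filter, List.mem_range, beq_iff_eq] at hq ⊢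
    refine ⟨hq.1, ?_⟩
    have e : (Fin.ofNat 240 q).val = q := Nat.mod_eq_of_lt hq.1
    have := hsub (Fin.ofNat 240 q) (Fin.ext (hq.2.trans e.symm))
    rwa [e] at this
  have hn : ∀ Q : ℕ → Bool, ((List.range 240).filter Q).toFinset.card = ((List.range 240).filter Q).length :=
    fun Q => List.toFinset_card_of_nodup (List.nodup_range.filter _)
  have he := Finset.eq_of_subset_of_card_le hs (by rw [hn, hn]; exact hc)
  have hm : r.val ∈ ((List.range 240).filter P).toFinset := by
    rw [List.mem_toFinset, List.mem_filter, List.mem_range]; exact ⟨r.isLt, hr⟩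
  rw [← he, List.mem_toFinset, List.mem_filter, beq_iff_eq] at hm
  have := hm.2
  rw [show Fin.ofNat 240 r.val = r from Fin.ext (Nat.mod_eq_of_lt r.isLt)] at this
  exact Fin.ext this

theorem rp_sq {c : ℕ} (hc : c < 10) : rp c * rp c = 1 := by
  have h := List.all_eq_true.1 rp_sq_ok c (List.mem_range.2 hc)
  have := (eqB_iff (allOK_cons (rpE_ok (by omega)) (allOK_cons (rpE_ok (by omega)) allOK_nil)) allOK_nil).1 h
  rwa [prodE_cons, prodE_one, pel_rpE] at this

theorem orth_BCD : orth rootA rootB = true ∧ orth rootA rootC = true ∧ orth rootA rootD = true := by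
  decide +kernel

theorem refl_base {u : P240} (hu : u ∈ W) (hfc : fc u = 126) (ha : u rA = mneg rA) : u = rp 2 := by
  obtain ⟨vA, vB, vC, vD⟩ := root_val
  obtain ⟨-, -, -, c1, -⟩ := chain_ok'
  have fixo : ∀ {x : P240}, x ∈ W → fc x = 126 → x rA = mneg rA → ∀ r : Fin 240, orth rootA r.val = true → x r = r := by
    intro x hx hfx hxa r hr
    refine fix_of_count (P := fun q => orth rootA q) (fun r hr => ?_) (by rw [hfx, c1]) hr
    rw [← vA]; exact fixed_orth hx hxa hr
  have hr2 : rp 2 ∈ W ∧ fc (rp 2) = 126 ∧ rp 2 rA = mneg rA :=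
    ⟨(rp_spec (by norm_num)).2, fc_rp (by norm_num), (neg_rp rA).1.2 (mem_pm.2 (Or.inl (by simp)))⟩
  have hfix : ∀ r : Fin 240, (r = rA ∨ orth rootA r.val = true) → (u * rp 2) r = r := by
    intro r hr
    rw [Equiv.Perm.mul_apply]
    rcases hr with rfl | hr
    · rw [hr2.2.2, ← Equiv.Perm.mul_apply, comm_mneg hu, Equiv.Perm.mul_apply, ha, ← Equiv.Perm.mul_apply, mneg_sq,
        Equiv.Perm.one_apply]
    · rw [fixo hr2.1 hr2.2.1 hr2.2.2 r hr, fixo hu hfc ha r hr]
  obtain ⟨oB, oC, oD⟩ := orth_BCD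
  obtain ⟨i, hi, he, -⟩ := fix_quad (w := u * rp 2) ⟨mul_mem hu hr2.1, fun r hr => hfix r (by
    simp only [List.mem_cons, List.not_mem_nil, or_false] at hr
    rcases hr with rfl | rfl | rfl | rfl
    · exact Or.inr (vD ▸ oD)
    · exact Or.inr (vC ▸ oC)
    · exact Or.inr (vB ▸ oB)
    · exact Or.inl rfl)⟩
  have hq : quad.getD i ([], (0, 0)) ∈ quad := by
    rw [List.getD_eq_getElem _ _ (quad_ok.1.symm ▸ hi)]; exact List.getElem_mem _
  have ho : AllOK [quad.getD i ([], (0, 0))] := allOK_cons (stab_ok.2.2.2.1 _ hq) allOK_nil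
  obtain ⟨-, -, -, -, -, -, -, -, hmove⟩ := refl_facts
  have h := List.all_eq_true.1 hmove i (List.mem_range.2 hi)
  have h1 : u * rp 2 = 1 := by
    cases hb : eqB [quad.getD i ([], (0, 0))] []
    · rw [hb, Bool.false_or, List.any_eq_true] at h
      obtain ⟨r, hr, hh⟩ := h
      simp only [Bool.and_eq_true, bne_iff_ne] at hh
      refine absurd ?_ hh.2
      have := congrArg Fin.val (hfix ⟨r, List.mem_range.1 hr⟩ (Or.inr hh.1))
      rwa [he, ← prodE_one, prodE_apply ho] at this
    · rw [he, ← prodE_one, (eqB_iff ho allOK_nil).1 hb]; rfl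
  have h22 : rp 2 * rp 2 = 1 := rp_sq (by norm_num)
  calc u = u * rp 2 * rp 2 := by rw [mul_assoc, h22, mul_one]
    _ = rp 2 := by rw [h1, one_mul]

/-- A reflection is determined by a root it negates. -/
theorem refl_unique {x y : P240} (hx : x ∈ W) (hy : y ∈ W) (hx2 : x * x = 1) (hxf : fc x = 126) (hyf : fc y = 126)
    {g : Fin 240} (hxg : x g = mneg g) (hyg : y g = mneg g) : x = y := by
  obtain ⟨v, hv, e⟩ := conj_cls hx hx2 (show 2 < 10 by norm_num) hxf
  have hvW := Pr_le hv
  have hg : v g ∈ pm [rA] := (neg_rp _).1.1 (e ▸ neg_conj hvW hxg)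
  have hy' : (v * y * v⁻¹) rA = mneg rA := by
    rcases mem_pm_one.1 hg with h | h
    · rw [← h]; exact neg_conj hvW hyg
    · have := neg_conj hvW (show y (mneg g) = mneg (mneg g) by
        rw [← Equiv.Perm.mul_apply, comm_mneg hy, Equiv.Perm.mul_apply, hyg])
      have e2 : v (mneg g) = rA := by
        rw [← Equiv.Perm.mul_apply, comm_mneg hvW, Equiv.Perm.mul_apply, h, ← Equiv.Perm.mul_apply, mneg_sq,
          Equiv.Perm.one_apply]
      rwa [e2] at this
  have := refl_base (mul_mem (mul_mem hvW hy) (inv_mem hvW)) (by rw [fc_conj, hyf]) hy'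
  rw [← e] at this
  exact (mul_left_cancel (mul_right_cancel this)).symm

/-- A reflection negates exactly one pair of roots. -/
theorem refl_root {x : P240} (hx : x ∈ W) (h2 : x * x = 1) (hf : fc x = 126) :
    ∃ g, ∀ r, x r = mneg r ↔ r ∈ pm [g] := by
  obtain ⟨v, hv, e⟩ := conj_cls hx h2 (show 2 < 10 by norm_num) hf
  have hvW := Pr_le hv
  refine ⟨v⁻¹ rA, fun r => ?_⟩
  have h1 : x r = mneg r ↔ rp 2 (v r) = mneg (v r) := by
    constructor
    · exact fun h => e ▸ neg_conj hvW h
    · intro h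
      have := neg_conj (inv_mem hvW) h
      rw [← e, Equiv.Perm.coe_inv, Equiv.symm_apply_apply] at this
      simpa [mul_assoc] using this
  rw [h1, (neg_rp _).1, mem_pm_one, mem_pm_one]
  refine or_congr ⟨fun h => ?_, fun h => ?_⟩ ⟨fun h => ?_, fun h => ?_⟩
  · rw [← h, Equiv.Perm.coe_inv, Equiv.symm_apply_apply]
  · rw [h, Equiv.Perm.coe_inv, Equiv.apply_symm_apply]
  · rw [← Equiv.Perm.mul_apply, ← comm_mneg (inv_mem hvW), Equiv.Perm.mul_apply, ← h, Equiv.Perm.coe_inv,
      Equiv.symm_apply_apply]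
  · rw [h, ← Equiv.Perm.mul_apply, comm_mneg hvW, Equiv.Perm.mul_apply, Equiv.Perm.coe_inv, Equiv.apply_symm_apply]

/-- The roots fixed by the representative with sixty fixed roots form one orbit. -/
theorem k2_orbit {g : Fin 240} (hg : rp 4 g = g) :
    ∃ h ∈ W, h * rp 4 = rp 4 * h ∧ h rA = rA ∧ h rB = rB ∧ h rC = g := by
  obtain ⟨vA, vB, vC, vD⟩ := root_val
  obtain ⟨-, l2, -, -, c2, -, oAC, oBC⟩ := chain_ok'
  have h4W := (rp_spec (show 4 < 11 by norm_num)).2
  have hA : rp 4 rA = mneg rA := (neg_rp rA).2.1.2 (mem_pm.2 (Or.inl (by simp)))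
  have hB : rp 4 rB = mneg rB := (neg_rp rB).2.1.2 (mem_pm.2 (Or.inl (by simp)))
  have ho : (orth rootA g.val && orth rootB g.val) = true := by
    rw [Bool.and_eq_true, ← vA, ← vB]
    exact ⟨fixed_orth h4W hA hg, fixed_orth h4W hB hg⟩
  have hg2 := stab_ok.2.1
  obtain ⟨-, hs⟩ := orbit_level (fixed := [rA, rB]) (x₀ := rC) hg2 (by simpa [vA, vB, vC] using l2)
  simp only [levelOK, Bool.and_eq_true, decide_eq_true_eq] at l2
  set H := Subgroup.closure {p | ∃ e ∈ stab2, pel e = p}
  have hHc : ∀ h ∈ H, h ∈ fixS [rA, rB] ∧ h * rp 4 = rp 4 * h := by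
    intro h hh
    induction hh using Subgroup.closure_induction with
    | mem _ hm =>
      obtain ⟨e, he, rfl⟩ := hm
      have ok := hg2 e he
      refine ⟨⟨pel_mem ok, fun r hr => Fin.ext ?_⟩, ?_⟩
      · rw [← prodE_one, prodE_apply (allOK_cons ok allOK_nil)]
        refine beq_iff_eq.1 (List.all_eq_true.1 (List.all_eq_true.1 l2.1.1 e he) r.val ?_)
        simp only [List.mem_cons, List.not_mem_nil, or_false] at hr ⊢
        rcases hr with rfl | rfl <;> simp [vA, vB]
      · have := (eqB_iff (allOK_cons ok (allOK_cons (rpE_ok (by norm_num)) allOK_nil))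
          (allOK_cons (rpE_ok (by norm_num)) (allOK_cons ok allOK_nil))).1 (List.all_eq_true.1 refl_facts.2.1 e he)
        simpa [prodE, pel_rpE] using this
    | one => exact ⟨one_mem _, by simp⟩
    | mul a b _ _ ha hb => exact ⟨mul_mem ha.1 hb.1, by rw [mul_assoc, hb.2, ← mul_assoc, ha.2, mul_assoc]⟩
    | inv a _ ha => exact ⟨inv_mem ha.1, by
        rw [← mul_left_inj a, inv_mul_cancel_right, mul_assoc, ← ha.2, ← mul_assoc, inv_mul_cancel, one_mul]⟩
  set T := (List.range 240).filter fun r => (spreadE stab2 orb2 [rootC]).contains r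
  have hTsub : T.toFinset ⊆ ((List.range 240).filter fun r => orth rootA r && orth rootB r).toFinset := by
    intro r hr
    simp only [T, List.mem_toFinset, List.mem_filter] at hr ⊢
    refine ⟨hr.1, ?_⟩
    obtain ⟨w, hw, hwr⟩ := hs r (by rw [vC]; exact List.contains_iff_mem.1 hr.2)
    have hwf := (hHc w hw).1
    have a := acute_comm_neg hwf.1 rA rC
    have b := acute_comm_neg hwf.1 rB rC
    rw [hwf.2 rA (by simp), vA, hwr, vC, oAC] at a
    rw [hwf.2 rB (by simp), vB, hwr, vC, oBC] at b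
    rw [a, b]
    rfl
  have he := Finset.eq_of_subset_of_card_le hTsub (by
    rw [List.toFinset_card_of_nodup (List.nodup_range.filter _),
      List.toFinset_card_of_nodup (List.nodup_range.filter _), c2]
    exact l2.2)
  have hm : g.val ∈ ((List.range 240).filter fun r => orth rootA r && orth rootB r).toFinset := by
    rw [List.mem_toFinset, List.mem_filter, List.mem_range]; exact ⟨g.isLt, ho⟩
  rw [← he, List.mem_toFinset, List.mem_filter] at hm
  obtain ⟨w, hw, hwg⟩ := hs g.val (by rw [vC]; exact List.contains_iff_mem.1 hm.2)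
  obtain ⟨hf, hc⟩ := hHc w hw
  exact ⟨w, hf.1, hc, hf.2 rA (by simp), hf.2 rB (by simp), Fin.ext hwg⟩

end Cfsg.Lib.OEightStd
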