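import Cfsg.Agent.OEightStd.Group
import Cfsg.Agent.OEightStd.SylowChecks

/-!
A Sylow subgroup for the prime two of the group of the root system, as the set of its normal forms.
-/

set_option autoImplicit false
set_option maxRecDepth 100000
set_option linter.style.haveILetI false

namespace Cfsg.Lib.OEightStd

open Cfsg.Lib.PermCert Cfsg.Lib.CosetCert

/-- A generator as a permutation. -/
def pg (k : ℕ) : P240 := perm 240 (pcT k)

theorem pg_spec {k : ℕ} (hk : k < 14) : valid 240 (pcT k) = true ∧ pg k ∈ W := by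
  obtain ⟨hlen, hall⟩ := pcs_ok
  have h := el_spec (List.all_eq_true.1 hall _ (List.getElem_mem (hlen.symm ▸ hk : k < pcs.length)))
  rw [pg, pcT, List.getD_eq_getElem _ _ (hlen.symm ▸ hk : k < pcs.length)]
  exact ⟨h.1, h.2.2⟩

/-- The product named by digits, the lowest acting first. -/
def prodGo : List P240 → ℕ → P240 → P240
  | [], _, y => y
  | g :: r, e, y => prodGo r (e / 2) (bif e % 2 == 1 then g * y else y)

/-- The element with the given digits. -/
def se (e : ℕ) : P240 := prodGo ((List.range 14).map pg) e 1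

theorem prodGo_mul : ∀ (L : List P240) (e : ℕ) (y : P240), prodGo L e y = prodGo L e 1 * y
  | [], _, y => (one_mul y).symm
  | g :: r, e, y => by
    rw [prodGo, prodGo, prodGo_mul r _ (bif _ then _ else y), prodGo_mul r _ (bif _ then g * 1 else 1)]
    cases e % 2 == 1 <;> simp [mul_assoc]

theorem prodGo_append : ∀ (L M : List P240) (e : ℕ) (y : P240),
    prodGo (L ++ M) e y = prodGo M (e / 2 ^ L.length) (prodGo L e y)
  | [], _, _, _ => by simp [prodGo]
  | g :: r, M, e, y => by
    rw [List.cons_append, prodGo, prodGo, prodGo_append r M, Nat.div_div_eq_div_mul, List.length_cons, pow_succ']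

theorem prodGo_mod : ∀ (L : List P240) (e : ℕ) (y : P240), prodGo L (e % 2 ^ L.length) y = prodGo L e y
  | [], _, _ => rfl
  | g :: r, e, y => by
    have h1 : e % 2 ^ (g :: r).length % 2 = e % 2 :=
      Nat.mod_mod_of_dvd _ (dvd_pow_self 2 (by simp))
    have h2 : e % 2 ^ (g :: r).length / 2 = e / 2 % 2 ^ r.length := by
      rw [List.length_cons, pow_succ', Nat.mod_mul_right_div_self]
    rw [prodGo, prodGo, h1, h2, prodGo_mod r]

/-- The products over the first generators. -/
def seLow (j e : ℕ) : P240 := prodGo ((List.range j).map pg) e 1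

theorem seLow_zero (j : ℕ) : seLow j 0 = 1 := by
  unfold seLow
  induction ((List.range j).map pg) with
  | nil => rfl
  | cons g r ih => simpa [prodGo] using ih

theorem seLow_succ (j e : ℕ) : seLow (j + 1) e = (bif (e / 2 ^ j) % 2 == 1 then pg j else 1) * seLow j e := by
  unfold seLow
  rw [List.range_succ, List.map_append, prodGo_append, List.length_map, List.length_range]
  simp only [List.map_cons, List.map_nil, prodGo]
  cases e / 2 ^ j % 2 == 1 <;> simp

theorem se_eq : se = seLow 14 := rfl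

theorem seLow_lt {j e : ℕ} (h : e < 2 ^ j) : seLow (j + 1) e = seLow j e := by
  rw [seLow_succ, Nat.div_eq_of_lt h]; simp

theorem seLow_add {j e : ℕ} (h : e < 2 ^ j) : seLow (j + 1) (2 ^ j + e) = pg j * seLow j e := by
  rw [seLow_succ, Nat.add_div_left _ (Nat.two_pow_pos j), Nat.div_eq_of_lt h]
  have : seLow j (2 ^ j + e) = seLow j e := by
    unfold seLow
    rw [← prodGo_mod _ (2 ^ j + e), List.length_map, List.length_range, Nat.add_mod_left, Nat.mod_eq_of_lt h]
  simp [this]

theorem seLow_mem {j : ℕ} (hj : j ≤ 14) (e : ℕ) : seLow j e ∈ W := by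
  induction j with
  | zero => exact one_mem W
  | succ j ih =>
    rw [seLow_succ]
    refine mul_mem ?_ (ih (by omega))
    cases e / 2 ^ j % 2 == 1
    · exact one_mem W
    · exact (pg_spec (by omega)).2

theorem se_mem (e : ℕ) : se e ∈ W := se_eq ▸ seLow_mem le_rfl e

theorem evGo_apply : ∀ (L : List ℕ), (∀ k ∈ L, k < 14) → ∀ (e : ℕ) (y : P240) (x : Fin 240),
    (prodGo (L.map pg) e y x).val = evGo (L.map fun k => (pcT k).1) e (y x).val
  | [], _, _, _, _ => rfl
  | k :: r, h, e, y, x => by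
    rw [List.map_cons, List.map_cons, prodGo, evGo, evGo_apply r (fun a ha => h a (List.mem_cons_of_mem _ ha))]
    cases e % 2 == 1
    · rfl
    · simp only [cond_true, Equiv.Perm.mul_apply, pg, perm_apply (pg_spec (h k List.mem_cons_self)).1]

theorem pcTabs_eq : pcTabs = (List.range 14).map fun k => (pcT k).1 := by decide +kernel

theorem se_apply (e : ℕ) (x : Fin 240) : (se e x).val = evS e x.val := by
  rw [se, evGo_apply _ (fun k hk => List.mem_range.1 hk), evS, pcTabs_eq]
  rfl

theorem onBase_iff {f g : ℕ → ℕ} : onBase f g = true ↔ ∀ k, f (sp k).val = g (sp k).val := by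
  simp only [onBase, List.all_eq_true, beq_iff_eq]
  refine ⟨fun h k => h _ ?_, fun h s hs => ?_⟩
  · have hk : k.val < simp.length := k.isLt
    simp only [sp, List.getD_eq_getElem _ _ hk]
    exact List.getElem_mem _
  · obtain ⟨k, rfl⟩ := mem_simp hs
    exact h k

theorem seLow_apply {j e : ℕ} (hj : j ≤ 14) (he : e < 2 ^ j) : seLow j e = se e := by
  rw [se_eq]
  induction hj using Nat.decreasingInduction with
  | self => rfl
  | of_succ k hk ih => rw [← seLow_lt he, ih (he.trans_le (Nat.pow_le_pow_right (by norm_num) (Nat.le_succ k)))]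

theorem eq_se {w : P240} (hw : w ∈ W) {e : ℕ} {f : ℕ → ℕ} (hf : ∀ x : Fin 240, (w x).val = f x.val)
    (h : onBase f (evS e) = true) : w = se e :=
  ext8 hw (se_mem e) fun k => Fin.ext (by rw [hf, se_apply, onBase_iff.1 h k])

theorem pg_apply {j : ℕ} (hj : j < 14) (x : Fin 240) :
    (pg j x).val = ap (pcT j).1 x.val ∧ ((pg j)⁻¹ x).val = ap (pcT j).2 x.val := by
  have hv := (pg_spec hj).1
  refine ⟨by rw [pg, perm_apply hv], ?_⟩
  rw [pg, ← perm_pinv hv, perm_apply (valid_pinv hv)]
  rfl

theorem rules {j : ℕ} (hj : j < 14) :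
    (∃ c < 2 ^ j, pg j * pg j = seLow j c) ∧ ∀ i < j, ∃ c < 2 ^ j, pg j * pg i * (pg j)⁻¹ = seLow j c := by
  have h := List.all_eq_true.1 pc_rules j (List.mem_range.2 hj)
  simp only [Bool.and_eq_true, List.all_eq_true, decide_eq_true_eq, List.mem_range] at h
  obtain ⟨⟨h1, h2⟩, h3⟩ := h
  obtain ⟨-, hW⟩ := pg_spec hj
  refine ⟨⟨_, h1, ?_⟩, fun i hi => ⟨_, (h3 i hi).1, ?_⟩⟩
  · rw [seLow_apply (by omega) h1]
    exact eq_se (mul_mem hW hW) (fun x => by rw [Equiv.Perm.mul_apply, (pg_apply hj _).1, (pg_apply hj _).1]) h2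
  · rw [seLow_apply (by omega) (h3 i hi).1]
    exact eq_se (mul_mem (mul_mem hW (pg_spec (by omega)).2) (inv_mem hW)) (fun x => by
      rw [Equiv.Perm.mul_apply, Equiv.Perm.mul_apply, (pg_apply hj _).1, (pg_apply (by omega) _).1,
        (pg_apply hj _).2]) (h3 i hi).2

/-- The group on the first generators. -/
def Sj (j : ℕ) : Subgroup P240 := Subgroup.closure {x | ∃ i < j, pg i = x}

theorem seLow_mem_Sj : ∀ (j e : ℕ), seLow j e ∈ Sj j
  | 0, _ => one_mem _
  | j + 1, e => by
    rw [seLow_succ]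
    have hsub : Sj j ≤ Sj (j + 1) :=
      Subgroup.closure_mono fun x (hx : ∃ i < j, pg i = x) =>
        hx.imp fun i hi => ⟨Nat.lt_succ_of_lt hi.1, hi.2⟩
    refine mul_mem ?_ (hsub (seLow_mem_Sj j e))
    cases e / 2 ^ j % 2 == 1
    · exact one_mem _
    · exact Subgroup.subset_closure ⟨j, by omega, rfl⟩

/-- Every element is a product in normal form and the order is a power of two. -/
theorem Sj_spec : ∀ {j : ℕ}, j ≤ 14 →
    (∀ g ∈ Sj j, ∃ e < 2 ^ j, seLow j e = g) ∧ ∀ a < 2 ^ j, ∀ b < 2 ^ j, seLow j a = seLow j b → a = b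
  | 0, _ => by
    refine ⟨fun g hg => ⟨0, by norm_num, ?_⟩, fun a ha b hb _ => by omega⟩
    have : Sj 0 = ⊥ := by
      rw [Sj, Subgroup.closure_eq_bot_iff]
      rintro x ⟨i, hi, -⟩
      omega
    rw [this, Subgroup.mem_bot] at hg
    rw [hg, seLow_zero]
  | j + 1, hj => by
    obtain ⟨hsurj, hinj⟩ := Sj_spec (show j ≤ 14 by omega)
    obtain ⟨⟨c2, -, hsq⟩, hconj⟩ := rules (show j < 14 by omega)
    set H := Sj j
    set g := pg j
    have hn : ∀ h ∈ H, g * h * g⁻¹ ∈ H := by
      intro h hh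
      induction hh using Subgroup.closure_induction with
      | mem _ hx =>
        obtain ⟨i, hi, rfl⟩ := hx
        obtain ⟨c, -, e⟩ := hconj i hi
        exact e ▸ seLow_mem_Sj j c
      | one => simp
      | mul a b _ _ ha hb => have := mul_mem ha hb; simpa [mul_assoc] using this
      | inv a _ ha => have := inv_mem ha; simpa [mul_assoc] using this
    have hg2 : g * g ∈ H := hsq ▸ seLow_mem_Sj j c2
    have hgi : ∀ h ∈ H, h * g⁻¹ ∈ {x | ∃ k ∈ H, x = g * k} := fun h hh =>
      ⟨(g * g)⁻¹ * (g * h * g⁻¹), mul_mem (inv_mem hg2) (hn h hh), by group⟩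
    have hgl : ∀ h ∈ H, h * g ∈ {x | ∃ k ∈ H, x = g * k} := fun h hh => by
      refine ⟨g⁻¹ * h * g, ?_, by group⟩
      have := mul_mem (mul_mem (inv_mem hg2) (hn h hh)) hg2
      have e : (g * g)⁻¹ * (g * h * g⁻¹) * (g * g) = g⁻¹ * h * g := by group
      exact e ▸ this
    have hform : ∀ x ∈ Sj (j + 1), x ∈ H ∨ ∃ k ∈ H, x = g * k := by
      intro x hx
      induction hx using Subgroup.closure_induction with
      | mem _ hy =>
        obtain ⟨i, hi, rfl⟩ := hy
        rcases Nat.lt_succ_iff_lt_or_eq.1 hi with hi | rfl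
        · exact Or.inl (Subgroup.subset_closure ⟨i, hi, rfl⟩)
        · exact Or.inr ⟨1, one_mem H, (mul_one _).symm⟩
      | one => exact Or.inl (one_mem H)
      | mul a b _ _ ha hb =>
        rcases ha with ha | ⟨k, hk, rfl⟩ <;> rcases hb with hb | ⟨l, hl, rfl⟩
        · exact Or.inl (mul_mem ha hb)
        · obtain ⟨m, hm, e⟩ := hgl a ha
          exact Or.inr ⟨m * l, mul_mem hm hl, by rw [← mul_assoc, e, mul_assoc]⟩
        · exact Or.inr ⟨k * b, mul_mem hk hb, mul_assoc _ _ _⟩
        · obtain ⟨m, hm, e⟩ := hgl k hk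
          refine Or.inl ?_
          have : g * k * (g * l) = g * g * (m * l) := by
            rw [mul_assoc g k, ← mul_assoc k g l, e]; group
          exact this ▸ mul_mem hg2 (mul_mem hm hl)
      | inv a _ ha =>
        rcases ha with ha | ⟨k, hk, rfl⟩
        · exact Or.inl (inv_mem ha)
        · rw [mul_inv_rev]
          exact Or.inr (hgi _ (inv_mem hk))
    have hg : g ∉ H := by
      intro hgH
      obtain ⟨e, he, hge⟩ := hsurj g hgH
      have h := List.all_eq_true.1 fresh_all j (List.mem_range.2 (by omega))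
      have h2 := List.all_eq_true.1 h e (List.mem_range.2 he)
      rw [Bool.not_eq_true', ← Bool.not_eq_true, onBase_iff] at h2
      refine h2 fun k => ?_
      rw [← se_apply, ← seLow_apply (by omega) he, hge, (pg_apply (by omega) _).1]
    constructor
    · intro x hx
      rcases hform x hx with hx | ⟨k, hk, rfl⟩
      · obtain ⟨e, he, rfl⟩ := hsurj x hx
        exact ⟨e, by rw [pow_succ]; omega, seLow_lt he⟩
      · obtain ⟨e, he, rfl⟩ := hsurj k hk
        exact ⟨2 ^ j + e, by rw [pow_succ]; omega, seLow_add he⟩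
    · intro a ha b hb hab
      rcases Nat.lt_or_ge a (2 ^ j) with h1 | h1 <;> rcases Nat.lt_or_ge b (2 ^ j) with h2 | h2
      · rw [seLow_lt h1, seLow_lt h2] at hab
        exact hinj a h1 b h2 hab
      · obtain ⟨b', rfl⟩ := Nat.exists_eq_add_of_le h2
        rw [pow_succ] at hb
        rw [seLow_lt h1, seLow_add (by omega : b' < 2 ^ j)] at hab
        refine absurd ?_ hg
        rw [show g = seLow j a * (seLow j b')⁻¹ from eq_mul_inv_of_mul_eq hab.symm]
        exact mul_mem (seLow_mem_Sj j a) (inv_mem (seLow_mem_Sj j b'))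
      · obtain ⟨a', rfl⟩ := Nat.exists_eq_add_of_le h1
        rw [pow_succ] at ha
        rw [seLow_lt h2, seLow_add (by omega : a' < 2 ^ j)] at hab
        refine absurd ?_ hg
        rw [show g = seLow j b * (seLow j a')⁻¹ from eq_mul_inv_of_mul_eq hab]
        exact mul_mem (seLow_mem_Sj j b) (inv_mem (seLow_mem_Sj j a'))
      · obtain ⟨a', rfl⟩ := Nat.exists_eq_add_of_le h1
        obtain ⟨b', rfl⟩ := Nat.exists_eq_add_of_le h2
        rw [pow_succ] at ha hb
        rw [seLow_add (by omega : a' < 2 ^ j), seLow_add (by omega : b' < 2 ^ j)] at hab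
        rw [hinj a' (by omega) b' (by omega) (mul_left_cancel hab)]

/-- The Sylow subgroup. -/
def S : Subgroup P240 := Sj 14

theorem mem_S {g : P240} (h : g ∈ S) : ∃ e < 16384, se e = g := by
  obtain ⟨e, he, hg⟩ := (Sj_spec le_rfl).1 g h
  exact ⟨e, he, se_eq ▸ hg⟩

theorem se_mem_S (e : ℕ) : se e ∈ S := se_eq ▸ seLow_mem_Sj 14 e

theorem S_le : S ≤ W := (Subgroup.closure_le _).2 fun x ⟨i, hi, hx⟩ => hx ▸ (pg_spec hi).2

theorem card_S : Nat.card S = 2 ^ 14 := by
  have e : Fin (2 ^ 14) ≃ S := Equiv.ofBijective (fun e => ⟨se e.val, se_mem_S _⟩)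
    ⟨fun a b h => Fin.ext ((Sj_spec le_rfl).2 a.val a.isLt b.val b.isLt (se_eq ▸ congrArg Subtype.val h)),
      fun x => by
        obtain ⟨e, he, hg⟩ := mem_S x.2
        exact ⟨⟨e, he⟩, Subtype.ext hg⟩⟩
  rw [← Nat.card_congr e, Nat.card_fin]

end Cfsg.Lib.OEightStd
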