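import Cfsg.Agent.OEightStd.Classify
import Cfsg.Agent.OEightStd.AutChecks
import Cfsg.Agent.S0296

/-!
The three surjections of the fourfold cover onto the index-two subgroup of the group of the root system, with their three kernels.
-/

set_option autoImplicit false
set_option maxRecDepth 100000
set_option linter.style.haveILetI false

namespace Cfsg.Lib.OEightStd

open Cfsg.Lib.PermCert Cfsg.Lib.CosetCert
open Cfsg.Lib.OEightCover (Cover imD actA actC actD toP zD)
open scoped commutatorElement

/-- A map from the second roots to the first. -/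
def psiF (i r : Fin 240) : Fin 240 := ⟨ap (psiT i.val) r.val,
  of_decide_eq_true (List.all_eq_true.1 (List.all_eq_true.1 psi_maps i.val (List.mem_range.2 i.isLt)) r.val
    (List.mem_range.2 r.isLt))⟩

theorem psiF_inj {i j : Fin 240} (h : ∀ r, psiF i r = psiF j r) : i = j := by
  have key : ∀ a b : Fin 240, b.val < a.val → psiF a 0 ≠ psiF b 0 := fun a b hlt e =>
    bne_iff_ne.1 (List.all_eq_true.1 (List.all_eq_true.1 psi_inj a.val (List.mem_range.2 a.isLt)) b.val
      (List.mem_range.2 hlt)) (congrArg Fin.val e)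
  rcases lt_trichotomy i.val j.val with h1 | h1 | h1
  · exact absurd (h 0).symm (key j i h1)
  · exact Fin.ext h1
  · exact absurd (h 0) (key i j h1)

/-- The elements carrying maps to maps by a permutation. -/
def carries (g : Cover) (p : Equiv.Perm (Fin 240)) : Prop := ∀ i r, actC g (psiF i r) = psiF (p i) (actD g r)

theorem psiOK_all {l : ℕ} (hl : l < 3) : psiOK l = true := by
  interval_cases l
  exacts [psi_0, psi_1, psi_2]

theorem carries_mul {g k : Cover} {p q : Equiv.Perm (Fin 240)} (hp : carries g p) (hq : carries k q) :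
    carries (g * k) (p * q) := fun i r => by
  simp only [map_mul, Equiv.Perm.mul_apply]
  rw [hq, hp]

theorem carries_exists (g : Cover) : ∃ p, carries g p := by
  let H : Subgroup Cover :=
    { carrier := {g | ∃ p, carries g p}
      one_mem' := ⟨1, fun i r => by simp⟩
      mul_mem' := fun ⟨p, hp⟩ ⟨q, hq⟩ => ⟨p * q, carries_mul hp hq⟩
      inv_mem' := fun {g} ⟨p, hp⟩ => ⟨p⁻¹, fun i r => (actC g).injective (by
        rw [hp, map_inv, map_inv, Equiv.Perm.coe_inv, Equiv.Perm.coe_inv, Equiv.apply_symm_apply,
          Equiv.Perm.coe_inv, Equiv.apply_symm_apply, Equiv.apply_symm_apply])⟩ }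
  have h : H = ⊤ := OEightCover.top_eq fun l hl => by
    have hh := psiOK_all hl
    simp only [psiOK, List.all_eq_true, Bool.and_eq_true, decide_eq_true_eq, beq_iff_eq, List.mem_range] at hh
    let f : Fin 240 → Fin 240 := fun i => ⟨_, (hh i.val i.isLt).1.1⟩
    have hf : ∀ i r, actC (imD l) (psiF i r) = psiF (f i) (actD (imD l) r) := fun i r => Fin.ext (by
      rw [OEightCover.actC, OEightCover.res_imD _ _ hl]
      show _ = ap (psiT (f i).val) (actD (imD l) r).val
      rw [OEightCover.actD, OEightCover.res_imD _ _ hl]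
      exact (hh i.val i.isLt).2 r.val r.isLt)
    have hinj : Function.Injective f := fun i j e => psiF_inj fun r => (actC (imD l)).injective (by
      rw [hf, hf, e])
    exact ⟨Equiv.ofBijective f (Finite.injective_iff_bijective.1 hinj), hf⟩
  exact (h.symm ▸ Subgroup.mem_top g : g ∈ H)

theorem carries_unique {g : Cover} {p q : Equiv.Perm (Fin 240)} (hp : carries g p) (hq : carries g q) : p = q :=
  Equiv.ext fun i => psiF_inj fun r => by
    have := (hp i ((actD g)⁻¹ r)).symm.trans (hq i ((actD g)⁻¹ r))
    simpa using this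

/-- The roots of the maps. -/
def sigma : P240 := perm 240 sigP

/-- The third action. -/
noncomputable def actP : Cover →* P240 :=
  (MulAut.conj sigma).toMonoidHom.comp (MonoidHom.mk' (fun g => (carries_exists g).choose) fun g k =>
    carries_unique (carries_exists (g * k)).choose_spec
      (carries_mul (carries_exists g).choose_spec (carries_exists k).choose_spec))

theorem letWords_mem {k l : ℕ} (hk : k < 3) (hl : l < 3) : ∀ a ∈ letWords k l, a < 3 := fun a ha =>
  of_decide_eq_true (List.all_eq_true.1 (List.all_eq_true.1 (List.all_eq_true.1 letWords_lt k (List.mem_range.2 hk)) l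
    (List.mem_range.2 hl)) a ha)

theorem actD_let {l : ℕ} (hl : l < 3) : actD (imD l) = wv (secondWords.getD l []) := Equiv.ext fun x => Fin.ext (by
  rw [OEightCover.actD, OEightCover.res_imD _ _ hl,
    wv_apply (w := secondWords.getD l []) fun a ha => Nat.lt_succ_of_lt (letWords_mem (k := 1) (by norm_num) hl a ha)]
  exact beq_iff_eq.1 (List.all_eq_true.1 (List.all_eq_true.1 second_ok l (List.mem_range.2 hl)) x.val
    (List.mem_range.2 x.isLt)))

theorem actP_let {l : ℕ} (hl : l < 3) : actP (imD l) = wv (thirdWords.getD l []) := by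
  set p := (carries_exists (imD l)).choose
  have hp : carries (imD l) p := (carries_exists (imD l)).choose_spec
  show sigma * p * sigma⁻¹ = _
  refine mul_inv_eq_iff_eq_mul.2 (Equiv.ext fun i => Fin.ext ?_)
  have hh := psiOK_all hl
  simp only [psiOK, List.all_eq_true, Bool.and_eq_true, decide_eq_true_eq, beq_iff_eq, List.mem_range] at hh
  have hpi : p i = ⟨_, (hh i.val i.isLt).1.1⟩ := psiF_inj fun r => by
    obtain ⟨s, rfl⟩ : ∃ s, actD (imD l) s = r := (actD (imD l)).surjective r
    rw [← hp]
    refine Fin.ext ?_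
    rw [OEightCover.actC, OEightCover.res_imD _ _ hl]
    show _ = ap (psiT _) (actD (imD l) s).val
    rw [OEightCover.actD, OEightCover.res_imD _ _ hl]
    exact (hh i.val i.isLt).2 s.val s.isLt
  rw [Equiv.Perm.mul_apply, Equiv.Perm.mul_apply, hpi, sigma, perm_apply sig_valid,
    wv_apply (w := thirdWords.getD l []) fun a ha => Nat.lt_succ_of_lt (letWords_mem (k := 2) (by norm_num) hl a ha),
    perm_apply sig_valid]
  exact (hh i.val i.isLt).1.2

/-- The three actions. -/
noncomputable def beta (k : Fin 3) : Cover →* P240 := ![actC, actD, actP] k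

theorem beta_let (k : Fin 3) {l : ℕ} (hl : l < 3) : beta k (imD l) = wv (letWords k.val l) := by
  fin_cases k
  · show actC (imD l) = wv [l]
    rw [actC_let hl]
    simp [wv, wval]
  · exact actD_let hl
  · exact actP_let hl

theorem beta_word (k : Fin 3) {w : List ℕ} (hw : ∀ l ∈ w, l < 3) :
    beta k (wval imD w) = wv (w.flatMap (letWords k.val)) := by
  induction w with
  | nil => simp [wval, wv]
  | cons l w ih =>
    have e : wval imD (l :: w) = imD l * wval imD w := by simp [wval]
    rw [e, map_mul, beta_let k (hw l List.mem_cons_self), ih fun a ha => hw a (List.mem_cons_of_mem _ ha),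
      List.flatMap_cons]
    simp [wv, wval]

theorem beta_mem (k : Fin 3) (g : Cover) : beta k g ∈ Pr := by
  have h : Pr.comap (beta k) = ⊤ := OEightCover.top_eq fun l hl => by
    rw [Subgroup.mem_comap, beta_let k hl, Pr_eq]
    refine lgp_wval let' ?_
    simpa [inLetters] using letWords_mem k.isLt hl
  exact (h.symm ▸ Subgroup.mem_top g : g ∈ Pr.comap (beta k))

/-- The three central involutions, by the action killing them. -/
noncomputable def zk (k : Fin 3) : Cover := wval imD (zkWords k.val)

theorem zkWords_lt (k : Fin 3) : ∀ l ∈ zkWords k.val, l < 3 := by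
  have h := List.all_eq_true.1 zk_ok k.val (List.mem_range.2 k.isLt)
  simp only [Bool.and_eq_true, List.all_eq_true, decide_eq_true_eq] at h
  exact h.1

theorem beta_zk (j k : Fin 3) : beta j (zk k) = 1 ↔ j = k := by
  have h := List.all_eq_true.1 zk_ok k.val (List.mem_range.2 k.isLt)
  simp only [Bool.and_eq_true] at h
  have h2 := beq_iff_eq.1 (List.all_eq_true.1 h.2 j.val (List.mem_range.2 j.isLt))
  have hlt : ∀ a ∈ (zkWords k.val).flatMap (letWords j.val), a < 4 := fun a ha => by
    obtain ⟨l, hl, ha⟩ := List.mem_flatMap.1 ha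
    exact Nat.lt_succ_of_lt (letWords_mem j.isLt (zkWords_lt k l hl) a ha)
  rw [zk, beta_word j (zkWords_lt k)]
  constructor
  · intro e
    have ha : ((List.range 240).all fun x => evalL ((zkWords k.val).flatMap (letWords j.val)) x == x) = true := by
      rw [List.all_eq_true]
      intro x hx
      rw [beq_iff_eq]
      have := wv_apply hlt ⟨x, List.mem_range.1 hx⟩
      rw [e, Equiv.Perm.one_apply] at this
      exact this.symm
    rw [ha] at h2
    exact Fin.ext (beq_iff_eq.1 h2.symm)
  · rintro rfl
    rw [beq_self_eq_true] at h2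
    refine Equiv.ext fun x => Fin.ext ?_
    rw [Equiv.Perm.one_apply, wv_apply hlt]
    exact beq_iff_eq.1 (List.all_eq_true.1 h2 x.val (List.mem_range.2 x.isLt))

theorem zk_mem (k : Fin 3) : zk k ∈ toP.ker := by
  have h0 := (OEightCover.zD_facts (k := 0) (by norm_num)).1
  have h1 := (OEightCover.zD_facts (k := 1) (by norm_num)).1
  fin_cases k
  · exact h1
  · exact h0
  · show wval imD (_ ++ _) ∈ toP.ker
    rw [wval_append']
    exact mul_mem h0 h1

theorem zk_ne (k : Fin 3) : zk k ≠ 1 := fun e => by
  obtain ⟨j, hj⟩ : ∃ j : Fin 3, j ≠ k := exists_ne k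
  exact hj ((beta_zk j k).1 (by rw [e, map_one]))

theorem zk_inj : Function.Injective zk := fun j k e => (beta_zk j k).1 (e ▸ (beta_zk j j).2 rfl)

theorem ker_cases {g : Cover} (hg : g ∈ toP.ker) : g = 1 ∨ ∃ k, zk k = g := by
  have hsub : insert (1 : Cover) (Set.range zk) ⊆ (toP.ker : Set Cover) := by
    rintro x (rfl | ⟨k, rfl⟩)
    exacts [one_mem _, zk_mem k]
  have hcard : (insert (1 : Cover) (Set.range zk)).ncard = 4 := by
    rw [Set.ncard_insert_of_notMem (by simpa using fun k => zk_ne k) (Set.toFinite _), ← Set.image_univ,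
      Set.ncard_image_of_injective _ zk_inj, Set.ncard_univ, Nat.card_fin]
  have e := Set.eq_of_subset_of_ncard_le hsub
    (by rw [hcard]; exact OEightCover.card_facts.2.1.le) (Set.toFinite _)
  have := (e.symm ▸ hg : g ∈ insert (1 : Cover) (Set.range zk))
  simpa using this

theorem qf_simple : IsSimpleGroup (Cfsg.POmega (ZMod 2) OEightCover.qf) :=
  Cfsg.Agent.S0296.result 4 le_rfl

/-- A proper normal subgroup of the cover lies in the kernel of the projection. -/
theorem normal_le {N : Subgroup Cover} [N.Normal] (hN : N ≠ ⊤) : N ≤ toP.ker := by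
  have := qf_simple
  have hn : (N.map toP).Normal := (inferInstance : N.Normal).map toP OEightCover.card_facts.2.2
  rcases hn.eq_bot_or_eq_top with h | h
  · exact (Subgroup.map_eq_bot_iff N).1 h
  · refine absurd (eq_top_iff.2 ?_) hN
    rw [← OEightCover.cover_perfect, commutator_def, Subgroup.commutator_le]
    intro a _ b _
    have key : ∀ a : Cover, ∃ n ∈ N, n⁻¹ * a ∈ Subgroup.center Cover := fun a => by
      obtain ⟨n, hn, e⟩ := (h.symm ▸ Subgroup.mem_top (toP a) : toP a ∈ N.map toP)
      refine ⟨n, hn, OEightCover.ker_le (fun k hk => (OEightCover.zD_facts hk).2.1) ?_⟩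
      rw [MonoidHom.mem_ker, map_mul, map_inv, e, inv_mul_cancel]
    obtain ⟨m, hm, hc⟩ := key a
    obtain ⟨n, hn, hd⟩ := key b
    have e : ⁅a, b⁆ = ⁅m, n⁆ := by
      have ha : a = m * (m⁻¹ * a) := by group
      have hb : b = n * (n⁻¹ * b) := by group
      generalize m⁻¹ * a = c at hc ha
      generalize n⁻¹ * b = d at hd hb
      subst ha hb
      have hc' : ∀ y, y * c = c * y := Subgroup.mem_center_iff.1 hc
      have hd' : ∀ y, y * d = d * y := Subgroup.mem_center_iff.1 hd
      simp only [commutatorElement_def, mul_inv_rev]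
      calc m * c * (n * d) * (c⁻¹ * m⁻¹) * (d⁻¹ * n⁻¹)
          = m * (c * (n * d)) * c⁻¹ * m⁻¹ * d⁻¹ * n⁻¹ := by group
        _ = m * (n * d * c) * c⁻¹ * m⁻¹ * d⁻¹ * n⁻¹ := by rw [hc']
        _ = m * n * (d * m⁻¹) * d⁻¹ * n⁻¹ := by group
        _ = m * n * (m⁻¹ * d) * d⁻¹ * n⁻¹ := by rw [hd']
        _ = _ := by group
    rw [e]
    exact mul_mem (mul_mem (mul_mem hm hn) (inv_mem hm)) (inv_mem hn)

theorem ker_beta (k : Fin 3) : (beta k).ker = Subgroup.zpowers (zk k) ∧ Nat.card (beta k).ker = 2 := by
  obtain ⟨j, hj⟩ : ∃ j : Fin 3, j ≠ k := exists_ne k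
  have hne : (beta k).ker ≠ ⊤ := fun h =>
    hj.symm ((beta_zk k j).1 (MonoidHom.mem_ker.1 (h ▸ Subgroup.mem_top (zk j))))
  have hle := normal_le hne
  have hsq : zk k * zk k = 1 := OEightCover.ker_sq (zk_mem k)
  have hz : (beta k).ker = Subgroup.zpowers (zk k) := by
    refine le_antisymm (fun g hg => ?_) (Subgroup.zpowers_le.2 (MonoidHom.mem_ker.2 ((beta_zk k k).2 rfl)))
    rcases ker_cases (hle hg) with rfl | ⟨i, rfl⟩
    · exact one_mem _
    · obtain rfl := (beta_zk k i).1 (MonoidHom.mem_ker.1 hg)
      exact Subgroup.mem_zpowers _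
  exact ⟨hz, by rw [hz, Nat.card_zpowers]; exact orderOf_eq_prime (by rw [pow_two, hsq]) (zk_ne k)⟩

/-- The three surjections. -/
noncomputable def betaP (k : Fin 3) : Cover →* Pr := (beta k).codRestrict Pr (beta_mem k)

theorem ker_betaP (k : Fin 3) : (betaP k).ker = (beta k).ker := MonoidHom.ker_codRestrict _ _ _

theorem betaP_surjective (k : Fin 3) : Function.Surjective (betaP k) := by
  refine MonoidHom.range_eq_top.1 (Subgroup.eq_top_of_card_eq _ ?_)
  have h := Subgroup.card_mul_index (betaP k).ker
  rw [Subgroup.index_ker, ker_betaP, (ker_beta k).2, OEightCover.card_cover] at h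
  rw [card_Pr]
  omega

theorem Pr_perfect : commutator Pr = ⊤ := by
  rw [commutator_def, ← Subgroup.map_top_of_surjective _ (betaP_surjective 0), ← Subgroup.map_commutator,
    ← commutator_def, OEightCover.cover_perfect]

theorem Pr_not_comm : ¬ (Subgroup.center Pr = ⊤) := fun h => by
  have hb : commutator Pr = ⊥ := by
    rw [commutator_def, Subgroup.commutator_eq_bot_iff_le_centralizer]
    intro x _
    exact Subgroup.mem_centralizer_iff.2 fun y _ => Subgroup.mem_center_iff.1 (h ▸ Subgroup.mem_top x) y
  have h1 : (⊤ : Subgroup Pr) = ⊥ := Pr_perfect.symm.trans hb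
  have := congrArg (fun H : Subgroup Pr => Nat.card H) h1
  simp [card_Pr] at this

/-- The preimage of the centre under a surjection of the cover is the kernel of the projection. -/
theorem comap_center {f : Cover →* Pr} (hf : Function.Surjective f) : (Subgroup.center Pr).comap f = toP.ker := by
  refine le_antisymm (normal_le fun h => Pr_not_comm (eq_top_iff.2 fun x _ => ?_))
    (fun g hg => Subgroup.mem_center_iff.2 fun y => ?_)
  · obtain ⟨g, rfl⟩ := hf x
    exact (h.symm ▸ Subgroup.mem_top g : g ∈ (Subgroup.center Pr).comap f)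
  · obtain ⟨a, rfl⟩ := hf y
    rw [← map_mul, ← map_mul]
    exact congrArg f (Subgroup.mem_center_iff.1 (OEightCover.ker_le (fun k hk => (OEightCover.zD_facts hk).2.1) hg) a)

end Cfsg.Lib.OEightStd
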